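/-
Hermitian vectors, window subgroups of the special unitary group and the embedding of a smaller one.
-/
import Cfsg.Prelude.Def_PhanSystems
import Cfsg.Agent.Lib.Classical.HermBasic

set_option autoImplicit false

namespace CfsgLib.Chev.CT.Phan

open Matrix Cfsg

universe u v

variable {F : Type u} [Field F] {q N : ℕ}

/-- The `q`th power as a ring automorphism, with the properties used for the Hermitian form. -/
structure UF (F : Type u) [Field F] (q : ℕ) where
  σ : F →+* F
  hσ : ∀ a, σ a = a ^ q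
  hσσ : ∀ a, σ (σ a) = a
  exists_norm : ∀ c, σ c = c → ∃ x, x * σ x = c
  exists_trace : ∃ z, z + σ z = 1
  exists_moved : ∃ z, σ z ≠ z
  exists_rot : ∃ l, l * σ l = 1 ∧ l * l ≠ 1

/-- The value of the form. -/
abbrev hf (q : ℕ) (x y : Fin N → F) : F := hermForm N F q x y

/-- A basis vector, indexed by a natural number. -/
def ev (F : Type u) [Field F] (N i : ℕ) : Fin N → F := fun j => if (j : ℕ) = i then 1 else 0

/-- The action on column vectors. -/
def act (g : SU N F q) (v : Fin N → F) : Fin N → F :=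
  ((g : Matrix.SpecialLinearGroup (Fin N) F) : Matrix (Fin N) (Fin N) F) *ᵥ v

@[simp] theorem act_one (v : Fin N → F) : act (1 : SU N F q) v = v := one_mulVec v
@[simp] theorem act_mul (g g' : SU N F q) (v : Fin N → F) : act (g * g') v = act g (act g' v) := by
  simp [act, mulVec_mulVec]
@[simp] theorem act_add (g : SU N F q) (u v : Fin N → F) : act g (u + v) = act g u + act g v :=
  mulVec_add _ _ _
@[simp] theorem act_sub (g : SU N F q) (u v : Fin N → F) : act g (u - v) = act g u - act g v :=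
  mulVec_sub _ _ _
@[simp] theorem act_smul (g : SU N F q) (c : F) (v : Fin N → F) : act g (c • v) = c • act g v :=
  mulVec_smul _ _ _
@[simp] theorem act_zero (g : SU N F q) : act g 0 = 0 := mulVec_zero _

@[simp] theorem act_inv_act (g : SU N F q) (v : Fin N → F) : act g⁻¹ (act g v) = v := by
  rw [← act_mul, inv_mul_cancel, act_one]

@[simp] theorem act_act_inv (g : SU N F q) (v : Fin N → F) : act g (act g⁻¹ v) = v := by
  rw [← act_mul, mul_inv_cancel, act_one]

theorem act_inv_eq {g : SU N F q} {u v : Fin N → F} (h : act g u = v) : act g⁻¹ v = u := by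
  rw [← h, act_inv_act]

theorem hf_act (g : SU N F q) (u v : Fin N → F) : hf q (act g u) (act g v) = hf q u v := g.2 u v

theorem ev_fin (i : Fin N) : ev F N (i : ℕ) = Pi.single i 1 := by
  funext j; simp [ev, Pi.single_apply, Fin.ext_iff]

theorem su_ext {g h : SU N F q} (e : ∀ i, i < N → act g (ev F N i) = act h (ev F N i)) : g = h := by
  refine Subtype.ext (Subtype.ext (Matrix.ext_of_mulVec_single fun i => ?_))
  simpa [act, ev_fin] using e i i.isLt

theorem ev_self (i : Fin N) : ev F N (i : ℕ) i = 1 := by simp [ev]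

namespace UF

variable (U : UF F q)
include U

theorem hf_eq (u v : Fin N → F) : hf q u v = ∑ i, u i * U.σ (v i) := by simp [hf, hermForm, U.hσ]

theorem add_l (x y z : Fin N → F) : hf q (x + y) z = hf q x z + hf q y z := by
  simp [U.hf_eq, add_mul, Finset.sum_add_distrib]

theorem add_r (x y z : Fin N → F) : hf q x (y + z) = hf q x y + hf q x z := by
  simp [U.hf_eq, mul_add, Finset.sum_add_distrib]

theorem smul_l (c : F) (x y : Fin N → F) : hf q (c • x) y = c * hf q x y := by
  simp [U.hf_eq, Finset.mul_sum, mul_assoc]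

theorem smul_r (c : F) (x y : Fin N → F) : hf q x (c • y) = U.σ c * hf q x y := by
  simp [U.hf_eq, Finset.mul_sum, mul_left_comm]

theorem sub_l (x y z : Fin N → F) : hf q (x - y) z = hf q x z - hf q y z := by
  simp [U.hf_eq, sub_mul, Finset.sum_sub_distrib]

theorem sub_r (x y z : Fin N → F) : hf q x (y - z) = hf q x y - hf q x z := by
  simp [U.hf_eq, mul_sub, Finset.sum_sub_distrib]

theorem swap (x y : Fin N → F) : U.σ (hf q x y) = hf q y x := by
  simp [U.hf_eq, map_sum, U.hσσ, mul_comm]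

theorem swap_eq_zero {x y : Fin N → F} (h : hf q x y = 0) : hf q y x = 0 := by
  rw [← U.swap, h, map_zero]

theorem zero_l (x : Fin N → F) : hf q 0 x = 0 := by simp [U.hf_eq]
theorem zero_r (x : Fin N → F) : hf q x 0 = 0 := by simp [U.hf_eq]

theorem ev_r (x : Fin N → F) {i : ℕ} (hi : i < N) : hf q x (ev F N i) = x ⟨i, hi⟩ := by
  rw [U.hf_eq, Finset.sum_eq_single ⟨i, hi⟩]
  · simp [ev]
  · intro j _ hj
    have : (j : ℕ) ≠ i := fun e => hj (Fin.ext e)
    simp [ev, this]
  · simp

theorem ev_ev {i j : ℕ} (hi : i < N) (_hj : j < N) :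
    hf q (ev F N j) (ev F N i) = if i = j then 1 else 0 := by
  rw [U.ev_r _ hi]; simp [ev]

theorem ev_self {i : ℕ} (hi : i < N) : hf q (ev F N i) (ev F N i) = 1 := by
  rw [U.ev_ev hi hi, if_pos rfl]

theorem ev_ne {i j : ℕ} (hi : i < N) (hj : j < N) (h : i ≠ j) :
    hf q (ev F N i) (ev F N j) = 0 := by
  rw [U.ev_ev hj hi, if_neg (Ne.symm h)]

theorem norm_fix (x : F) : U.σ (x * U.σ x) = x * U.σ x := by rw [map_mul, U.hσσ, mul_comm]

theorem exists_inv_sqrt {c : F} (hc : U.σ c = c) (h0 : c ≠ 0) :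
    ∃ x, x * U.σ x * c = 1 := by
  obtain ⟨x, hx⟩ := U.exists_norm c⁻¹ (by rw [map_inv₀, hc])
  exact ⟨x, by rw [hx, inv_mul_cancel₀ h0]⟩

theorem hf_self_fix (x : Fin N → F) : U.σ (hf q x x) = hf q x x := U.swap x x

theorem exists_unit_smul {x : Fin N → F} (h : hf q x x ≠ 0) :
    ∃ c : F, c ≠ 0 ∧ hf q (c • x) (c • x) = 1 := by
  obtain ⟨c, hc⟩ := U.exists_inv_sqrt (U.hf_self_fix x) h
  refine ⟨c, fun e => by simp [e] at hc, ?_⟩
  rw [U.smul_l, U.smul_r, ← mul_assoc, hc]

end UF

/-- The elements fixing the basis vectors outside an interval. -/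
def FB (F : Type u) [Field F] (q N i j : ℕ) : Subgroup (SU N F q) where
  carrier := {g | ∀ k, k < N → k < i ∨ j ≤ k → act g (ev F N k) = ev F N k}
  one_mem' := fun k _ _ => act_one _
  mul_mem' := fun {g h} hg hh k hk hk' => by rw [act_mul, hh k hk hk', hg k hk hk']
  inv_mem' := fun {g} hg k hk hk' => act_inv_eq (hg k hk hk')

theorem FB_mono {i j i' j' : ℕ} (h : i' ≤ i) (h' : j ≤ j') : FB F q N i j ≤ FB F q N i' j' :=
  fun g hg k hk hk' => hg k hk (by omega)

/-- Vectors with no coordinate outside an interval. -/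
def Win (i j : ℕ) (v : Fin N → F) : Prop := ∀ k : Fin N, (k : ℕ) < i ∨ j ≤ (k : ℕ) → v k = 0

theorem Win.add {i j : ℕ} {u v : Fin N → F} (hu : Win i j u) (hv : Win i j v) : Win i j (u + v) :=
  fun k hk => by simp [hu k hk, hv k hk]

theorem Win.sub {i j : ℕ} {u v : Fin N → F} (hu : Win i j u) (hv : Win i j v) : Win i j (u - v) :=
  fun k hk => by simp [hu k hk, hv k hk]

theorem Win.smul {i j : ℕ} {v : Fin N → F} (hv : Win i j v) (c : F) : Win i j (c • v) :=
  fun k hk => by simp [hv k hk]

theorem Win.mono {i j i' j' : ℕ} {v : Fin N → F} (hv : Win i j v) (h : i' ≤ i) (h' : j ≤ j') :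
    Win i' j' v := fun k hk => hv k (by omega)

theorem Win_ev {i j k : ℕ} (h : i ≤ k) (h' : k < j) : Win i j (ev F N k) := fun l hl => by
  simp [ev]; omega

theorem UF.win_om (U : UF F q) {i j k : ℕ} {v : Fin N → F} (hv : Win i j v) (hk : k < N)
    (h : k < i ∨ j ≤ k) : hf q (ev F N k) v = 0 :=
  U.swap_eq_zero (by rw [U.ev_r _ hk]; exact hv _ h)

theorem UF.Win_act (U : UF F q) {i j : ℕ} {g : SU N F q} (hg : g ∈ FB F q N i j) {v : Fin N → F}
    (hv : Win i j v) : Win i j (act g v) := fun k hk => by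
  have h : hf q (act g v) (act g (ev F N k)) = 0 := by
    rw [hf_act, U.ev_r _ k.isLt]; exact hv _ hk
  rwa [hg k k.isLt hk, U.ev_r _ k.isLt] at h

theorem UF.FB_act_perp (U : UF F q) {i j : ℕ} {g : SU N F q} (hg : g ∈ FB F q N i j) {v : Fin N → F}
    (hv : ∀ k : Fin N, i ≤ (k : ℕ) → (k : ℕ) < j → v k = 0) : act g v = v := by
  have e : v = ∑ k, v k • ev F N (k : ℕ) := by
    funext l; simp [ev, Finset.sum_apply, Fin.val_inj]
  conv_lhs => rw [e]
  conv_rhs => rw [e]
  simp only [act, mulVec_sum, mulVec_smul]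
  refine Finset.sum_congr rfl fun k _ => ?_
  by_cases hk : (k : ℕ) < i ∨ j ≤ (k : ℕ)
  · congr 1; exact hg k k.isLt hk
  · push Not at hk; simp [hv k hk.1 hk.2]

section Emb

variable {m : ℕ} (o : ℕ) (ho : o + m ≤ N)

/-- The window as a summand of the indices. -/
def winEquiv : Fin m ⊕ {k : Fin N // ¬(o ≤ (k : ℕ) ∧ (k : ℕ) < o + m)} ≃ Fin N where
  toFun s := Sum.elim (fun i : Fin m => (⟨o + i, by omega⟩ : Fin N)) Subtype.val s
  invFun k := if h : o ≤ (k : ℕ) ∧ (k : ℕ) < o + m then Sum.inl ⟨(k : ℕ) - o, by omega⟩ else Sum.inr ⟨k, h⟩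
  left_inv s := by
    rcases s with i | ⟨k, hk⟩
    · simp
    · simp [hk]
  right_inv k := by
    by_cases h : o ≤ (k : ℕ) ∧ (k : ℕ) < o + m
    · simp [h]
    · simp [h]

/-- A window matrix. -/
def embMat (A : Matrix (Fin m) (Fin m) F) : Matrix (Fin N) (Fin N) F :=
  (fromBlocks A 0 0 1).submatrix (winEquiv o ho).symm (winEquiv o ho).symm

theorem embMat_mul (A B : Matrix (Fin m) (Fin m) F) :
    embMat o ho (A * B) = embMat o ho A * embMat o ho B := by
  simp [embMat, fromBlocks_multiply]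

theorem embMat_mulVec (A : Matrix (Fin m) (Fin m) F) (v : Fin N → F) :
    embMat o ho A *ᵥ v = Sum.elim (A *ᵥ fun i => v (winEquiv o ho (Sum.inl i)))
      (fun k => v k.1) ∘ (winEquiv o ho).symm := by
  rw [embMat, submatrix_mulVec_equiv, fromBlocks_mulVec]
  congr 1
  funext s
  cases s <;> simp [zero_mulVec, one_mulVec] <;> rfl

/-- The embedding of a window. -/
def embSU (U : UF F q) : SU m F q →* SU N F q where
  toFun A := ⟨⟨embMat o ho A.1.1, by simp [embMat, A.1.2]⟩, fun u v => by
    show hermForm N F q (embMat o ho A.1.1 *ᵥ u) (embMat o ho A.1.1 *ᵥ v) = hermForm N F q u v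
    simp only [hermForm]
    rw [← (winEquiv o ho).sum_comp, ← (winEquiv o ho).sum_comp]
    simp only [embMat_mulVec, Function.comp_apply, Equiv.symm_apply_apply, Fintype.sum_sum_type,
      Sum.elim_inl, Sum.elim_inr]
    exact congrArg (· + _) (A.2 _ _)⟩
  map_one' := Subtype.ext (Subtype.ext (by
    show embMat o ho (1 : Matrix (Fin m) (Fin m) F) = 1
    simp [embMat]))
  map_mul' A B := Subtype.ext (Subtype.ext (embMat_mul o ho A.1.1 B.1.1))

variable (U : UF F q)

theorem act_embSU (A : SU m F q) (v : Fin N → F) :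
    act (embSU o ho U A) v = Sum.elim (act A fun i => v (winEquiv o ho (Sum.inl i)))
      (fun k => v k.1) ∘ (winEquiv o ho).symm :=
  embMat_mulVec o ho A.1.1 v

theorem embSU_inl (A : SU m F q) (v : Fin N → F) (i : Fin m) :
    act (embSU o ho U A) v (winEquiv o ho (Sum.inl i)) =
      act A (fun i => v (winEquiv o ho (Sum.inl i))) i := by
  simp [act_embSU]

theorem embSU_mem (A : SU m F q) : embSU o ho U A ∈ FB F q N o (o + m) := by
  intro k hk hk'
  rw [act_embSU]
  funext l
  obtain ⟨s, rfl⟩ := (winEquiv o ho).surjective l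
  rw [Function.comp_apply, Equiv.symm_apply_apply]
  have h0 : ∀ i : Fin m, ev F N k (winEquiv o ho (Sum.inl i)) = 0 := fun i => by
    simp only [ev]; rw [if_neg]; have := i.isLt; simp [winEquiv]; omega
  cases s with
  | inl i =>
    simp only [Sum.elim_inl, h0]
    exact congrFun (act_zero A) i
  | inr l => rfl

theorem mem_range_embSU {g : SU N F q} (hg : g ∈ FB F q N o (o + m)) :
    g ∈ (embSU o ho U).range := by
  classical
  set E := winEquiv o ho
  let M : Matrix (Fin N) (Fin N) F := g.1.1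
  let A : Matrix (Fin m) (Fin m) F := fun i j => M (E (Sum.inl i)) (E (Sum.inl j))
  have hcol : ∀ (r : Fin N) (k : {k : Fin N // ¬(o ≤ (k : ℕ) ∧ (k : ℕ) < o + m)}),
      M r k.1 = if r = k.1 then 1 else 0 := by
    intro r k
    have h := congrFun (hg k.1 k.1.isLt (by have := k.2; omega)) r
    simpa [act, ev_fin, Pi.single_apply] using h
  have hrow : ∀ (k : {k : Fin N // ¬(o ≤ (k : ℕ) ∧ (k : ℕ) < o + m)}) (j : Fin m),
      M k.1 (E (Sum.inl j)) = 0 := by
    intro k j
    have hw : Win o (o + m) (ev F N ((E (Sum.inl j) : Fin N) : ℕ)) :=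
      Win_ev (by simp [E, winEquiv]) (by simp [E, winEquiv])
    have h := U.Win_act hg hw k.1 (by have := k.2; omega)
    simpa [act, ev_fin] using h
  have hM : M = embMat o ho A := by
    ext r c
    obtain ⟨s, rfl⟩ := E.surjective r
    obtain ⟨t, rfl⟩ := E.surjective c
    simp only [embMat, submatrix_apply, E, Equiv.symm_apply_apply]
    rcases s with i | k <;> rcases t with j | l
    · rfl
    · rw [show winEquiv o ho (Sum.inr l) = l.1 from rfl, hcol, if_neg]
      · rfl
      · intro e; exact l.2 (e ▸ ⟨by simp [winEquiv], by simp [winEquiv]⟩)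
    · exact hrow k j
    · rw [show winEquiv o ho (Sum.inr l) = l.1 from rfl, hcol]
      by_cases hkl : (k.1 : Fin N) = l.1 <;> simp [one_apply, winEquiv, Subtype.ext_iff, hkl]
  have hdet : A.det = 1 := by
    have h : M.det = 1 := g.1.2
    rw [hM] at h
    simpa [embMat] using h
  refine ⟨⟨⟨A, hdet⟩, fun u v => ?_⟩, Subtype.ext (Subtype.ext hM.symm)⟩
  let ex : (Fin m → F) → Fin N → F := fun u => Sum.elim u 0 ∘ E.symm
  have hex : ∀ u, M *ᵥ ex u = Sum.elim (A *ᵥ u) 0 ∘ E.symm := fun u => by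
    rw [hM, embMat_mulVec]
    congr 1
    funext s
    rcases s with i | k
    · simp [ex, E]
    · have : E.symm k.1 = Sum.inr k := (winEquiv o ho).symm_apply_apply (Sum.inr k)
      simp [ex, this]
  have hq : ∀ u v : Fin m → F,
      hermForm N F q (Sum.elim u 0 ∘ E.symm) (Sum.elim v 0 ∘ E.symm) = hermForm m F q u v := fun u v => by
    simp only [hermForm]
    rw [← E.sum_comp]
    simp only [Function.comp_apply, Equiv.symm_apply_apply, Fintype.sum_sum_type, Sum.elim_inl,
      Sum.elim_inr, Pi.zero_apply, zero_mul, Finset.sum_const_zero, add_zero]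
  show hermForm m F q (A *ᵥ u) (A *ᵥ v) = hermForm m F q u v
  rw [← hq, ← hex, ← hex]
  exact (g.2 (ex u) (ex v)).trans (hq u v)

theorem range_embSU : (embSU o ho U).range = FB F q N o (o + m) :=
  le_antisymm (by rintro _ ⟨A, rfl⟩; exact embSU_mem o ho U A) fun _ h => mem_range_embSU o ho U h

theorem embSU_injective : Function.Injective (embSU (F := F) (q := q) o ho U) := by
  intro A B h
  have hM : embMat o ho A.1.1 = embMat o ho B.1.1 := congrArg (fun x : SU N F q => x.1.1) h
  refine Subtype.ext (Subtype.ext (Matrix.ext fun i j => ?_))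
  simpa [embMat] using congrFun (congrFun hM (winEquiv o ho (Sum.inl i))) (winEquiv o ho (Sum.inl j))

end Emb

theorem embSU_embSU {m l : ℕ} (o : ℕ) (ho : o + m ≤ N) (o' : ℕ) (ho' : o' + l ≤ m)
    (hoo : (o + o') + l ≤ N) (U : UF F q) (A : SU l F q) :
    embSU o ho U (embSU o' ho' U A) = embSU (o + o') hoo U A := by
  refine su_ext fun k hk => ?_
  rw [act_embSU o ho, act_embSU (o + o') hoo]
  funext r
  obtain ⟨s, rfl⟩ := (winEquiv o ho).surjective r
  rw [Function.comp_apply, Function.comp_apply, Equiv.symm_apply_apply]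
  cases s with
  | inl i =>
    rw [Sum.elim_inl, act_embSU o' ho', Function.comp_apply]
    obtain ⟨s', rfl⟩ := (winEquiv o' ho').surjective i
    rw [Equiv.symm_apply_apply]
    cases s' with
    | inl i' =>
      rw [show winEquiv o ho (Sum.inl (winEquiv o' ho' (Sum.inl i'))) =
        winEquiv (o + o') hoo (Sum.inl i') from Fin.ext (by simp [winEquiv]; omega),
        Equiv.symm_apply_apply, Sum.elim_inl, Sum.elim_inl]
      congr 2
      funext j
      exact congrArg _ (Fin.ext (by simp [winEquiv]; omega))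
    | inr l' =>
      have hl := l'.2
      rw [show winEquiv o ho (Sum.inl (winEquiv o' ho' (Sum.inr l'))) =
        winEquiv (o + o') hoo (Sum.inr ⟨⟨o + (l'.1 : ℕ), by omega⟩, by simp; omega⟩) from
          Fin.ext (by simp [winEquiv]),
        Equiv.symm_apply_apply, Sum.elim_inr, Sum.elim_inr]
      exact congrArg _ (Fin.ext (by simp [winEquiv]))
  | inr l =>
    have hl := l.2
    rw [show winEquiv o ho (Sum.inr l) = winEquiv (o + o') hoo (Sum.inr ⟨l.1, by omega⟩) from rfl,
      Equiv.symm_apply_apply]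
    rfl

end CfsgLib.Chev.CT.Phan
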