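/-
The amalgam of rank-one and rank-two window groups: lifts in the product with the target group.
-/
import Cfsg.Agent.Lib.Chev.CT.Phan.Basic

set_option autoImplicit false

namespace CfsgLib.Chev.CT.Phan

open Matrix Cfsg

universe u v

variable {F : Type u} [Field F] {q N : ℕ}

namespace UF

variable (U : UF F q)

/-- The norm. -/
def nm (x : F) : F := x * U.σ x

theorem nm_fix (x : F) : U.σ (U.nm x) = U.nm x := U.norm_fix x

theorem nm_mul (x y : F) : U.nm (x * y) = U.nm x * U.nm y := by simp [nm]; ring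
theorem nm_zero : U.nm 0 = 0 := by simp [nm]
theorem nm_one : U.nm 1 = 1 := by simp [nm]
theorem nm_neg (x : F) : U.nm (-x) = U.nm x := by simp [nm]
theorem nm_sigma (x : F) : U.nm (U.σ x) = U.nm x := by simp [nm, U.hσσ, mul_comm]
theorem nm_inv (x : F) : U.nm x⁻¹ = (U.nm x)⁻¹ := by simp [nm, _root_.mul_inv_rev, mul_comm]
theorem nm_div (x y : F) : U.nm (x / y) = U.nm x / U.nm y := by
  rw [div_eq_mul_inv, nm_mul, nm_inv, div_eq_mul_inv]

theorem nm_eq_zero {x : F} : U.nm x = 0 ↔ x = 0 := by simp [nm]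

theorem nm_add (x y : F) : U.nm (x + y) = U.nm x + U.nm y + (x * U.σ y + U.σ (x * U.σ y)) := by
  simp [nm, U.hσσ]; ring

theorem exists_sqrt {c : F} (hc : U.σ c = c) : ∃ x, U.nm x = c := U.exists_norm c hc

/-- A cross term that is not trace zero. -/
theorem exists_cross (hα : ∃ α, U.nm α ≠ 0 ∧ U.nm α ≠ 1) {X : F} (hX : X ≠ 0) :
    ∃ a b, U.nm a + U.nm b = 1 ∧ a * b * X + U.σ (a * b * X) ≠ 0 := by
  obtain ⟨c, hc0, hc1⟩ := hα
  obtain ⟨d, hd⟩ := U.exists_sqrt (c := 1 - U.nm c) (by rw [map_sub, map_one, U.nm_fix])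
  have hd0 : d ≠ 0 := fun e => hc1 (by rw [e, U.nm_zero] at hd; linear_combination hd)
  have hc : c ≠ 0 := fun e => hc0 (by rw [e, U.nm_zero])
  obtain ⟨l, hl, hl2⟩ := U.exists_rot
  by_contra hne
  push Not at hne
  have h1 := hne c d (by rw [hd]; ring)
  have h2 := hne c (l * d) (by rw [U.nm_mul, hd, show U.nm l = 1 from hl]; ring)
  simp only [map_mul] at h1 h2
  have h3 : c * d * X * (l - U.σ l) = 0 := by linear_combination h2 - U.σ l * h1
  have h4 : l = U.σ l := sub_eq_zero.1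
    ((mul_eq_zero.1 h3).resolve_left (mul_ne_zero (mul_ne_zero hc hd0) hX))
  exact hl2 (by rw [← h4] at hl; exact hl)

/-- The element of `SU 2` with first column `(a, b)`. -/
def su2 (a b : F) (h : U.nm a + U.nm b = 1) : SU 2 F q :=
  ⟨⟨!![a, -U.σ b; b, U.σ a], by simp [det_fin_two]; simpa [nm, mul_comm] using h⟩, fun u v => by
    show hermForm 2 F q (!![a, -U.σ b; b, U.σ a] *ᵥ u) (!![a, -U.σ b; b, U.σ a] *ᵥ v) = hermForm 2 F q u v
    simp [hermForm, ← U.hσ, Fin.sum_univ_two, mulVec, dotProduct, U.hσσ]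
    simp only [nm] at h
    linear_combination (u 0 * U.σ (v 0) + u 1 * U.σ (v 1)) * h⟩

theorem su2_coe (a b : F) (h : U.nm a + U.nm b = 1) :
    (U.su2 a b h).1.1 = !![a, -U.σ b; b, U.σ a] := rfl

theorem su2_surj (A : SU 2 F q) : ∃ a b, ∃ h : U.nm a + U.nm b = 1, A = U.su2 a b h := by
  have hd : A.1.1 0 0 * A.1.1 1 1 - A.1.1 0 1 * A.1.1 1 0 = 1 := by rw [← det_fin_two]; exact A.1.2
  have h00 : hermForm 2 F q (A.1.1 *ᵥ Pi.single 0 1) (A.1.1 *ᵥ Pi.single 0 1) =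
      hermForm 2 F q (Pi.single 0 1) (Pi.single 0 1) := A.2 _ _
  have h10 : hermForm 2 F q (A.1.1 *ᵥ Pi.single 1 1) (A.1.1 *ᵥ Pi.single 0 1) =
      hermForm 2 F q (Pi.single 1 1) (Pi.single 0 1) := A.2 _ _
  simp [hermForm, ← U.hσ, Fin.sum_univ_two] at h00 h10
  refine ⟨A.1.1 0 0, A.1.1 1 0, h00, Subtype.ext (Subtype.ext (Matrix.ext fun i j => ?_))⟩
  show A.1.1 i j = !![A.1.1 0 0, -U.σ (A.1.1 1 0); A.1.1 1 0, U.σ (A.1.1 0 0)] i j
  fin_cases i <;> fin_cases j <;> simp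
  · linear_combination -(A.1.1 0 1) * h00 + A.1.1 0 0 * h10 - U.σ (A.1.1 1 0) * hd
  · linear_combination -(A.1.1 1 1) * h00 + A.1.1 1 0 * h10 + U.σ (A.1.1 0 0) * hd

theorem su2_act_ev0 {l : ℕ} (hl : l + 2 ≤ N) (a b : F) (h : U.nm a + U.nm b = 1) :
    act (embSU l hl U (U.su2 a b h)) (ev F N l) = a • ev F N l + b • ev F N (l + 1) := by
  rw [act_embSU]
  funext r
  obtain ⟨s, rfl⟩ := (winEquiv l hl).surjective r
  rw [Function.comp_apply, Equiv.symm_apply_apply]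
  rcases s with i | ⟨k, hk⟩
  · fin_cases i <;> simp [act, su2_coe, mulVec, dotProduct, Fin.sum_univ_two, ev, winEquiv]
  · have h1 : (k : ℕ) ≠ l := by omega
    have h2 : (k : ℕ) ≠ l + 1 := by omega
    simp [ev, winEquiv, h1, h2]

theorem su2_act_ev1 {l : ℕ} (hl : l + 2 ≤ N) (a b : F) (h : U.nm a + U.nm b = 1) :
    act (embSU l hl U (U.su2 a b h)) (ev F N (l + 1)) =
      (-U.σ b) • ev F N l + U.σ a • ev F N (l + 1) := by
  rw [act_embSU]
  funext r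
  obtain ⟨s, rfl⟩ := (winEquiv l hl).surjective r
  rw [Function.comp_apply, Equiv.symm_apply_apply]
  rcases s with i | ⟨k, hk⟩
  · fin_cases i <;> simp [act, su2_coe, mulVec, dotProduct, Fin.sum_univ_two, ev, winEquiv]
  · have h1 : (k : ℕ) ≠ l := by omega
    have h2 : (k : ℕ) ≠ l + 1 := by omega
    simp [ev, winEquiv, h1, h2]

theorem hf_comb (u1 u2 w1 w2 : Fin N → F) (a b c d : F) :
    hf q (a • u1 + b • u2) (c • w1 + d • w2) = a * U.σ c * hf q u1 w1 + a * U.σ d * hf q u1 w2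
      + b * U.σ c * hf q u2 w1 + b * U.σ d * hf q u2 w2 := by
  simp only [U.add_l, U.add_r, U.smul_l, U.smul_r]; ring

end UF

theorem FB_act_out {i j k : ℕ} {g : SU N F q} (hg : g ∈ FB F q N i j) (hk : k < N)
    (h : k < i ∨ j ≤ k) : act g (ev F N k) = ev F N k := hg k hk h

theorem UF.FB_comm (U : UF F q) {i j i' j' : ℕ} (hij : j ≤ i') {g h : SU N F q}
    (hg : g ∈ FB F q N i j) (hh : h ∈ FB F q N i' j') : g * h = h * g := by
  refine su_ext fun k hk => ?_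
  rw [act_mul, act_mul]
  by_cases hk' : k < j
  · rw [FB_act_out hh hk (Or.inl (by omega)), U.FB_act_perp hh (v := act g (ev F N k))]
    intro l hl _
    by_cases hki : k < i
    · rw [FB_act_out hg hk (Or.inl hki)]; simp [ev]; omega
    · exact U.Win_act hg (Win_ev (by omega) hk') l (Or.inr (by omega))
  · rw [FB_act_out hg hk (Or.inr (by omega)), U.FB_act_perp hg (v := act h (ev F N k))]
    intro l _ hl
    by_cases hkj : j' ≤ k ∨ k < i'
    · rw [FB_act_out hh hk hkj.symm]; simp [ev]; omega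
    · exact U.Win_act hh (Win_ev (i := i') (j := j') (by omega) (by omega)) l (Or.inl (by omega))

theorem Win.split {k : ℕ} {v : Fin N → F} (hv : Win k N v) (hk : k < N) :
    Win (k + 1) N (v - v ⟨k, hk⟩ • ev F N k) := by
  intro l hl
  by_cases h : (l : ℕ) = k
  · have : l = ⟨k, hk⟩ := Fin.ext h
    subst this
    simp [ev]
  · simp [ev, h, hv l (by omega)]

variable {G : Type v} [Group G]

/-- Compatible homomorphisms from the window groups. -/
structure Dat (U : UF F q) (N : ℕ) (G : Type v) [Group G] where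
  φ : ℕ → (SU 2 F q →* G)
  ψ : ℕ → (SU 3 F q →* G)
  h0 : ∀ l, l + 3 ≤ N → ∀ A, ψ l (embSU 0 (by norm_num) U A) = φ l A
  h1 : ∀ l, l + 3 ≤ N → ∀ A, ψ l (embSU 1 (by norm_num) U A) = φ (l + 1) A
  hcomm : ∀ i j, i + 2 ≤ j → j + 2 ≤ N → ∀ A B, φ i A * φ j B = φ j B * φ i A

namespace Dat

variable {U : UF F q} (D : Dat U N G)

/-- The lifts of a window of length two. -/
def LS (l : ℕ) : Subgroup (SU N F q × G) :=
  if h : l + 2 ≤ N then ((embSU l h U).prod (D.φ l)).range else ⊥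

/-- The lifts of a window of length three. -/
def LV (l : ℕ) : Subgroup (SU N F q × G) :=
  if h : l + 3 ≤ N then ((embSU l h U).prod (D.ψ l)).range else ⊥

/-- The lifts of the windows beyond a given index. -/
def Gam (k : ℕ) : Subgroup (SU N F q × G) := ⨆ (l : ℕ) (_ : k ≤ l), D.LS l ⊔ D.LV l

theorem mem_LS {l : ℕ} (h : l + 2 ≤ N) {z : SU N F q × G} :
    z ∈ D.LS l ↔ ∃ A, (embSU l h U A, D.φ l A) = z := by
  rw [LS, dif_pos h]; exact Iff.rfl

theorem mem_LV {l : ℕ} (h : l + 3 ≤ N) {z : SU N F q × G} :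
    z ∈ D.LV l ↔ ∃ A, (embSU l h U A, D.ψ l A) = z := by
  rw [LV, dif_pos h]; exact Iff.rfl

theorem LS_fb {l : ℕ} (h : l + 2 ≤ N) {z : SU N F q × G} (hz : z ∈ D.LS l) :
    z.1 ∈ FB F q N l (l + 2) := by
  obtain ⟨A, rfl⟩ := (D.mem_LS h).1 hz
  exact embSU_mem _ _ _ _

theorem LV_fb {l : ℕ} (h : l + 3 ≤ N) {z : SU N F q × G} (hz : z ∈ D.LV l) :
    z.1 ∈ FB F q N l (l + 3) := by
  obtain ⟨A, rfl⟩ := (D.mem_LV h).1 hz
  exact embSU_mem _ _ _ _

theorem LV_func {l : ℕ} (h : l + 3 ≤ N) {z z' : SU N F q × G} (hz : z ∈ D.LV l) (hz' : z' ∈ D.LV l)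
    (e : z.1 = z'.1) : z = z' := by
  obtain ⟨A, rfl⟩ := (D.mem_LV h).1 hz
  obtain ⟨B, rfl⟩ := (D.mem_LV h).1 hz'
  rw [embSU_injective _ _ _ e]

theorem LS_lift {l : ℕ} (h : l + 2 ≤ N) {g : SU N F q} (hg : g ∈ FB F q N l (l + 2)) :
    ∃ z ∈ D.LS l, z.1 = g := by
  obtain ⟨A, rfl⟩ := mem_range_embSU l h U hg
  exact ⟨(embSU l h U A, D.φ l A), (D.mem_LS h).2 ⟨A, rfl⟩, rfl⟩

/-- The lift with given first column. -/
def el {l : ℕ} (h : l + 2 ≤ N) (a b : F) (hab : U.nm a + U.nm b = 1) : SU N F q × G :=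
  (embSU l h U (U.su2 a b hab), D.φ l (U.su2 a b hab))

theorem el_mem {l : ℕ} (h : l + 2 ≤ N) (a b : F) (hab : U.nm a + U.nm b = 1) :
    D.el h a b hab ∈ D.LS l := (D.mem_LS h).2 ⟨_, rfl⟩

theorem el_act0 {l : ℕ} (h : l + 2 ≤ N) (a b : F) (hab : U.nm a + U.nm b = 1) :
    act (D.el h a b hab).1 (ev F N l) = a • ev F N l + b • ev F N (l + 1) :=
  U.su2_act_ev0 h a b hab

theorem el_act1 {l : ℕ} (h : l + 2 ≤ N) (a b : F) (hab : U.nm a + U.nm b = 1) :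
    act (D.el h a b hab).1 (ev F N (l + 1)) = (-U.σ b) • ev F N l + U.σ a • ev F N (l + 1) :=
  U.su2_act_ev1 h a b hab

theorem el_surj {l : ℕ} (h : l + 2 ≤ N) {z : SU N F q × G} (hz : z ∈ D.LS l) :
    ∃ a b hab, z = D.el h a b hab := by
  obtain ⟨A, rfl⟩ := (D.mem_LS h).1 hz
  obtain ⟨a, b, hab, rfl⟩ := U.su2_surj A
  exact ⟨a, b, hab, rfl⟩

theorem LS_eq_bot {l : ℕ} (h : ¬ l + 2 ≤ N) : D.LS l = ⊥ := by rw [LS, dif_neg h]

theorem LS_le_LV {l : ℕ} (h : l + 3 ≤ N) : D.LS l ≤ D.LV l := by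
  intro z hz
  obtain ⟨A, rfl⟩ := (D.mem_LS (by omega)).1 hz
  refine (D.mem_LV h).2 ⟨embSU 0 (by norm_num) U A, ?_⟩
  rw [D.h0 l h A, embSU_embSU l h 0 (by norm_num) (by omega) U A]
  rfl

theorem LS_succ_le_LV {l : ℕ} (h : l + 3 ≤ N) : D.LS (l + 1) ≤ D.LV l := by
  intro z hz
  obtain ⟨A, rfl⟩ := (D.mem_LS (by omega)).1 hz
  refine (D.mem_LV h).2 ⟨embSU 1 (by norm_num) U A, ?_⟩
  rw [D.h1 l h A, embSU_embSU l h 1 (by norm_num) (by omega) U A]

/-- An element of a triple window fixing its first vector. -/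
theorem LV_fix {l : ℕ} (h : l + 3 ≤ N) {z : SU N F q × G} (hz : z ∈ D.LV l)
    (hfix : act z.1 (ev F N l) = ev F N l) : z ∈ D.LS (l + 1) := by
  have hm : z.1 ∈ FB F q N (l + 1) (l + 1 + 2) := by
    intro k hk hk'
    by_cases e : k = l
    · exact e ▸ hfix
    · exact D.LV_fb h hz k hk (by omega)
  obtain ⟨z', hz', e'⟩ := D.LS_lift (by omega) hm
  exact D.LV_func h (D.LS_succ_le_LV h hz') hz e' ▸ hz'

theorem LV_eq_bot {l : ℕ} (h : ¬ l + 3 ≤ N) : D.LV l = ⊥ := by rw [LV, dif_neg h]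

theorem LS_le_Gam {k l : ℕ} (h : k ≤ l) : D.LS l ≤ D.Gam k :=
  le_sup_left.trans (le_iSup₂ (f := fun i (_ : k ≤ i) => D.LS i ⊔ D.LV i) l h)

theorem LV_le_Gam {k l : ℕ} (h : k ≤ l) : D.LV l ≤ D.Gam k :=
  le_sup_right.trans (le_iSup₂ (f := fun i (_ : k ≤ i) => D.LS i ⊔ D.LV i) l h)

theorem Gam_le_iff {k : ℕ} {H : Subgroup (SU N F q × G)} :
    D.Gam k ≤ H ↔ ∀ l, k ≤ l → D.LS l ≤ H ∧ D.LV l ≤ H := by
  simp only [Gam, iSup_le_iff, sup_le_iff]

theorem Gam_mono {k k' : ℕ} (h : k ≤ k') : D.Gam k' ≤ D.Gam k :=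
  D.Gam_le_iff.2 fun _ hl => ⟨D.LS_le_Gam (h.trans hl), D.LV_le_Gam (h.trans hl)⟩

theorem Gam_fb {k : ℕ} {z : SU N F q × G} (hz : z ∈ D.Gam k) : z.1 ∈ FB F q N k N := by
  suffices D.Gam k ≤ (FB F q N k N).comap (MonoidHom.fst (SU N F q) G) from this hz
  refine D.Gam_le_iff.2 fun l hl => ⟨fun z hz => ?_, fun z hz => ?_⟩
  · by_cases h : l + 2 ≤ N
    · exact FB_mono hl h (D.LS_fb h hz)
    · rw [D.LS_eq_bot h, Subgroup.mem_bot] at hz
      subst hz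
      exact one_mem _
  · by_cases h : l + 3 ≤ N
    · exact FB_mono hl h (D.LV_fb h hz)
    · rw [D.LV_eq_bot h, Subgroup.mem_bot] at hz
      subst hz
      exact one_mem _

theorem LS_comm {i j : ℕ} (hij : i + 2 ≤ j) {z z' : SU N F q × G} (hz : z ∈ D.LS i)
    (hz' : z' ∈ D.LS j) : z * z' = z' * z := by
  by_cases hj : j + 2 ≤ N
  · obtain ⟨A, rfl⟩ := (D.mem_LS (by omega)).1 hz
    obtain ⟨B, rfl⟩ := (D.mem_LS hj).1 hz'
    exact Prod.ext (U.FB_comm hij (embSU_mem _ _ _ _) (embSU_mem _ _ _ _)) (D.hcomm i j hij hj A B)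
  · rw [D.LS_eq_bot hj, Subgroup.mem_bot] at hz'
    simp [hz']

/-- Transitivity in a window of length three, by lifts of its two smaller windows. -/
theorem trans3 (hα : ∃ α, U.nm α ≠ 0 ∧ U.nm α ≠ 1) {l : ℕ} (h : l + 3 ≤ N) {v : Fin N → F}
    (hv : Win l (l + 3) v) (h1 : hf q v v = 1) :
    ∃ z ∈ D.LS l ⊔ D.LS (l + 1), act z.1 (ev F N l) = v := by
  have hl0 : l < N := by omega
  have hl1 : l + 1 < N := by omega
  have hl2 : l + 2 < N := by omega
  have expand : ∀ w : Fin N → F, Win l (l + 3) w → w = w ⟨l, hl0⟩ • ev F N l +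
      w ⟨l + 1, hl1⟩ • ev F N (l + 1) + w ⟨l + 2, hl2⟩ • ev F N (l + 2) := by
    intro w hw
    funext r
    by_cases e0 : (r : ℕ) = l
    · obtain rfl : r = ⟨l, hl0⟩ := Fin.ext e0
      simp [ev]
    by_cases e1 : (r : ℕ) = l + 1
    · obtain rfl : r = ⟨l + 1, hl1⟩ := Fin.ext e1
      simp [ev]
    by_cases e2 : (r : ℕ) = l + 2
    · obtain rfl : r = ⟨l + 2, hl2⟩ := Fin.ext e2
      simp [ev]
    · simp [ev, e0, e1, e2, hw r (by omega)]
  have self_hf : ∀ x y z : F, hf q (x • ev F N l + y • ev F N (l + 1) + z • ev F N (l + 2))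
      (x • ev F N l + y • ev F N (l + 1) + z • ev F N (l + 2)) = U.nm x + U.nm y + U.nm z := by
    intro x y z
    simp only [U.add_l, U.add_r, U.smul_l, U.smul_r, U.ev_self hl0, U.ev_self hl1, U.ev_self hl2,
      U.ev_ne hl0 hl1 (by omega), U.ev_ne hl0 hl2 (by omega), U.ev_ne hl1 hl0 (by omega),
      U.ev_ne hl1 hl2 (by omega), U.ev_ne hl2 hl0 (by omega), U.ev_ne hl2 hl1 (by omega), UF.nm]
    ring
  have key : ∀ x y z : F, U.nm x + U.nm y + U.nm z = 1 → U.nm y + U.nm z ≠ 0 →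
      ∃ w ∈ D.LS l ⊔ D.LS (l + 1), act w.1 (ev F N l) =
        x • ev F N l + y • ev F N (l + 1) + z • ev F N (l + 2) := by
    intro x y z e ne
    obtain ⟨μ, hμ⟩ := U.exists_sqrt (c := U.nm y + U.nm z) (by rw [map_add, U.nm_fix, U.nm_fix])
    have hμ0 : μ ≠ 0 := fun e0 => ne (by rw [← hμ, e0, U.nm_zero])
    have hab : U.nm (y / μ) + U.nm (z / μ) = 1 := by
      rw [U.nm_div, U.nm_div, hμ, ← add_div, div_self ne]
    have hxm : U.nm x + U.nm μ = 1 := by rw [hμ, ← e]; ring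
    refine ⟨D.el (l := l + 1) (by omega) _ _ hab * D.el (l := l) (by omega) x μ hxm,
      mul_mem (Subgroup.mem_sup_right (D.el_mem _ _ _ _)) (Subgroup.mem_sup_left (D.el_mem _ _ _ _)), ?_⟩
    rw [Prod.fst_mul, act_mul, el_act0, act_add, act_smul, act_smul, el_act0,
      FB_act_out (D.LS_fb (by omega) (D.el_mem _ _ _ _)) hl0 (Or.inl (by omega)), smul_add, smul_smul,
      smul_smul, mul_div_cancel₀ _ hμ0, mul_div_cancel₀ _ hμ0]
    simp only [add_assoc]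
  have e := expand v hv
  set x := v ⟨l, hl0⟩
  set y := v ⟨l + 1, hl1⟩
  set z := v ⟨l + 2, hl2⟩
  have hn : U.nm x + U.nm y + U.nm z = 1 := by rw [← self_hf, ← e]; exact h1
  by_cases hne : U.nm y + U.nm z ≠ 0
  · obtain ⟨w, hw, hw'⟩ := key x y z hn hne
    exact ⟨w, hw, hw'.trans e.symm⟩
  push Not at hne
  have hx : U.nm x = 1 := by linear_combination hn - hne
  by_cases hy : y = 0
  · have hz : z = 0 := U.nm_eq_zero.1 (by rw [hy, U.nm_zero, zero_add] at hne; exact hne)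
    refine ⟨D.el (l := l) (by omega) x 0 (by rw [hx, U.nm_zero, add_zero]),
      Subgroup.mem_sup_left (D.el_mem _ _ _ _), ?_⟩
    rw [el_act0, e, hy, hz]
    simp
  obtain ⟨a, b, hab, hne'⟩ : ∃ a b, U.nm a + U.nm b = 1 ∧ U.nm (b * x + U.σ a * y) ≠ U.nm y := by
    by_cases hy1 : U.nm y = 1
    · have hx0 : x ≠ 0 := fun e0 => by rw [e0, U.nm_zero] at hx; exact zero_ne_one hx
      obtain ⟨a, b, hab, hc⟩ := U.exists_cross hα (X := x * U.σ y)
        (mul_ne_zero hx0 ((map_ne_zero U.σ).2 hy))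
      refine ⟨a, b, hab, fun hh => hc ?_⟩
      rw [U.nm_add, U.nm_mul, U.nm_mul, U.nm_sigma, hx, hy1, mul_one, mul_one] at hh
      simp only [map_mul, U.hσσ] at hh ⊢
      linear_combination hh - hab
    · refine ⟨0, 1, by rw [U.nm_zero, U.nm_one, zero_add], ?_⟩
      rw [map_zero, zero_mul, add_zero, one_mul, hx]
      exact Ne.symm hy1
  let h' := D.el (l := l) (by omega) a b hab
  have hh' : h' ∈ D.LS l ⊔ D.LS (l + 1) := Subgroup.mem_sup_left (D.el_mem _ _ _ _)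
  have hv' : act h'.1 v = (a * x - U.σ b * y) • ev F N l + (b * x + U.σ a * y) • ev F N (l + 1)
      + z • ev F N (l + 2) := by
    rw [e, act_add, act_add, act_smul, act_smul, act_smul, el_act0, el_act1,
      FB_act_out (D.LS_fb (by omega) (D.el_mem _ _ _ _)) hl2 (Or.inr (by omega))]
    module
  have hn' : U.nm (a * x - U.σ b * y) + U.nm (b * x + U.σ a * y) + U.nm z = 1 := by
    rw [← self_hf, ← hv', hf_act]; exact h1
  obtain ⟨w, hw, hw'⟩ := key _ _ z hn' (fun h0 => hne' (by linear_combination h0 - hne))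
  refine ⟨h'⁻¹ * w, mul_mem (inv_mem hh') hw, ?_⟩
  rw [Prod.fst_mul, act_mul, hw', ← hv', Prod.fst_inv, act_inv_act]

/-- A window of length three is generated by its two smaller windows. -/
theorem LV_le (hα : ∃ α, U.nm α ≠ 0 ∧ U.nm α ≠ 1) {l : ℕ} (h : l + 3 ≤ N) :
    D.LV l ≤ D.LS l ⊔ D.LS (l + 1) := by
  intro z hz
  have hw : Win l (l + 3) (ev F N l) := Win_ev le_rfl (by omega)
  obtain ⟨y, hy, hy'⟩ := D.trans3 hα h (U.Win_act (D.LV_fb h hz) hw)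
    (by rw [hf_act, U.ev_self (by omega)])
  have hyV : y ∈ D.LV l := sup_le (D.LS_le_LV h) (D.LS_succ_le_LV h) hy
  have := D.LV_fix h (mul_mem (inv_mem hyV) hz) (by rw [Prod.fst_mul, act_mul, ← hy', Prod.fst_inv, act_inv_act])
  simpa using mul_mem hy (Subgroup.mem_sup_right this)

theorem LV_le_sup (hα : ∃ α, U.nm α ≠ 0 ∧ U.nm α ≠ 1) (l : ℕ) : D.LV l ≤ D.LS l ⊔ D.LS (l + 1) := by
  by_cases h : l + 3 ≤ N
  · exact D.LV_le hα h
  · rw [D.LV_eq_bot h]; exact bot_le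

theorem Gam_le_of_LS (hα : ∃ α, U.nm α ≠ 0 ∧ U.nm α ≠ 1) {k : ℕ} {H : Subgroup (SU N F q × G)}
    (hH : ∀ l, k ≤ l → D.LS l ≤ H) : D.Gam k ≤ H :=
  D.Gam_le_iff.2 fun l hl => ⟨hH l hl, (D.LV_le_sup hα l).trans (sup_le (hH l hl) (hH _ (by omega)))⟩

theorem Gam_le_sup (hα : ∃ α, U.nm α ≠ 0 ∧ U.nm α ≠ 1) (k : ℕ) : D.Gam k ≤ D.LS k ⊔ D.Gam (k + 1) :=
  D.Gam_le_of_LS hα fun l hl => by
    rcases hl.eq_or_lt with e | e
    · exact e ▸ le_sup_left
    · exact (D.LS_le_Gam e).trans le_sup_right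

theorem LS_comm_Gam (hα : ∃ α, U.nm α ≠ 0 ∧ U.nm α ≠ 1) {k : ℕ} {z z' : SU N F q × G} (hz : z ∈ D.LS k)
    (hz' : z' ∈ D.Gam (k + 2)) : z * z' = z' * z := by
  suffices D.Gam (k + 2) ≤ Subgroup.centralizer {z} from
    (Subgroup.mem_centralizer_singleton_iff.1 (this hz')).symm
  exact D.Gam_le_of_LS hα fun l hl w hw =>
    Subgroup.mem_centralizer_singleton_iff.2 (D.LS_comm hl hz hw).symm

end Dat

end CfsgLib.Chev.CT.Phan
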