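/-
Neighbours of cosets of a window stabiliser.
-/
import Cfsg.Agent.Lib.Chev.CT.Phan.Amalgam

set_option autoImplicit false

namespace CfsgLib.Chev.CT.Phan

open Matrix Cfsg

universe u v

variable {F : Type u} [Field F] {q N : ℕ} {G : Type v} [Group G]

namespace Dat

variable {U : UF F q} (D : Dat U N G)

/-- What is known about the lifts beyond an index. -/
structure St (k : ℕ) : Prop where
  func : ∀ z ∈ D.Gam k, z.1 = 1 → z = 1
  onto : ∀ g ∈ FB F q N k N, ∃ z ∈ D.Gam k, z.1 = g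
  trans : ∀ v : Fin N → F, Win k N v → hf q v v = 1 → ∃ z ∈ D.Gam k, act z.1 (ev F N k) = v

variable {D}

theorem St.eq {k : ℕ} (S : D.St k) {z z' : SU N F q × G} (hz : z ∈ D.Gam k) (hz' : z' ∈ D.Gam k)
    (e : z.1 = z'.1) : z = z' := by
  have := S.func _ (mul_mem (inv_mem hz) hz') (by rw [Prod.fst_mul, Prod.fst_inv, e, inv_mul_cancel])
  exact inv_mul_eq_one.1 this

theorem St.fix {k : ℕ} (S : D.St k) (S' : D.St (k + 1)) {z : SU N F q × G} (hz : z ∈ D.Gam k)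
    (h : act z.1 (ev F N k) = ev F N k) : z ∈ D.Gam (k + 1) := by
  obtain ⟨z', hz', e⟩ := S'.onto z.1 fun i hi hi' => by
    by_cases hik : i = k
    · exact hik ▸ h
    · exact D.Gam_fb hz i hi (by omega)
  exact S.eq (D.Gam_mono (Nat.le_succ k) hz') hz e ▸ hz'

theorem onto_of_trans {k : ℕ} (hk : k < N) (S' : D.St (k + 1))
    (ht : ∀ v : Fin N → F, Win k N v → hf q v v = 1 → ∃ z ∈ D.Gam k, act z.1 (ev F N k) = v)
    {g : SU N F q} (hg : g ∈ FB F q N k N) : ∃ z ∈ D.Gam k, z.1 = g := by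
  obtain ⟨z, hz, e⟩ := ht (act g (ev F N k)) (U.Win_act hg (Win_ev le_rfl hk))
    (by rw [hf_act, U.ev_self hk])
  have hfix : act (z.1⁻¹ * g) (ev F N k) = ev F N k := by rw [act_mul, ← e, act_inv_act]
  obtain ⟨z', hz', e'⟩ := S'.onto (z.1⁻¹ * g) fun i hi hi' => by
    by_cases hik : i = k
    · exact hik ▸ hfix
    · exact mul_mem (inv_mem (D.Gam_fb hz)) hg i hi (by omega)
  exact ⟨z * z', mul_mem hz (D.Gam_mono (Nat.le_succ k) hz'), by rw [Prod.fst_mul, e', mul_inv_cancel_left]⟩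

variable (D)

/-- The standing hypotheses of the induction step. -/
structure Step (k : ℕ) : Prop where
  hk : k + 4 ≤ N
  S1 : D.St (k + 1)
  S2 : D.St (k + 2)
  gen : D.Gam k ≤ D.LS k ⊔ D.Gam (k + 1)
  comm : ∀ z ∈ D.LS k, ∀ z' ∈ D.Gam (k + 2), z * z' = z' * z
  diag : ∀ (h0 : k + 2 ≤ N) (l : F) (h : U.nm l + U.nm 0 = 1), ∀ J ∈ D.LV (k + 1),
    (D.el h0 l 0 h)⁻¹ * J * D.el h0 l 0 h ∈ D.Gam (k + 1)

/-- Equality of cosets. -/
def R (k : ℕ) (g g' : SU N F q × G) : Prop := g⁻¹ * g' ∈ D.Gam (k + 1)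

/-- A unit vector of the window. -/
def Un (U : UF F q) (k : ℕ) (w : Fin N → F) : Prop := Win k N w ∧ hf q w w = 1

/-- An element moving the second basis vector of the window to a given one. -/
noncomputable def kk (k : ℕ) (w : Fin N → F) : SU N F q × G :=
  Classical.epsilon fun j => j ∈ D.Gam (k + 1) ∧ act j.1 (ev F N (k + 1)) = w

/-- The lift exchanging the first two basis vectors of the window. -/
def sw (k : ℕ) : SU N F q × G :=
  if h : k + 2 ≤ N then D.el h 0 1 (by rw [U.nm_zero, U.nm_one, zero_add]) else 1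

/-- The coset adjacent to `g` over `w`. -/
noncomputable def nb (k : ℕ) (g : SU N F q × G) (w : Fin N → F) : SU N F q × G :=
  g * D.kk k (act g.1⁻¹ w) * D.sw k

variable {D} {k : ℕ}

theorem R.refl (g : SU N F q × G) : D.R k g g := by simp [R, one_mem]

theorem R.symm {g g' : SU N F q × G} (h : D.R k g g') : D.R k g' g := by
  simpa [R, _root_.mul_inv_rev] using inv_mem h

theorem R.trans {g g' g'' : SU N F q × G} (h : D.R k g g') (h' : D.R k g' g'') : D.R k g g'' := by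
  simpa [R, mul_assoc] using mul_mem h h'

theorem R.left {g g' : SU N F q × G} (h : D.R k g g') (x : SU N F q × G) : D.R k (x * g) (x * g') := by
  simpa [R, mul_assoc] using h

theorem R.one_left {j : SU N F q × G} (hj : j ∈ D.Gam (k + 1)) : D.R k 1 j := by simpa [R] using hj

theorem R.mem {g g' : SU N F q × G} (h : D.R k g g') (hg : g ∈ D.Gam k) : g' ∈ D.Gam k := by
  simpa using mul_mem hg (D.Gam_mono (Nat.le_succ k) h)

theorem nb_left (x g : SU N F q × G) (w : Fin N → F) :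
    D.nb k (x * g) (act x.1 w) = x * D.nb k g w := by
  simp [nb, mul_assoc, Prod.fst_mul, _root_.mul_inv_rev]

theorem nb_pull (g : SU N F q × G) (w : Fin N → F) :
    D.nb k g w = g * D.nb k 1 (act g.1⁻¹ w) := by
  rw [← nb_left, mul_one, act_act_inv]

theorem nb2_pull (g : SU N F q × G) (w c : Fin N → F) :
    D.nb k (D.nb k g w) c = g * D.nb k (D.nb k 1 (act g.1⁻¹ w)) (act g.1⁻¹ c) := by
  rw [← nb_left, ← nb_pull, act_act_inv]

namespace Step

variable (S : D.Step k)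
include S

theorem lt0 : k < N := by have := S.hk; omega
theorem lt1 : k + 1 < N := by have := S.hk; omega
theorem lt2 : k + 2 < N := by have := S.hk; omega

theorem K_fix {j : SU N F q × G} (hj : j ∈ D.Gam (k + 1)) : act j.1 (ev F N k) = ev F N k :=
  D.Gam_fb hj k S.lt0 (Or.inl (by omega))

theorem R_act {g g' : SU N F q × G} (h : D.R k g g') : act g'.1 (ev F N k) = act g.1 (ev F N k) := by
  conv_lhs => rw [show g' = g * (g⁻¹ * g') by group, Prod.fst_mul, act_mul, S.K_fix h]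

theorem sw_eq : D.sw k = D.el (l := k) (by have := S.hk; omega) 0 1 (by rw [U.nm_zero, U.nm_one, zero_add]) := by
  rw [sw, dif_pos (by have := S.hk; omega)]

theorem sw_mem : D.sw k ∈ D.LS k := by rw [S.sw_eq]; exact D.el_mem _ _ _ _

theorem sw_act0 : act (D.sw k).1 (ev F N k) = ev F N (k + 1) := by
  rw [S.sw_eq, el_act0]; simp

theorem sw_act1 : act (D.sw k).1 (ev F N (k + 1)) = -ev F N k := by
  rw [S.sw_eq, el_act1]; simp

theorem sw_act2 : act (D.sw k).1 (ev F N (k + 2)) = ev F N (k + 2) :=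
  D.LS_fb (by have := S.hk; omega) S.sw_mem (k + 2) S.lt2 (Or.inr (by omega))

theorem Un_ev {i : ℕ} (h : k ≤ i) (hi : i < N) : Un U k (ev F N i) :=
  ⟨Win_ev h hi, U.ev_self hi⟩

theorem Un_act {g : SU N F q × G} (hg : g ∈ D.Gam k) {w : Fin N → F} (hw : Un U k w) :
    Un U k (act g.1 w) := ⟨U.Win_act (D.Gam_fb hg) hw.1, by rw [hf_act]; exact hw.2⟩

theorem Un_act_inv {g : SU N F q × G} (hg : g ∈ D.Gam k) {w : Fin N → F} (hw : Un U k w) :
    Un U k (act g.1⁻¹ w) := by simpa using S.Un_act (inv_mem hg) hw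

theorem win_succ {w : Fin N → F} (hw : Win k N w) (h : hf q w (ev F N k) = 0) : Win (k + 1) N w := by
  intro l hl
  by_cases e : (l : ℕ) = k
  · rw [U.ev_r w S.lt0] at h
    rwa [show l = ⟨k, S.lt0⟩ from Fin.ext e]
  · exact hw l (by omega)

theorem perp_succ {w : Fin N → F} (hw : Win (k + 1) N w) : hf q w (ev F N k) = 0 := by
  rw [U.ev_r w S.lt0]; exact hw _ (Or.inl (by simp))

theorem pull_win {g : SU N F q × G} (hg : g ∈ D.Gam k) {w : Fin N → F} (hw : Un U k w)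
    (h : hf q w (act g.1 (ev F N k)) = 0) : Win (k + 1) N (act g.1⁻¹ w) :=
  S.win_succ (S.Un_act_inv hg hw).1 (by rw [← hf_act g.1, act_act_inv]; exact h)

theorem kk_spec {w : Fin N → F} (hw : Win (k + 1) N w) (h1 : hf q w w = 1) :
    D.kk k w ∈ D.Gam (k + 1) ∧ act (D.kk k w).1 (ev F N (k + 1)) = w :=
  Classical.epsilon_spec (p := fun j => j ∈ D.Gam (k + 1) ∧ act j.1 (ev F N (k + 1)) = w)
    (S.S1.trans w hw h1)

theorem nb_mem {g : SU N F q × G} (hg : g ∈ D.Gam k) {w : Fin N → F} (hw : Un U k w)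
    (h : hf q w (act g.1 (ev F N k)) = 0) : D.nb k g w ∈ D.Gam k :=
  mul_mem (mul_mem hg (D.Gam_mono (Nat.le_succ k) (S.kk_spec (S.pull_win hg hw h) (S.Un_act_inv hg hw).2).1))
    (D.LS_le_Gam le_rfl S.sw_mem)

theorem nb_act {g : SU N F q × G} (hg : g ∈ D.Gam k) {w : Fin N → F} (hw : Un U k w)
    (h : hf q w (act g.1 (ev F N k)) = 0) : act (D.nb k g w).1 (ev F N k) = w := by
  rw [nb, Prod.fst_mul, Prod.fst_mul, act_mul, act_mul, S.sw_act0,
    (S.kk_spec (S.pull_win hg hw h) (S.Un_act_inv hg hw).2).2, act_act_inv]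

theorem conj_sw {J : SU N F q × G} (hJ : J ∈ D.Gam (k + 2)) :
    (D.sw k)⁻¹ * J * D.sw k = J := by
  rw [mul_assoc, ← S.comm _ S.sw_mem _ hJ, inv_mul_cancel_left]

theorem nb_mk {g : SU N F q × G} {j : SU N F q × G} (hj : j ∈ D.Gam (k + 1)) {w : Fin N → F}
    (e : act (g * j).1 (ev F N (k + 1)) = w) : D.R k (D.nb k g w) (g * j * D.sw k) := by
  have e' : act j.1 (ev F N (k + 1)) = act g.1⁻¹ w := by
    rw [← e, Prod.fst_mul, act_mul, act_inv_act]
  have h := S.kk_spec (w := act g.1⁻¹ w) (by rw [← e']; exact U.Win_act (D.Gam_fb hj) (Win_ev le_rfl S.lt1))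
    (by rw [← e', hf_act, U.ev_self S.lt1])
  have hJ : (D.kk k (act g.1⁻¹ w))⁻¹ * j ∈ D.Gam (k + 1 + 1) :=
    S.S1.fix S.S2 (mul_mem (inv_mem h.1) hj)
      (by rw [Prod.fst_mul, act_mul, e', Prod.fst_inv]; exact act_inv_eq h.2)
  show (g * D.kk k (act g.1⁻¹ w) * D.sw k)⁻¹ * (g * j * D.sw k) ∈ D.Gam (k + 1)
  have : (g * D.kk k (act g.1⁻¹ w) * D.sw k)⁻¹ * (g * j * D.sw k) =
      (D.sw k)⁻¹ * ((D.kk k (act g.1⁻¹ w))⁻¹ * j) * D.sw k := by group
  rw [this, S.conj_sw hJ]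
  exact D.Gam_mono (by omega) hJ

theorem nb_congr {g g' : SU N F q × G} (hg : g ∈ D.Gam k) (hR : D.R k g g') {w : Fin N → F}
    (hw : Un U k w) (h : hf q w (act g.1 (ev F N k)) = 0) : D.R k (D.nb k g w) (D.nb k g' w) := by
  have hg' := hR.mem hg
  have h' : hf q w (act g'.1 (ev F N k)) = 0 := by rw [S.R_act hR]; exact h
  obtain ⟨h1, h2⟩ := S.kk_spec (S.pull_win hg' hw h') (S.Un_act_inv hg' hw).2
  have hj : g⁻¹ * g' * D.kk k (act g'.1⁻¹ w) ∈ D.Gam (k + 1) := mul_mem hR h1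
  have e : act (g * (g⁻¹ * g' * D.kk k (act g'.1⁻¹ w))).1 (ev F N (k + 1)) = w := by
    rw [show g * (g⁻¹ * g' * D.kk k (act g'.1⁻¹ w)) = g' * D.kk k (act g'.1⁻¹ w) by group, Prod.fst_mul,
      act_mul, h2, act_act_inv]
  have := S.nb_mk hj e
  rwa [show g * (g⁻¹ * g' * D.kk k (act g'.1⁻¹ w)) * D.sw k = D.nb k g' w by rw [nb]; group] at this

theorem nb_K {j : SU N F q × G} (hj : j ∈ D.Gam (k + 1)) {w : Fin N → F} (hw : Win (k + 1) N w)
    (h1 : hf q w w = 1) : D.R k (D.nb k 1 (act j.1 w)) (j * D.nb k 1 w) := by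
  rw [← nb_left, mul_one]
  refine S.nb_congr (one_mem _) (R.one_left hj) ⟨?_, by rw [hf_act]; exact h1⟩ ?_
  · exact U.Win_act (FB_mono (Nat.le_succ k) le_rfl (D.Gam_fb hj)) (hw.mono (Nat.le_succ k) le_rfl)
  · rw [Prod.fst_one, act_one]; exact S.perp_succ (U.Win_act (D.Gam_fb hj) hw)

theorem nb1_mem {w : Fin N → F} (hw : Win (k + 1) N w) (h1 : hf q w w = 1) :
    D.nb k 1 w ∈ D.Gam k ∧ act (D.nb k 1 w).1 (ev F N k) = w :=
  have hu : Un U k w := ⟨hw.mono (Nat.le_succ k) le_rfl, h1⟩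
  have h : hf q w (act (1 : SU N F q × G).1 (ev F N k)) = 0 := by
    rw [Prod.fst_one, act_one]; exact S.perp_succ hw
  ⟨S.nb_mem (one_mem _) hu h, S.nb_act (one_mem _) hu h⟩

theorem nb2_K {j : SU N F q × G} (hj : j ∈ D.Gam (k + 1)) {w c : Fin N → F} (hw : Win (k + 1) N w)
    (h1 : hf q w w = 1) (hc : Un U k c) (hcw : hf q c w = 0) :
    D.R k (D.nb k (D.nb k 1 (act j.1 w)) (act j.1 c)) (j * D.nb k (D.nb k 1 w) c) := by
  rw [← nb_left]
  have hw' : Win (k + 1) N (act j.1 w) := U.Win_act (D.Gam_fb hj) hw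
  have h := S.nb1_mem hw' (by rw [hf_act]; exact h1)
  refine S.nb_congr h.1 (S.nb_K hj hw h1) (S.Un_act (D.Gam_mono (Nat.le_succ k) hj) hc) ?_
  rw [h.2, hf_act]; exact hcw

theorem LV_R {g g' : SU N F q × G} (hg : g ∈ D.LV k) (hg' : g' ∈ D.LV k)
    (e : act g.1 (ev F N k) = act g'.1 (ev F N k)) : D.R k g g' :=
  D.LS_le_Gam le_rfl (D.LV_fix (by have := S.hk; omega) (mul_mem (inv_mem hg) hg')
    (by rw [Prod.fst_mul, act_mul, ← e, Prod.fst_inv, act_inv_act]))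

theorem LS0_LV {z : SU N F q × G} (hz : z ∈ D.LS k) : z ∈ D.LV k :=
  D.LS_le_LV (by have := S.hk; omega) hz

theorem LS1_LV {z : SU N F q × G} (hz : z ∈ D.LS (k + 1)) : z ∈ D.LV k :=
  D.LS_succ_le_LV (by have := S.hk; omega) hz

theorem hl1 : k + 1 + 2 ≤ N := by have := S.hk; omega

theorem el1_mem (a b : F) (hab : U.nm a + U.nm b = 1) :
    D.el S.hl1 a b hab ∈ D.Gam (k + 1) := D.LS_le_Gam le_rfl (D.el_mem _ _ _ _)

theorem el1_act (a b : F) (hab : U.nm a + U.nm b = 1) :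
    act (D.el S.hl1 a b hab).1 (ev F N (k + 1)) = a • ev F N (k + 1) + b • ev F N (k + 2) :=
  D.el_act0 _ _ _ _

theorem el1_act2 (a b : F) (hab : U.nm a + U.nm b = 1) :
    act (D.el S.hl1 a b hab).1 (ev F N (k + 2)) = (-U.σ b) • ev F N (k + 1) + U.σ a • ev F N (k + 2) :=
  D.el_act1 _ _ _ _

theorem symm_one {w : Fin N → F} (hw : Win (k + 1) N w) (h1 : hf q w w = 1) :
    D.R k (D.nb k (D.nb k 1 w) (ev F N k)) 1 := by
  obtain ⟨hk1, hk2⟩ := S.kk_spec hw h1
  set j := D.el S.hl1 (-1) 0 (by rw [U.nm_neg, U.nm_one, U.nm_zero, add_zero]) with hj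
  have hjm : j ∈ D.Gam (k + 1) := S.el1_mem _ _ _
  have hj1 : act j.1 (ev F N (k + 1)) = -ev F N (k + 1) := by rw [hj, S.el1_act]; simp
  have e : act (D.sw k * j * D.sw k).1 (ev F N k) = ev F N k := by
    rw [Prod.fst_mul, Prod.fst_mul, act_mul, act_mul, S.sw_act0, hj1, ← neg_one_smul F (ev F N (k + 1)),
      act_smul, S.sw_act1]
    simp
  have hsjs : D.sw k * j * D.sw k ∈ D.Gam (k + 1) := D.LS_le_Gam le_rfl
    (D.LV_fix (by have := S.hk; omega)
      (mul_mem (mul_mem (S.LS0_LV S.sw_mem) (S.LS1_LV (D.el_mem _ _ _ _))) (S.LS0_LV S.sw_mem)) e)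
  have hnb : D.nb k 1 w = D.kk k w * D.sw k := by simp [nb]
  rw [hnb]
  refine (S.nb_mk hjm ?_).trans (R.one_left ?_).symm
  · rw [Prod.fst_mul, Prod.fst_mul, act_mul, act_mul, hj1, ← neg_one_smul F (ev F N (k + 1)),
      act_smul, S.sw_act1, act_smul, ← neg_one_smul F (ev F N k), act_smul, S.K_fix hk1, smul_smul]
    simp
  · rw [show D.kk k w * D.sw k * j * D.sw k = D.kk k w * (D.sw k * j * D.sw k) by group]
    exact mul_mem hk1 hsjs

theorem symm {g : SU N F q × G} (hg : g ∈ D.Gam k) {w : Fin N → F} (hw : Un U k w)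
    (h : hf q w (act g.1 (ev F N k)) = 0) :
    D.R k (D.nb k (D.nb k g w) (act g.1 (ev F N k))) g := by
  rw [nb2_pull, act_inv_act]
  simpa using (S.symm_one (S.pull_win hg hw h) (S.Un_act_inv hg hw).2).left g

theorem frame2 {w z : Fin N → F} (hw : Win (k + 1) N w) (hw1 : hf q w w = 1) (hz : Win (k + 1) N z)
    (hz1 : hf q z z = 1) (hwz : hf q z w = 0) :
    ∃ j ∈ D.Gam (k + 1), act j.1 (ev F N (k + 1)) = w ∧ act j.1 (ev F N (k + 2)) = z := by
  obtain ⟨j1, hj1, e1⟩ := S.S1.trans w hw hw1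
  have hz' : Win (k + 2) N (act j1.1⁻¹ z) := by
    intro l hl
    by_cases e : (l : ℕ) = k + 1
    · have h0 : hf q (act j1.1⁻¹ z) (ev F N (k + 1)) = 0 := by
        rw [← hf_act j1.1, act_act_inv, e1]; exact hwz
      rw [U.ev_r _ S.lt1] at h0
      rwa [show l = ⟨k + 1, S.lt1⟩ from Fin.ext e]
    · exact U.Win_act (inv_mem (D.Gam_fb hj1)) hz l (by omega)
  obtain ⟨j2, hj2, e2⟩ := S.S2.trans _ hz' (by rw [← hf_act j1.1, act_act_inv]; exact hz1)
  refine ⟨j1 * j2, mul_mem hj1 (D.Gam_mono (by omega) hj2), ?_, ?_⟩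
  · rw [Prod.fst_mul, act_mul, FB_act_out (D.Gam_fb hj2) S.lt1 (Or.inl (by omega)), e1]
  · rw [Prod.fst_mul, act_mul, e2, act_act_inv]

theorem win1 : Win (k + 1) N (ev F N (k + 1)) := Win_ev le_rfl S.lt1
theorem win2 : Win (k + 1) N (ev F N (k + 2)) := Win_ev (by omega) S.lt2

theorem tri_one {w z : Fin N → F} (hw : Win (k + 1) N w) (hw1 : hf q w w = 1) (hz : Win (k + 1) N z)
    (hz1 : hf q z z = 1) (hwz : hf q z w = 0) :
    D.R k (D.nb k (D.nb k 1 w) z) (D.nb k 1 z) := by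
  set r := D.el S.hl1 0 1 (by rw [U.nm_zero, U.nm_one, zero_add]) with hr
  have hrm : r ∈ D.Gam (k + 1) := S.el1_mem _ _ _
  have hr1 : act r.1 (ev F N (k + 1)) = ev F N (k + 2) := by rw [hr, S.el1_act]; simp
  have h12 : hf q (ev F N (k + 2)) (ev F N (k + 1)) = 0 := U.ev_ne S.lt2 S.lt1 (by omega)
  have base : D.R k (D.nb k (D.nb k 1 (ev F N (k + 1))) (ev F N (k + 2))) (D.nb k 1 (ev F N (k + 2))) := by
    have hn := S.nb1_mem S.win1 (U.ev_self S.lt1)
    have a1 : D.R k (D.nb k 1 (ev F N (k + 1))) (D.sw k) := by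
      simpa using S.nb_mk (g := 1) (one_mem _) (w := ev F N (k + 1)) (by simp)
    have a2 := S.nb_congr hn.1 a1 (S.Un_ev (i := k + 2) (by omega) S.lt2) (by rw [hn.2]; exact h12)
    refine a2.trans ((S.nb_mk hrm ?_).trans (R.trans (S.LV_R ?_ ?_ ?_) (S.nb_mk (g := 1) hrm ?_).symm))
    · rw [Prod.fst_mul, act_mul, hr1, S.sw_act2]
    · exact mul_mem (mul_mem (S.LS0_LV S.sw_mem) (S.LS1_LV (D.el_mem _ _ _ _))) (S.LS0_LV S.sw_mem)
    · rw [one_mul]; exact mul_mem (S.LS1_LV (D.el_mem _ _ _ _)) (S.LS0_LV S.sw_mem)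
    · simp only [Prod.fst_mul, one_mul, act_mul, S.sw_act0, hr1, S.sw_act2]
    · rw [one_mul, hr1]
  obtain ⟨j, hj, e1, e2⟩ := S.frame2 hw hw1 hz hz1 hwz
  have a := S.nb2_K hj S.win1 (U.ev_self S.lt1) (S.Un_ev (i := k + 2) (by omega) S.lt2) h12
  have b := S.nb_K hj S.win2 (U.ev_self S.lt2)
  rw [e1, e2] at a
  rw [e2] at b
  exact a.trans ((base.left j).trans b.symm)

theorem tri {g : SU N F q × G} (hg : g ∈ D.Gam k) {w z : Fin N → F} (hw : Un U k w) (hz : Un U k z)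
    (hwg : hf q w (act g.1 (ev F N k)) = 0) (hzg : hf q z (act g.1 (ev F N k)) = 0)
    (hzw : hf q z w = 0) : D.R k (D.nb k (D.nb k g w) z) (D.nb k g z) := by
  rw [nb2_pull, nb_pull g z]
  exact (S.tri_one (S.pull_win hg hw hwg) (S.Un_act_inv hg hw).2 (S.pull_win hg hz hzg)
    (S.Un_act_inv hg hz).2 (by rw [← hf_act g.1, act_act_inv, act_act_inv]; exact hzw)).left g

theorem flat_one (l ν : F) (h : U.nm l + U.nm ν = 1) :
    D.R k (D.nb k (D.nb k 1 (ev F N (k + 2))) (l • ev F N k + ν • ev F N (k + 1)))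
      (D.el (l := k) (by have := S.hk; omega) l ν h) := by
  set c := l • ev F N k + ν • ev F N (k + 1) with hc
  set r := D.el S.hl1 0 1 (by rw [U.nm_zero, U.nm_one, zero_add]) with hr
  set j := D.el S.hl1 (-l) (-ν) (by rw [U.nm_neg, U.nm_neg, h]) with hj
  have hrm : r ∈ D.Gam (k + 1) := S.el1_mem _ _ _
  have hjm : j ∈ D.Gam (k + 1) := S.el1_mem _ _ _
  have hr1 : act r.1 (ev F N (k + 1)) = ev F N (k + 2) := by rw [hr, S.el1_act]; simp
  have hn := S.nb1_mem S.win2 (U.ev_self S.lt2)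
  have a1 : D.R k (D.nb k 1 (ev F N (k + 2))) (r * D.sw k) := by
    simpa using S.nb_mk (g := 1) hrm (w := ev F N (k + 2)) (by simpa using hr1)
  have hcu : Un U k c := by
    refine ⟨((Win_ev le_rfl S.lt0).smul l).add ((Win_ev (by omega) S.lt1).smul ν), ?_⟩
    rw [hc, U.hf_comb, U.ev_self S.lt0, U.ev_self S.lt1, U.ev_ne S.lt0 S.lt1 (by omega),
      U.ev_ne S.lt1 S.lt0 (by omega)]
    simp only [UF.nm] at h
    linear_combination h
  have hc2 : hf q c (ev F N (k + 2)) = 0 := by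
    rw [hc, U.add_l, U.smul_l, U.smul_l, U.ev_ne S.lt0 S.lt2 (by omega), U.ev_ne S.lt1 S.lt2 (by omega)]
    simp
  have hrsj : act (r * D.sw k * j).1 (ev F N (k + 1)) = c := by
    simp only [Prod.fst_mul, act_mul, hj, hr, S.el1_act, act_add, act_smul, S.sw_act1, S.sw_act2,
      ← neg_one_smul F (ev F N k), S.K_fix (S.el1_mem _ _ _), S.el1_act2, hc]
    simp
  refine (S.nb_congr hn.1 a1 hcu (by rw [hn.2]; exact hc2)).trans
    ((S.nb_mk hjm hrsj).trans (S.LV_R ?_ (S.LS0_LV (D.el_mem _ _ _ _)) ?_))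
  · exact mul_mem (mul_mem (mul_mem (S.LS1_LV (D.el_mem _ _ _ _)) (S.LS0_LV S.sw_mem))
      (S.LS1_LV (D.el_mem _ _ _ _))) (S.LS0_LV S.sw_mem)
  · rw [Prod.fst_mul, act_mul, S.sw_act0, hrsj, el_act0]

theorem conj_diag (l : F) (h : U.nm l + U.nm 0 = 1) {J : SU N F q × G} (hJ : J ∈ D.Gam (k + 1)) :
    (D.el (l := k) (by have := S.hk; omega) l 0 h)⁻¹ * J *
      D.el (l := k) (by have := S.hk; omega) l 0 h ∈ D.Gam (k + 1) := by
  set e := D.el (l := k) (by have := S.hk; omega) l 0 h with he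
  suffices D.Gam (k + 1) ≤ (D.Gam (k + 1)).comap (MulAut.conj e⁻¹).toMonoidHom by
    simpa [MulAut.conj_apply] using this hJ
  refine D.Gam_le_iff.2 fun i hi => ⟨fun z hz => ?_, fun z hz => ?_⟩
  all_goals simp only [Subgroup.mem_comap, MulEquiv.coe_toMonoidHom, MulAut.conj_apply, inv_inv]
  · rcases hi.eq_or_lt with hi' | hi'
    · subst hi'
      refine D.LS_le_Gam le_rfl (D.LV_fix (by have := S.hk; omega)
        (mul_mem (mul_mem (inv_mem (S.LS0_LV (D.el_mem _ _ _ _))) (S.LS1_LV hz))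
          (S.LS0_LV (D.el_mem _ _ _ _))) ?_)
      have e0 : act e.1 (ev F N k) = l • ev F N k := by rw [he, el_act0]; simp
      rw [Prod.fst_mul, act_mul, e0, Prod.fst_mul, act_mul, act_smul,
        S.K_fix (D.LS_le_Gam le_rfl hz), ← e0, Prod.fst_inv, act_inv_act]
    · rw [mul_assoc, ← D.LS_comm hi' (D.el_mem _ _ _ _) hz, inv_mul_cancel_left]
      exact D.LS_le_Gam (by omega) hz
  · rcases hi.eq_or_lt with hi' | hi'
    · subst hi'
      exact S.diag _ l h z hz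
    · rw [mul_assoc, ← S.comm _ (D.el_mem _ _ _ _) _ (D.LV_le_Gam hi' hz), inv_mul_cancel_left]
      exact D.LV_le_Gam (by omega) hz

/-- Independence of the middle vector when the two ends span a nondegenerate space. -/
theorem indep_one {w w' c : Fin N → F} (hw : Win (k + 1) N w) (hw1 : hf q w w = 1)
    (hw' : Win (k + 1) N w') (hw1' : hf q w' w' = 1) (hc : Un U k c) (hcw : hf q c w = 0)
    (hcw' : hf q c w' = 0)
    (hcase : U.nm (c ⟨k, S.lt0⟩) ≠ 1 ∨ c = c ⟨k, S.lt0⟩ • ev F N k) :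
    D.R k (D.nb k (D.nb k 1 w) c) (D.nb k (D.nb k 1 w') c) := by
  set l := c ⟨k, S.lt0⟩
  set c' := c - l • ev F N k with hc'
  have hc'w : Win (k + 1) N c' := hc.1.split S.lt0
  have hc'ev : hf q c' (ev F N k) = 0 := S.perp_succ hc'w
  have hnorm : hf q c' c' = 1 - U.nm l := by
    have h2 : hf q c (ev F N k) = l := U.ev_r c S.lt0
    rw [hc', U.sub_r, U.smul_r, hc'ev, mul_zero, sub_zero, U.sub_l, U.smul_l, hc.2, ← U.swap, h2]
    rfl
  have hwe : ∀ {x : Fin N → F}, Win (k + 1) N x → hf q (ev F N k) x = 0 :=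
    fun hx => U.swap_eq_zero (S.perp_succ hx)
  have main : ∀ (x : Fin N → F) (j : SU N F q × G) (ν : F) (h : U.nm l + U.nm ν = 1),
      j ∈ D.Gam (k + 1) → act j.1 (ev F N (k + 2)) = x →
      act j.1 (l • ev F N k + ν • ev F N (k + 1)) = c →
      D.R k (D.nb k (D.nb k 1 x) c) (j * D.el (l := k) (by have := S.hk; omega) l ν h) := by
    intro x j ν h hj e2 ec
    have hu : Un U k (l • ev F N k + ν • ev F N (k + 1)) := by
      rw [show l • ev F N k + ν • ev F N (k + 1) = act j.1⁻¹ c by rw [← ec, act_inv_act]]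
      exact S.Un_act_inv (D.Gam_mono (Nat.le_succ k) hj) hc
    have := S.nb2_K hj S.win2 (U.ev_self S.lt2) hu
      (by rw [U.add_l, U.smul_l, U.smul_l, U.ev_ne S.lt0 S.lt2 (by omega),
        U.ev_ne S.lt1 S.lt2 (by omega)]; simp)
    rw [e2, ec] at this
    exact this.trans ((S.flat_one l ν h).left j)
  rcases hcase with hne | heq
  · obtain ⟨μ, hμ, hu⟩ := U.exists_unit_smul (x := c') (by rw [hnorm]; exact sub_ne_zero.2 (Ne.symm hne))
    have h : U.nm l + U.nm μ⁻¹ = 1 := by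
      rw [U.smul_l, U.smul_r, hnorm] at hu
      rw [U.nm_inv]
      simp only [UF.nm] at hu ⊢
      rw [show (μ * U.σ μ)⁻¹ = 1 - l * U.σ l from
        inv_eq_of_mul_eq_one_right (by linear_combination hu)]
      ring
    have key : ∀ x : Fin N → F, Win (k + 1) N x → hf q x x = 1 → hf q c x = 0 →
        ∃ j ∈ D.Gam (k + 1), act j.1 (ev F N (k + 1)) = μ • c' ∧ act j.1 (ev F N (k + 2)) = x := by
      intro x hx hx1 hcx
      refine S.frame2 (hc'w.smul μ) hu hx hx1 ?_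
      rw [U.smul_r, hc', U.sub_r, U.smul_r, U.swap_eq_zero hcx, S.perp_succ hx]
      simp
    obtain ⟨j, hj, ju, jw⟩ := key w hw hw1 hcw
    obtain ⟨j', hj', ju', jw'⟩ := key w' hw' hw1' hcw'
    have ec : ∀ i : SU N F q × G, i ∈ D.Gam (k + 1) → act i.1 (ev F N (k + 1)) = μ • c' →
        act i.1 (l • ev F N k + μ⁻¹ • ev F N (k + 1)) = c := by
      intro i hi e
      rw [act_add, act_smul, act_smul, S.K_fix hi, e, smul_smul, inv_mul_cancel₀ hμ, one_smul, hc']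
      abel
    refine (main w j _ h hj jw (ec j hj ju)).trans (R.trans ?_ (main w' j' _ h hj' jw' (ec j' hj' ju')).symm)
    have hJ : j⁻¹ * j' ∈ D.Gam (k + 1 + 1) := S.S1.fix S.S2 (mul_mem (inv_mem hj) hj')
      (by rw [Prod.fst_mul, act_mul, ju', ← ju, Prod.fst_inv, act_inv_act])
    have hcomm := S.comm _ (D.el_mem (l := k) (by have := S.hk; omega) l μ⁻¹ h) _ hJ
    show _ ∈ D.Gam (k + 1)
    rw [show ((j * D.el (l := k) _ l μ⁻¹ h)⁻¹ * (j' * D.el (l := k) _ l μ⁻¹ h)) =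
      (D.el (l := k) (by have := S.hk; omega) l μ⁻¹ h)⁻¹ * ((j⁻¹ * j') *
        D.el (l := k) (by have := S.hk; omega) l μ⁻¹ h) by group, ← hcomm, inv_mul_cancel_left]
    exact D.Gam_mono (by omega) hJ
  · have h : U.nm l + U.nm 0 = 1 := by
      have hh := hc.2
      rw [heq, U.smul_l, U.smul_r, U.ev_self S.lt0, mul_one] at hh
      rw [U.nm_zero, add_zero]; exact hh
    set r := D.el S.hl1 0 1 (by rw [U.nm_zero, U.nm_one, zero_add]) with hr
    have hr1 : act r.1 (ev F N (k + 1)) = ev F N (k + 2) := by rw [hr, S.el1_act]; simp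
    have key : ∀ x : Fin N → F, Win (k + 1) N x → hf q x x = 1 →
        ∃ j ∈ D.Gam (k + 1), act j.1 (ev F N (k + 2)) = x := by
      intro x hx hx1
      obtain ⟨j, hj, e⟩ := S.S1.trans x hx hx1
      exact ⟨j * r⁻¹, mul_mem hj (inv_mem (S.el1_mem _ _ _)),
        by rw [Prod.fst_mul, act_mul, ← hr1, Prod.fst_inv, act_inv_act, e]⟩
    obtain ⟨j, hj, jw⟩ := key w hw hw1
    obtain ⟨j', hj', jw'⟩ := key w' hw' hw1'
    have ec : ∀ i : SU N F q × G, i ∈ D.Gam (k + 1) →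
        act i.1 (l • ev F N k + (0 : F) • ev F N (k + 1)) = c := by
      intro i hi
      rw [zero_smul, add_zero, act_smul, S.K_fix hi, ← heq]
    refine (main w j 0 h hj jw (ec j hj)).trans (R.trans ?_ (main w' j' 0 h hj' jw' (ec j' hj')).symm)
    show _ ∈ D.Gam (k + 1)
    simpa [_root_.mul_inv_rev, mul_assoc] using S.conj_diag l h (mul_mem (inv_mem hj) hj')

/-- Independence of the middle vector, translated. -/
theorem indep_nondeg {g : SU N F q × G} (hg : g ∈ D.Gam k) {w w' c : Fin N → F} (hw : Un U k w)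
    (hwg : hf q w (act g.1 (ev F N k)) = 0) (hw' : Un U k w')
    (hwg' : hf q w' (act g.1 (ev F N k)) = 0) (hc : Un U k c) (hcw : hf q c w = 0)
    (hcw' : hf q c w' = 0) (hne : U.nm (hf q c (act g.1 (ev F N k))) ≠ 1) :
    D.R k (D.nb k (D.nb k g w) c) (D.nb k (D.nb k g w') c) := by
  rw [nb2_pull g w, nb2_pull g w']
  refine (S.indep_one (S.pull_win hg hw hwg) (S.Un_act_inv hg hw).2 (S.pull_win hg hw' hwg')
    (S.Un_act_inv hg hw').2 (S.Un_act_inv hg hc) ?_ ?_ (Or.inl ?_)).left g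
  · rw [← hf_act g.1, act_act_inv, act_act_inv]; exact hcw
  · rw [← hf_act g.1, act_act_inv, act_act_inv]; exact hcw'
  · rwa [← U.ev_r (act g.1⁻¹ c) S.lt0, ← hf_act g.1, act_act_inv]

end Step

end Dat

end CfsgLib.Chev.CT.Phan
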