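/-
The induction step: cosets of a window stabiliser correspond to unit vectors.
-/
import Cfsg.Agent.Lib.Chev.CT.Phan.Cosets

set_option autoImplicit false

namespace CfsgLib.Chev.CT.Phan

open Matrix Cfsg

universe u v

variable {F : Type u} [Field F] {q N : ℕ} {G : Type v} [Group G]

/-- Parameters used to avoid degenerate configurations. -/
def UF.Params (U : UF F q) : Prop :=
  ∀ c : F, ∃ α γ : F, U.nm α ≠ 0 ∧ U.nm α ≠ 1 ∧ U.nm γ ≠ 1 ∧ U.nm γ ≠ 1 - U.nm α ∧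
    U.nm (γ + α * c) ≠ 1 ∧ U.nm (γ + α * c) ≠ 1 - U.nm α

theorem UF.Params.exists_alpha {U : UF F q} (hp : U.Params) : ∃ α, U.nm α ≠ 0 ∧ U.nm α ≠ 1 := by
  obtain ⟨α, -, h0, h1, -⟩ := hp 0
  exact ⟨α, h0, h1⟩

/-- A unit vector in a window of at least three places, orthogonal to a given vector. -/
theorem UF.exists_perp (U : UF F q) {k : ℕ} (hk : k + 3 ≤ N) (v : Fin N → F) :
    ∃ w : Fin N → F, Win k N w ∧ hf q w w = 1 ∧ hf q v w = 0 := by
  suffices ∃ p : Fin N → F, Win k N p ∧ hf q p p ≠ 0 ∧ hf q v p = 0 by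
    obtain ⟨p, hp, hne, hvp⟩ := this
    obtain ⟨c, -, hc⟩ := U.exists_unit_smul hne
    exact ⟨c • p, hp.smul c, hc, by rw [U.smul_r, hvp, mul_zero]⟩
  have h0 : k < N := by omega
  have h1 : k + 1 < N := by omega
  have h2 : k + 2 < N := by omega
  have pair : ∀ i j : ℕ, k ≤ i → k ≤ j → ∀ (hi : i < N) (hj : j < N), i ≠ j →
      U.nm (v ⟨i, hi⟩) + U.nm (v ⟨j, hj⟩) ≠ 0 →
      ∃ p : Fin N → F, Win k N p ∧ hf q p p ≠ 0 ∧ hf q v p = 0 := by
    intro i j hki hkj hi hj hij hne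
    refine ⟨U.σ (v ⟨j, hj⟩) • ev F N i - U.σ (v ⟨i, hi⟩) • ev F N j,
      ((Win_ev hki hi).smul _).sub ((Win_ev hkj hj).smul _), ?_, ?_⟩
    · simp only [U.sub_l, U.sub_r, U.smul_l, U.smul_r, U.hσσ, U.ev_self hi, U.ev_self hj,
        U.ev_ne hi hj hij, U.ev_ne hj hi (Ne.symm hij)]
      simp only [UF.nm] at hne
      intro e; apply hne; linear_combination e
    · rw [U.sub_r, U.smul_r, U.smul_r, U.ev_r _ hi, U.ev_r _ hj, U.hσσ, U.hσσ]; ring
  by_cases hxy : U.nm (v ⟨k, h0⟩) + U.nm (v ⟨k + 1, h1⟩) = 0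
  swap
  · exact pair k (k + 1) le_rfl (by omega) h0 h1 (by omega) hxy
  by_cases hyz : U.nm (v ⟨k + 1, h1⟩) + U.nm (v ⟨k + 2, h2⟩) = 0
  swap
  · exact pair (k + 1) (k + 2) (by omega) (by omega) h1 h2 (by omega) hyz
  by_cases hxz : U.nm (v ⟨k, h0⟩) + U.nm (v ⟨k + 2, h2⟩) = 0
  swap
  · exact pair k (k + 2) le_rfl (by omega) h0 h2 (by omega) hxz
  set x := v ⟨k, h0⟩ with hx
  set y := v ⟨k + 1, h1⟩ with hy
  set z := v ⟨k + 2, h2⟩ with hz
  by_cases hx0 : x = 0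
  · refine ⟨ev F N k, Win_ev le_rfl h0, by rw [U.ev_self h0]; exact one_ne_zero, ?_⟩
    rw [U.ev_r _ h0, ← hx, hx0]
  have hnx : U.nm x ≠ 0 := fun e => hx0 (U.nm_eq_zero.1 e)
  have h2F : (2 : F) = 0 :=
    (mul_eq_zero.1 (show (2 : F) * U.nm x = 0 by linear_combination hxy + hxz - hyz)).resolve_right hnx
  have hny : U.nm y = U.nm x := by linear_combination hxy - U.nm x * h2F
  have hnz : U.nm z = U.nm x := by linear_combination hxz - U.nm x * h2F
  have hy0 : y ≠ 0 := fun e => hnx (by rw [← hny, e, U.nm_zero])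
  have hz0 : z ≠ 0 := fun e => hnx (by rw [← hnz, e, U.nm_zero])
  obtain ⟨z0, hz0'⟩ := U.exists_trace
  refine ⟨(1 / U.σ x) • ev F N k + (z0 / U.σ y) • ev F N (k + 1) + (-(1 + z0) / U.σ z) • ev F N (k + 2),
    (((Win_ev le_rfl h0).smul _).add ((Win_ev (by omega) h1).smul _)).add ((Win_ev (by omega) h2).smul _),
    ?_, ?_⟩
  · simp only [U.add_l, U.add_r, U.smul_l, U.smul_r, U.ev_self h0, U.ev_self h1, U.ev_self h2,
      U.ev_ne h0 h1 (by omega), U.ev_ne h0 h2 (by omega), U.ev_ne h1 h0 (by omega),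
      U.ev_ne h1 h2 (by omega), U.ev_ne h2 h0 (by omega), U.ev_ne h2 h1 (by omega),
      mul_zero, add_zero, zero_add, mul_one]
    have e : U.nm (1 / U.σ x) + U.nm (z0 / U.σ y) + U.nm (-(1 + z0) / U.σ z) ≠ 0 := by
      rw [U.nm_div, U.nm_div, U.nm_div, U.nm_sigma, U.nm_sigma, U.nm_sigma, U.nm_neg, hny, hnz,
        ← add_div, ← add_div, div_ne_zero_iff]
      refine ⟨?_, hnx⟩
      simp only [UF.nm, map_add, map_one]
      intro e; exact one_ne_zero (α := F) (by linear_combination e - hz0' - (1 + z0 * U.σ z0) * h2F)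
    simp only [UF.nm] at e
    intro e'; apply e; linear_combination e'
  · simp only [U.add_r, U.smul_r, U.ev_r _ h0, U.ev_r _ h1, U.ev_r _ h2, ← hx, ← hy, ← hz,
      map_div₀, map_inv₀, map_neg, map_add, map_one, U.hσσ, one_div, div_mul_cancel₀ _ hy0,
      div_mul_cancel₀ _ hz0, inv_mul_cancel₀ hx0]
    ring

namespace Dat.Step

variable {U : UF F q} {D : Dat U N G} {k : ℕ} (S : D.Step k)
include S

theorem hk3 : k + 1 + 3 ≤ N := by have := S.hk; omega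

theorem trans_top {v : Fin N → F} (hv : Win k N v) (h1 : hf q v v = 1) :
    ∃ z ∈ D.Gam k, act z.1 (ev F N k) = v := by
  obtain ⟨w, hw, hw1, hvw⟩ := U.exists_perp S.hk3 v
  have hn := S.nb1_mem hw hw1
  exact ⟨_, S.nb_mem hn.1 ⟨hv, h1⟩ (by rw [hn.2]; exact hvw), S.nb_act hn.1 ⟨hv, h1⟩ (by rw [hn.2]; exact hvw)⟩

theorem exists_fourth {u1 u2 u3 : Fin N → F} (h1 : Un U k u1) (h2 : Un U k u2) (h3 : Un U k u3)
    (h21 : hf q u2 u1 = 0) (h31 : hf q u3 u1 = 0) (h32 : hf q u3 u2 = 0) :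
    ∃ y, Un U k y ∧ hf q y u1 = 0 ∧ hf q y u2 = 0 ∧ hf q y u3 = 0 := by
  obtain ⟨g, hg, e1⟩ := S.trans_top h1.1 h1.2
  obtain ⟨j, hj, e2, e3⟩ := S.frame2 (S.pull_win hg h2 (by rw [e1]; exact h21)) (S.Un_act_inv hg h2).2
    (S.pull_win hg h3 (by rw [e1]; exact h31)) (S.Un_act_inv hg h3).2
    (by rw [← hf_act g.1, act_act_inv, act_act_inv]; exact h32)
  have h4 : k + 3 < N := by have := S.hk; omega
  have hgj : g * j ∈ D.Gam k := mul_mem hg (D.Gam_mono (Nat.le_succ k) hj)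
  have a1 : act (g * j).1 (ev F N k) = u1 := by rw [Prod.fst_mul, act_mul, S.K_fix hj, e1]
  have a2 : act (g * j).1 (ev F N (k + 1)) = u2 := by rw [Prod.fst_mul, act_mul, e2, act_act_inv]
  have a3 : act (g * j).1 (ev F N (k + 2)) = u3 := by rw [Prod.fst_mul, act_mul, e3, act_act_inv]
  refine ⟨act (g * j).1 (ev F N (k + 3)), S.Un_act hgj (S.Un_ev (by omega) h4), ?_, ?_, ?_⟩
  · rw [← a1, hf_act, U.ev_ne h4 S.lt0 (by omega)]
  · rw [← a2, hf_act, U.ev_ne h4 S.lt1 (by omega)]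
  · rw [← a3, hf_act, U.ev_ne h4 S.lt2 (by omega)]

theorem strip {x ξ c : Fin N → F} (hx : Win (k + 1) N x) (hx1 : hf q x x = 1)
    (hξ : Win (k + 1) N ξ) (hξ1 : hf q ξ ξ = 1) (hc : Un U k c) (hcx : hf q c x = 0)
    (hl : U.nm (c ⟨k, S.lt0⟩) = 1) (hα0 : U.nm (hf q ξ (c - c ⟨k, S.lt0⟩ • ev F N k)) ≠ 0)
    (hγ1 : U.nm (hf q ξ x) ≠ 1)
    (hγα : U.nm (hf q ξ x) ≠ 1 - U.nm (hf q ξ (c - c ⟨k, S.lt0⟩ • ev F N k))) :
    ∃ y, Un U k y ∧ hf q y ξ = 0 ∧ hf q c y = 0 ∧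
      D.R k (D.nb k (D.nb k 1 x) c) (D.nb k (D.nb k (D.nb k 1 ξ) y) c) := by
  set l := c ⟨k, S.lt0⟩
  set r := c - l • ev F N k with hr
  set α := hf q ξ r with hα
  set γ := hf q ξ x with hγ
  have hrw : Win (k + 1) N r := hc.1.split S.lt0
  have hex : ∀ {z : Fin N → F}, Win (k + 1) N z → hf q (ev F N k) z = 0 :=
    fun hz => U.swap_eq_zero (S.perp_succ hz)
  have hrr : hf q r r = 0 := by
    have h2 : hf q c (ev F N k) = l := U.ev_r c S.lt0
    rw [hr, U.sub_r, U.smul_r, ← hr, S.perp_succ hrw, mul_zero, sub_zero, hr, U.sub_l, U.smul_l, hc.2,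
      ← U.swap, h2]
    rw [← hl, UF.nm, sub_self]
  have hrx : hf q r x = 0 := by rw [hr, U.sub_l, U.smul_l, hcx, hex hx, mul_zero, sub_zero]
  have hxr : hf q x r = 0 := U.swap_eq_zero hrx
  have hrξ : hf q r ξ = U.σ α := (U.swap ξ r).symm
  have hxξ : hf q x ξ = U.σ γ := (U.swap ξ x).symm
  have h1γ : 1 - U.nm γ ≠ 0 := sub_ne_zero.2 (Ne.symm hγ1)
  set p := -U.σ α / (1 - U.nm γ) with hp
  have hpe : p * (1 - U.nm γ) = -U.σ α := div_mul_cancel₀ _ h1γ
  set y' := r + p • ξ + (-p * γ) • x with hy'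
  have hy'w : Win (k + 1) N y' := (hrw.add (hξ.smul _)).add (hx.smul _)
  have y'ξ : hf q y' ξ = 0 := by
    simp only [hy', U.add_l, U.smul_l, hξ1, hrξ, hxξ]
    simp only [UF.nm] at hpe
    linear_combination hpe
  have y'x : hf q y' x = 0 := by
    simp only [hy', U.add_l, U.smul_l, hrx, hx1, ← hγ]; ring
  have y'r : hf q y' r = p * α := by
    simp only [hy', U.add_l, U.smul_l, hrr, hxr, ← hα]; ring
  have y'y' : hf q y' y' = p * α := by
    conv_lhs => arg 3; rw [hy']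
    rw [U.add_r, U.add_r, U.smul_r, U.smul_r, y'r, y'ξ, y'x]; ring
  have hpα : p * α = -U.nm α / (1 - U.nm γ) := by simp only [hp, UF.nm]; ring
  have hpα0 : p * α ≠ 0 := by
    rw [hpα]; exact div_ne_zero (neg_ne_zero.2 hα0) h1γ
  have hσpα : U.σ (p * α) = p * α := by
    rw [hpα, map_div₀, map_neg, map_sub, map_one, U.nm_fix, U.nm_fix]
  set y0 := -(p * α) * l with hy0
  set Y := y0 • ev F N k + y' with hY
  have hYY : hf q Y Y = (p * α) * (p * α + 1) := by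
    simp only [hY, U.add_l, U.add_r, U.smul_l, U.smul_r, U.ev_self S.lt0, hex hy'w, S.perp_succ hy'w,
      y'y', hy0, map_neg, map_mul, hσpα]
    simp only [UF.nm] at hl
    linear_combination (p * α) * (p * α) * hl
  have hYne : hf q Y Y ≠ 0 := by
    rw [hYY]
    refine mul_ne_zero hpα0 fun e => hγα ?_
    rw [hpα] at e
    field_simp at e
    linear_combination -e
  obtain ⟨μ, hμ, hu⟩ := U.exists_unit_smul hYne
  set y := μ • Y with hy
  have hyU : Un U k y :=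
    ⟨(((Win_ev le_rfl S.lt0).smul y0).add (hy'w.mono (Nat.le_succ k) le_rfl)).smul μ, hu⟩
  have yξ : hf q y ξ = 0 := by
    simp only [hy, hY, U.smul_l, U.add_l, hex hξ, y'ξ]; ring
  have yx : hf q y x = 0 := by
    simp only [hy, hY, U.smul_l, U.add_l, hex hx, y'x]; ring
  have y'c : hf q y' c = p * α := by
    rw [show c = l • ev F N k + r by rw [hr]; abel, U.add_r, U.smul_r, S.perp_succ hy'w, y'r]; ring
  have yc : hf q y c = 0 := by
    have hac : hf q (ev F N k) c = U.σ l := by rw [← U.swap, U.ev_r c S.lt0]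
    simp only [hy, hY, U.smul_l, U.add_l, hac, y'c, hy0]
    simp only [UF.nm] at hl
    linear_combination -(μ * (p * α)) * hl
  have yk : hf q y (ev F N k) = μ * y0 := by
    simp only [hy, hY, U.smul_l, U.add_l, U.ev_self S.lt0, S.perp_succ hy'w]; ring
  have yne : U.nm (hf q y (ev F N k)) ≠ 1 := by
    rw [yk]
    intro e
    have e2 : μ * U.σ μ * hf q Y Y = 1 := by rw [U.smul_l, U.smul_r] at hu; linear_combination hu
    simp only [UF.nm, hy0, map_mul, map_neg, hσpα] at e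
    simp only [UF.nm] at hl
    have : μ * U.σ μ * (p * α) = 0 := by
      linear_combination e2 - e - (μ * U.σ μ) * hYY +
        (μ * U.σ μ * (p * α) * (p * α)) * hl
    exact mul_ne_zero (mul_ne_zero hμ ((map_ne_zero U.σ).2 hμ)) hpα0 (by linear_combination this)
  have hn := S.nb1_mem hx hx1
  have hcy : hf q c y = 0 := U.swap_eq_zero yc
  have hxU : Un U k x := ⟨hx.mono (Nat.le_succ k) le_rfl, hx1⟩
  have hξU : Un U k ξ := ⟨hξ.mono (Nat.le_succ k) le_rfl, hξ1⟩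
  have hxa : hf q x (act (1 : SU N F q × G).1 (ev F N k)) = 0 := by
    rw [Prod.fst_one, act_one]; exact S.perp_succ hx
  have hξa : hf q ξ (act (1 : SU N F q × G).1 (ev F N k)) = 0 := by
    rw [Prod.fst_one, act_one]; exact S.perp_succ hξ
  refine ⟨y, hyU, yξ, hcy, ?_⟩
  refine (S.tri hn.1 hyU hc (by rw [hn.2]; exact yx) (by rw [hn.2]; exact hcx) hcy).symm.trans ?_
  refine S.nb_congr (S.nb_mem hn.1 hyU (by rw [hn.2]; exact yx)) ?_ hc
    (by rw [S.nb_act hn.1 hyU (by rw [hn.2]; exact yx)]; exact hcy)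
  exact S.indep_nondeg (one_mem _) hxU hxa hξU hξa hyU yx yξ (by rw [Prod.fst_one, act_one]; exact yne)

/-- Independence of two middle vectors whose form value is not of norm one. -/
theorem indep_swap {w w' c : Fin N → F} (hw : Win (k + 1) N w) (hw1 : hf q w w = 1)
    (hw' : Win (k + 1) N w') (hw1' : hf q w' w' = 1) (hc : Un U k c) (hcw : hf q c w = 0)
    (hcw' : hf q c w' = 0) (hφ : U.nm (hf q w' w) ≠ 1) :
    D.R k (D.nb k (D.nb k 1 w) c) (D.nb k (D.nb k 1 w') c) := by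
  have hn := S.nb1_mem hw hw1
  have hn' := S.nb1_mem hw' hw1'
  have hA := S.Un_ev le_rfl S.lt0
  have haw : hf q (ev F N k) w = 0 := U.swap_eq_zero (S.perp_succ hw)
  have hmemA := S.nb_mem hn.1 hA (by rw [hn.2]; exact haw)
  have hmemT := S.nb_mem hn.1 hc (by rw [hn.2]; exact hcw)
  have hactT := S.nb_act hn.1 hc (by rw [hn.2]; exact hcw)
  have hU' : Un U k w' := ⟨hw'.mono (Nat.le_succ k) le_rfl, hw1'⟩
  have hw'c : hf q w' c = 0 := U.swap_eq_zero hcw'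
  have e1 := S.indep_nondeg hn.1 hA (by rw [hn.2]; exact haw) hc (by rw [hn.2]; exact hcw) hU'
    (S.perp_succ hw') hw'c (by rw [hn.2]; exact hφ)
  have e2 := S.nb_congr hmemA (S.symm_one hw hw1) hU'
    (by rw [S.nb_act hn.1 hA (by rw [hn.2]; exact haw)]; exact S.perp_succ hw')
  have e3 := S.nb_congr hn'.1 (e2.symm.trans e1) hc (by rw [hn'.2]; exact hcw')
  have e4 := S.symm hmemT hU' (by rw [hactT]; exact hw'c)
  rw [hactT] at e4
  exact (e3.trans e4).symm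

/-- Independence of the middle vector. -/
theorem indep_all (hpar : U.Params) {w w' c : Fin N → F} (hw : Win (k + 1) N w) (hw1 : hf q w w = 1)
    (hw' : Win (k + 1) N w') (hw1' : hf q w' w' = 1) (hc : Un U k c) (hcw : hf q c w = 0)
    (hcw' : hf q c w' = 0) : D.R k (D.nb k (D.nb k 1 w) c) (D.nb k (D.nb k 1 w') c) := by
  by_cases hd : U.nm (c ⟨k, S.lt0⟩) ≠ 1 ∨ c = c ⟨k, S.lt0⟩ • ev F N k
  · exact S.indep_one hw hw1 hw' hw1' hc hcw hcw' hd
  push Not at hd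
  obtain ⟨hl, hcne⟩ := hd
  by_cases hφ : U.nm (hf q w' w) ≠ 1
  · exact S.indep_swap hw hw1 hw' hw1' hc hcw hcw' hφ
  push Not at hφ
  set l := c ⟨k, S.lt0⟩ with hldef
  set r := c - l • ev F N k with hr
  have hrw : Win (k + 1) N r := hc.1.split S.lt0
  have hr0 : r ≠ 0 := fun e => hcne (sub_eq_zero.1 e)
  have hrwa : ∀ {x : Fin N → F}, Win (k + 1) N x → hf q c x = 0 → hf q r x = 0 := fun {x} hx hcx => by
    rw [hr, U.sub_l, U.smul_l, hcx, U.swap_eq_zero (S.perp_succ hx), mul_zero, sub_zero]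
  have hrrw := hrwa hw hcw
  have hrrw' := hrwa hw' hcw'
  have hrr : hf q r r = 0 := by
    have h2 : hf q c (ev F N k) = l := U.ev_r c S.lt0
    rw [hr, U.sub_r, U.smul_r, ← hr, S.perp_succ hrw, mul_zero, sub_zero, hr, U.sub_l, U.smul_l, hc.2,
      ← U.swap, h2]
    rw [← hl, UF.nm, sub_self]
  obtain ⟨j, hj⟩ : ∃ j : Fin N, r j ≠ 0 := Function.ne_iff.1 hr0
  have hjk : k + 1 ≤ (j : ℕ) := by
    by_contra hh
    exact hj (hrw j (Or.inl (by omega)))
  set z1 := ev F N (j : ℕ) - hf q (ev F N (j : ℕ)) w • w with hz1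
  have hz1w : Win (k + 1) N z1 := (Win_ev hjk j.isLt).sub (hw.smul _)
  have hz1ww : hf q z1 w = 0 := by rw [hz1, U.sub_l, U.smul_l, hw1]; ring
  have hz1r : hf q z1 r = U.σ (r j) := by
    rw [hz1, U.sub_l, U.smul_l, U.swap_eq_zero hrrw, mul_zero, sub_zero, ← U.swap, U.ev_r _ j.isLt]
  set z := (U.σ (r j))⁻¹ • z1 with hz
  have hzr : hf q z r = 1 := by
    rw [hz, U.smul_l, hz1r, inv_mul_cancel₀ ((map_ne_zero U.σ).2 hj)]
  have hrz : hf q r z = 1 := by rw [← U.swap, hzr, map_one]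
  have hzw : hf q z w = 0 := by rw [hz, U.smul_l, hz1ww, mul_zero]
  obtain ⟨z0, hz0⟩ := U.exists_trace
  set t := -(hf q z z) * z0 with ht
  set rs := z + t • r with hrs
  have hrsw : Win (k + 1) N rs := (hz1w.smul _).add (hrw.smul t)
  have rsr : hf q rs r = 1 := by rw [hrs, U.add_l, hzr, U.smul_l, hrr]; ring
  have rrs : hf q r rs = 1 := by rw [← U.swap, rsr, map_one]
  have rsw : hf q rs w = 0 := by rw [hrs, U.add_l, hzw, U.smul_l, hrrw]; ring
  have rsrs : hf q rs rs = 0 := by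
    simp only [hrs, U.add_l, U.add_r, U.smul_l, U.smul_r, hzr, hrz, hrr, ht, map_mul, map_neg,
      U.hf_self_fix]
    linear_combination -(hf q z z) * hz0
  set φ := hf q w w' with hφdef
  set μ := hf q rs w' with hμdef
  have hφn : U.nm φ = 1 := by rw [hφdef, ← U.swap, U.nm_sigma]; exact hφ
  obtain ⟨α, γ, hα0, hα1, hγ1, hγα, hγ1', hγα'⟩ := hpar (μ * U.σ φ)
  have hα : α ≠ 0 := fun e => hα0 (by rw [e, U.nm_zero])
  set β := (1 - U.nm γ) * z0 / U.σ α with hβ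
  set ξ := α • rs + β • r + γ • w with hξ
  have hξw : Win (k + 1) N ξ := ((hrsw.smul _).add (hrw.smul _)).add (hw.smul _)
  have hσα : U.σ α ≠ 0 := (map_ne_zero U.σ).2 hα
  have hb : β * U.σ α = (1 - U.nm γ) * z0 := div_mul_cancel₀ _ hσα
  have hb' : U.σ β * α = (1 - U.nm γ) * U.σ z0 := by
    have := congrArg U.σ hb
    rwa [map_mul, map_mul, U.hσσ, map_sub, map_one, U.nm_fix] at this
  have hξ1 : hf q ξ ξ = 1 := by
    simp only [hξ, U.add_l, U.add_r, U.smul_l, U.smul_r, rsrs, rsr, rrs, hrr, rsw, U.swap_eq_zero rsw,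
      hrrw, U.swap_eq_zero hrrw, hw1]
    simp only [UF.nm] at hb hb'
    linear_combination hb + hb' + (1 - γ * U.σ γ) * hz0
  have ξr : hf q ξ r = α := by
    simp only [hξ, U.add_l, U.smul_l, rsr, hrr, U.swap_eq_zero hrrw]; ring
  have ξw : hf q ξ w = γ := by
    simp only [hξ, U.add_l, U.smul_l, rsw, hrrw, hw1]; ring
  have ξw' : U.nm (hf q ξ w') = U.nm (γ + α * (μ * U.σ φ)) := by
    have : hf q ξ w' = φ * (γ + α * (μ * U.σ φ)) := by
      simp only [hξ, U.add_l, U.smul_l, hrrw', ← hφdef, ← hμdef]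
      simp only [UF.nm] at hφn
      linear_combination -(α * μ) * hφn
    rw [this, U.nm_mul, hφn, one_mul]
  obtain ⟨y, hy, hyξ, hcy, e1⟩ := S.strip hw hw1 hξw hξ1 hc hcw hl (by rw [ξr]; exact hα0)
    (by rw [ξw]; exact hγ1) (by rw [ξw, ξr]; exact hγα)
  obtain ⟨y', hy', hyξ', hcy', e2⟩ := S.strip hw' hw1' hξw hξ1 hc hcw' hl (by rw [ξr]; exact hα0)
    (by rw [ξw']; exact hγ1') (by rw [ξw', ξr]; exact hγα')
  have hnξ := S.nb1_mem hξw hξ1
  have hcξ : hf q c ξ = U.σ α := by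
    rw [show c = l • ev F N k + r by rw [hr]; abel, U.add_l, U.smul_l,
      U.swap_eq_zero (S.perp_succ hξw), mul_zero, zero_add, ← U.swap, ξr]
  exact e1.trans ((S.indep_nondeg hnξ.1 hy (by rw [hnξ.2]; exact hyξ) hy' (by rw [hnξ.2]; exact hyξ') hc
    hcy hcy' (by rw [hnξ.2, hcξ, U.nm_sigma]; exact hα1)).trans e2.symm)

end Dat.Step

end CfsgLib.Chev.CT.Phan
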