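/-
A section of the map from cosets to unit vectors.
-/
import Cfsg.Agent.Lib.Chev.CT.Phan.Induction

set_option autoImplicit false

namespace CfsgLib.Chev.CT.Phan

open Matrix Cfsg

universe u v

variable {F : Type u} [Field F] {q N : ℕ} {G : Type v} [Group G]

namespace Dat

variable {U : UF F q} (D : Dat U N G)

/-- The middle vector used by the section. -/
noncomputable def perp (k : ℕ) (x : Fin N → F) : Fin N → F :=
  Classical.epsilon fun w => Win (k + 1) N w ∧ hf q w w = 1 ∧ hf q x w = 0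

/-- The coset over a unit vector. -/
noncomputable def sec (k : ℕ) (x : Fin N → F) : SU N F q × G :=
  D.nb k (D.nb k 1 (perp (q := q) k x)) x

/-- What the section needs: a moving norm and independence of the middle vector. -/
structure Good (k : ℕ) : Prop where
  norms : (∃ α, U.nm α ≠ 0 ∧ U.nm α ≠ 1) ∨ ∀ a, U.nm a = 0 ∨ U.nm a = 1
  indep : ∀ {w w' c : Fin N → F}, Win (k + 1) N w → hf q w w = 1 → Win (k + 1) N w' → hf q w' w' = 1 →
    Un U k c → hf q c w = 0 → hf q c w' = 0 → D.R k (D.nb k (D.nb k 1 w) c) (D.nb k (D.nb k 1 w') c)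

namespace Step

variable {D} {k : ℕ} (S : D.Step k)
include S

theorem good_of_params (hpar : U.Params) : D.Good k :=
  ⟨Or.inl hpar.exists_alpha, fun hw hw1 hw' hw1' hc hcw hcw' => S.indep_all hpar hw hw1 hw' hw1' hc hcw hcw'⟩

theorem perp_spec (x : Fin N → F) :
    Win (k + 1) N (perp (q := q) k x) ∧ hf q (perp (q := q) k x) (perp (q := q) k x) = 1 ∧
      hf q x (perp (q := q) k x) = 0 :=
  Classical.epsilon_spec (p := fun w => Win (k + 1) N w ∧ hf q w w = 1 ∧ hf q x w = 0)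
    (U.exists_perp S.hk3 x)

theorem sec_mem {x : Fin N → F} (hx : Un U k x) :
    D.sec k x ∈ D.Gam k ∧ act (D.sec k x).1 (ev F N k) = x := by
  obtain ⟨h1, h2, h3⟩ := S.perp_spec x
  have hn := S.nb1_mem h1 h2
  have h : hf q x (act (D.nb k 1 (perp (q := q) k x)).1 (ev F N k)) = 0 := by rw [hn.2]; exact h3
  exact ⟨S.nb_mem hn.1 hx h, S.nb_act hn.1 hx h⟩

theorem sec_indep (hpar : D.Good k) {x w : Fin N → F} (hx : Un U k x) (hw : Win (k + 1) N w)
    (hw1 : hf q w w = 1) (hxw : hf q x w = 0) : D.R k (D.nb k (D.nb k 1 w) x) (D.sec k x) :=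
  hpar.indep hw hw1 (S.perp_spec x).1 (S.perp_spec x).2.1 hx hxw (S.perp_spec x).2.2

theorem sec_perp (hpar : D.Good k) {x : Fin N → F} (hx : Un U k x) (hxa : hf q x (ev F N k) = 0) :
    D.R k (D.sec k x) (D.nb k 1 x) := by
  obtain ⟨w, hw, hw1, hxw⟩ := U.exists_perp S.hk3 x
  exact (S.sec_indep hpar hx hw hw1 hxw).symm.trans
    (S.tri_one hw hw1 (S.win_succ hx.1 hxa) hx.2 hxw)

theorem indep_g (hpar : D.Good k) {g : SU N F q × G} (hg : g ∈ D.Gam k) {w w' c : Fin N → F}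
    (hw : Un U k w) (hwg : hf q w (act g.1 (ev F N k)) = 0) (hw' : Un U k w')
    (hwg' : hf q w' (act g.1 (ev F N k)) = 0) (hc : Un U k c) (hcw : hf q c w = 0)
    (hcw' : hf q c w' = 0) : D.R k (D.nb k (D.nb k g w) c) (D.nb k (D.nb k g w') c) := by
  rw [nb2_pull g w, nb2_pull g w']
  refine (hpar.indep (S.pull_win hg hw hwg) (S.Un_act_inv hg hw).2 (S.pull_win hg hw' hwg')
    (S.Un_act_inv hg hw').2 (S.Un_act_inv hg hc) ?_ ?_).left g
  · rw [← hf_act g.1, act_act_inv, act_act_inv]; exact hcw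
  · rw [← hf_act g.1, act_act_inv, act_act_inv]; exact hcw'

theorem exists_other (hpar : D.Good k) {w x x' : Fin N → F} (hw : Win (k + 1) N w) (hw1 : hf q w w = 1)
    (hx : Un U k x) (hxw : hf q x w = 0) (hx' : Un U k x') (hxx : hf q x' x = 0)
    (hxa : hf q x (ev F N k) ≠ 0) (hxa' : hf q x' (ev F N k) ≠ 0) :
    ∃ x2, Un U k x2 ∧ hf q x2 w = 0 ∧ hf q x2 x' = 0 ∧
      U.nm (hf q x2 (ev F N k)) ≠ 1 - U.nm (hf q x' (ev F N k)) := by
  by_cases h0 : U.nm (hf q x (ev F N k)) ≠ 1 - U.nm (hf q x' (ev F N k))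
  · exact ⟨x, hx, hxw, U.swap_eq_zero hxx, h0⟩
  push Not at h0
  have hα : ∃ α, U.nm α ≠ 0 ∧ U.nm α ≠ 1 := hpar.norms.resolve_right fun h01 => by
    have e1 := (h01 _).resolve_left fun e => hxa (U.nm_eq_zero.1 e)
    have e2 := (h01 _).resolve_left fun e => hxa' (U.nm_eq_zero.1 e)
    rw [e1, e2, sub_self] at h0
    exact one_ne_zero h0
  have hne : 1 - U.nm (hf q x' (ev F N k)) ≠ 0 := by rw [← h0]; exact fun e => hxa (U.nm_eq_zero.1 e)
  have hwa := S.perp_succ hw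
  have hwU : Un U k w := ⟨hw.mono (Nat.le_succ k) le_rfl, hw1⟩
  set φ := hf q x' w with hφ
  set ρ := x' - φ • w with hρ
  have hρW : Win k N ρ := hx'.1.sub (hwU.1.smul φ)
  have hρw : hf q ρ w = 0 := by rw [hρ, U.sub_l, U.smul_l, hw1, ← hφ]; ring
  have hρx : hf q ρ x = 0 := by rw [hρ, U.sub_l, U.smul_l, hxx, U.swap_eq_zero hxw]; ring
  have hρx' : hf q ρ x' = 1 - U.nm φ := by
    rw [hρ, U.sub_l, U.smul_l, hx'.2, ← U.swap x' w, ← hφ]; rfl
  have hρρ : hf q ρ ρ = 1 - U.nm φ := by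
    conv_lhs => arg 3; rw [hρ]
    rw [U.sub_r, U.smul_r, hρx', hρw]; ring
  have hρa : hf q ρ (ev F N k) = hf q x' (ev F N k) := by
    rw [hρ, U.sub_l, U.smul_l, hwa]; ring
  by_cases hn : U.nm φ = 1
  · have hρρ0 : hf q ρ ρ = 0 := by rw [hρρ, hn, sub_self]
    set d := -hf q x (ev F N k) / hf q x' (ev F N k) with hd
    refine ⟨x + d • ρ, ⟨hx.1.add (hρW.smul d), ?_⟩, ?_, ?_, ?_⟩
    · simp only [U.add_l, U.add_r, U.smul_l, U.smul_r, hρρ0, hρx, U.swap_eq_zero hρx, hx.2]; ring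
    · rw [U.add_l, U.smul_l, hxw, hρw]; ring
    · rw [U.add_l, U.smul_l, U.swap_eq_zero hxx, hρx', hn]; ring
    · rw [U.add_l, U.smul_l, hρa, hd, div_mul_cancel₀ _ hxa', add_neg_cancel, U.nm_zero]
      exact Ne.symm hne
  · have hρ0 : hf q ρ ρ ≠ 0 := by rw [hρρ]; exact sub_ne_zero.2 (Ne.symm hn)
    obtain ⟨m, hm, hu⟩ := U.exists_unit_smul hρ0
    obtain ⟨y, hy, hyw, hyx, hyu⟩ := S.exists_fourth hwU hx ⟨hρW.smul m, hu⟩ hxw
      (by rw [U.smul_l, hρw, mul_zero]) (by rw [U.smul_l, hρx, mul_zero])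
    have hyx' : hf q y x' = 0 := by
      have hyρ : hf q y ρ = 0 := by
        rw [U.smul_r] at hyu; exact (mul_eq_zero.1 hyu).resolve_left ((map_ne_zero U.σ).2 hm)
      rw [show x' = φ • w + ρ by rw [hρ]; abel, U.add_r, U.smul_r, hyw, hyρ]; ring
    by_cases h1 : U.nm (hf q y (ev F N k)) ≠ 1 - U.nm (hf q x' (ev F N k))
    · exact ⟨y, hy, hyw, hyx', h1⟩
    push Not at h1
    set X := hf q x (ev F N k) * U.σ (hf q y (ev F N k)) with hX
    have hX0 : X ≠ 0 := mul_ne_zero hxa ((map_ne_zero U.σ).2 fun e =>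
      hne (by rw [← h1, e, U.nm_zero]))
    obtain ⟨a, b, hab, hc⟩ := U.exists_cross hα hX0
    refine ⟨a • x + U.σ b • y, ⟨(hx.1.smul a).add (hy.1.smul _), ?_⟩, ?_, ?_, ?_⟩
    · rw [U.hf_comb, hx.2, hy.2, hyx, U.swap_eq_zero hyx, U.hσσ]
      simp only [UF.nm] at hab
      linear_combination hab
    · rw [U.add_l, U.smul_l, U.smul_l, hxw, hyw]; ring
    · rw [U.add_l, U.smul_l, U.smul_l, U.swap_eq_zero hxx, hyx']; ring
    · intro e
      rw [U.add_l, U.smul_l, U.smul_l, U.nm_add, U.nm_mul, U.nm_mul, U.nm_sigma, h1, h0] at e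
      apply hc
      simp only [hX, map_mul, U.hσσ] at e ⊢
      linear_combination e - (1 - U.nm (hf q x' (ev F N k))) * hab

theorem P3 (hpar : D.Good k) {x x' : Fin N → F} (hx : Un U k x) (hx' : Un U k x')
    (hxx : hf q x' x = 0) : D.R k (D.nb k (D.sec k x) x') (D.sec k x') := by
  have hs := S.sec_mem hx
  have hh : hf q x' (act (D.sec k x).1 (ev F N k)) = 0 := by rw [hs.2]; exact hxx
  by_cases hxa : hf q x (ev F N k) = 0
  · exact (S.nb_congr hs.1 (S.sec_perp hpar hx hxa) hx' hh).trans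
      (S.sec_indep hpar hx' (S.win_succ hx.1 hxa) hx.2 hxx)
  by_cases hxa' : hf q x' (ev F N k) = 0
  · have hn := S.nb1_mem (S.win_succ hx'.1 hxa') hx'.2
    have e1 := S.sec_indep hpar hx (S.win_succ hx'.1 hxa') hx'.2 (U.swap_eq_zero hxx)
    have e2 := S.symm hn.1 hx (by rw [hn.2]; exact U.swap_eq_zero hxx)
    rw [hn.2] at e2
    exact ((S.nb_congr hs.1 e1.symm hx' hh).trans e2).trans (S.sec_perp hpar hx' hxa').symm
  obtain ⟨hw, hw1, hxw⟩ := S.perp_spec x
  set w := perp (q := q) k x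
  have hn := S.nb1_mem hw hw1
  obtain ⟨x2, hx2, hx2w, hx2', hx2a⟩ := S.exists_other hpar hw hw1 hx hxw hx' hxx hxa hxa'
  set a1 := ev F N k - hf q (ev F N k) x' • x' - hf q (ev F N k) x2 • x2 with ha1
  have hax' : hf q a1 x' = 0 := by
    simp only [ha1, U.sub_l, U.smul_l, hx'.2, hx2']; ring
  have hax2 : hf q a1 x2 = 0 := by
    simp only [ha1, U.sub_l, U.smul_l, hx2.2, U.swap_eq_zero hx2']; ring
  have ha11 : hf q a1 a1 ≠ 0 := by
    have e : hf q a1 a1 = 1 - U.nm (hf q x' (ev F N k)) - U.nm (hf q x2 (ev F N k)) := by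
      conv_lhs => arg 3; rw [ha1]
      rw [U.sub_r, U.sub_r, U.smul_r, U.smul_r, hax', hax2, mul_zero, mul_zero, sub_zero, sub_zero,
        ha1, U.sub_l, U.sub_l, U.smul_l, U.smul_l, U.ev_self S.lt0, ← U.swap x' (ev F N k),
        ← U.swap x2 (ev F N k)]
      simp only [UF.nm]; ring
    rw [e]
    exact fun h => hx2a (by linear_combination -h)
  obtain ⟨m, hm, hu⟩ := U.exists_unit_smul ha11
  have ha1W : Win k N a1 :=
    ((Win_ev le_rfl S.lt0).sub (hx'.1.smul _)).sub (hx2.1.smul _)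
  obtain ⟨y, hy, hyx', hyx2, hyu⟩ := S.exists_fourth hx' hx2 ⟨ha1W.smul m, hu⟩ hx2'
    (by rw [U.smul_l, hax', mul_zero]) (by rw [U.smul_l, hax2, mul_zero])
  have hya : hf q y (ev F N k) = 0 := by
    have hy1 : hf q y a1 = 0 := by
      rw [U.smul_r] at hyu; exact (mul_eq_zero.1 hyu).resolve_left ((map_ne_zero U.σ).2 hm)
    rw [ha1, U.sub_r, U.sub_r, U.smul_r, U.smul_r, hyx', hyx2, mul_zero, mul_zero, sub_zero, sub_zero] at hy1
    exact hy1
  have hyW := S.win_succ hy.1 hya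
  have hny := S.nb1_mem hyW hy.2
  have e1 := S.indep_g hpar hn.1 hx (by rw [hn.2]; exact hxw) hx2 (by rw [hn.2]; exact hx2w) hx' hxx
    (U.swap_eq_zero hx2')
  have e2 := (S.sec_indep hpar hx2 hw hw1 hx2w).trans
    (S.sec_indep hpar hx2 hyW hy.2 (U.swap_eq_zero hyx2)).symm
  have e3 := S.nb_congr (S.nb_mem hn.1 hx2 (by rw [hn.2]; exact hx2w)) e2 hx'
    (by rw [S.nb_act hn.1 hx2 (by rw [hn.2]; exact hx2w)]; exact U.swap_eq_zero hx2')
  have e4 := S.tri hny.1 hx2 hx' (by rw [hny.2]; exact U.swap_eq_zero hyx2)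
    (by rw [hny.2]; exact U.swap_eq_zero hyx') (U.swap_eq_zero hx2')
  exact ((e1.trans e3).trans e4).trans (S.sec_indep hpar hx' hyW hy.2 (U.swap_eq_zero hyx'))

theorem K_sec (hpar : D.Good k) {j : SU N F q × G} (hj : j ∈ D.Gam (k + 1)) {x : Fin N → F}
    (hx : Un U k x) : D.R k (j * D.sec k x) (D.sec k (act j.1 x)) := by
  obtain ⟨hw, hw1, hxw⟩ := S.perp_spec x
  exact (S.nb2_K hj hw hw1 hx hxw).symm.trans
    (S.sec_indep hpar (S.Un_act (D.Gam_mono (Nat.le_succ k) hj) hx) (U.Win_act (D.Gam_fb hj) hw)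
      (by rw [hf_act]; exact hw1) (by rw [hf_act]; exact hxw))

theorem LS_sec (hpar : D.Good k) {h : SU N F q × G} (hh : h ∈ D.LS k) {x : Fin N → F}
    (hx : Un U k x) : D.R k (h * D.sec k x) (D.sec k (act h.1 x)) := by
  obtain ⟨a, b, hab, rfl⟩ := D.el_surj (by have := S.hk; omega) hh
  set g := D.el (l := k) (by have := S.hk; omega) a b hab with hg
  have hgm : g ∈ D.Gam k := D.LS_le_Gam le_rfl (D.el_mem _ _ _ _)
  set c := a • ev F N k + b • ev F N (k + 1)
  have hgc : act g.1 (ev F N k) = c := D.el_act0 _ _ _ _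
  have hc : Un U k c := hgc ▸ S.Un_act hgm (S.Un_ev le_rfl S.lt0)
  have hc2 : hf q c (ev F N (k + 2)) = 0 := by
    rw [U.add_l, U.smul_l, U.smul_l, U.ev_ne S.lt0 S.lt2 (by omega), U.ev_ne S.lt1 S.lt2 (by omega)]
    ring
  have e0 : D.R k g (D.sec k c) :=
    (S.flat_one a b hab).symm.trans (S.sec_indep hpar hc S.win2 (U.ev_self S.lt2) hc2)
  obtain ⟨hw, hw1, hxw⟩ := S.perp_spec x
  set w := perp (q := q) k x
  have hwU : Un U k w := ⟨hw.mono (Nat.le_succ k) le_rfl, hw1⟩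
  have hgw := S.Un_act hgm hwU
  have hgwc : hf q (act g.1 w) c = 0 := by rw [← hgc, hf_act]; exact S.perp_succ hw
  have hgx := S.Un_act hgm hx
  have hgxw : hf q (act g.1 x) (act g.1 w) = 0 := by rw [hf_act]; exact hxw
  have e1 := (S.nb_congr hgm e0 hgw (by rw [hgc]; exact hgwc)).trans (S.P3 hpar hc hgw hgwc)
  have hm := S.nb_mem hgm hgw (by rw [hgc]; exact hgwc)
  have ha := S.nb_act hgm hgw (by rw [hgc]; exact hgwc)
  have e2 := (S.nb_congr hm e1 hgx (by rw [ha]; exact hgxw)).trans (S.P3 hpar hgw hgx hgxw)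
  have : g * D.sec k x = D.nb k (D.nb k g (act g.1 w)) (act g.1 x) := by
    rw [sec, ← nb_left, ← nb_left, mul_one]
  rw [this]
  exact e2

theorem all_sec (hpar : D.Good k) {g : SU N F q × G} (hg : g ∈ D.Gam k) :
    D.R k g (D.sec k (act g.1 (ev F N k))) := by
  suffices g ∈ D.Gam k ∧ D.R k g (D.sec k (act g.1 (ev F N k))) from this.2
  have hstep : ∀ h ∈ ((D.LS k : Set (SU N F q × G)) ∪ (D.Gam (k + 1) : Set (SU N F q × G))),
      ∀ y, (y ∈ D.Gam k ∧ D.R k y (D.sec k (act y.1 (ev F N k)))) →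
        (h * y ∈ D.Gam k ∧ D.R k (h * y) (D.sec k (act (h * y).1 (ev F N k)))) := by
    rintro h (hh | hh) y ⟨hy, hy'⟩
    · refine ⟨mul_mem (D.LS_le_Gam le_rfl hh) hy, (hy'.left h).trans ?_⟩
      rw [Prod.fst_mul, act_mul]
      exact S.LS_sec hpar hh (S.Un_act hy (S.Un_ev le_rfl S.lt0))
    · refine ⟨mul_mem (D.Gam_mono (Nat.le_succ k) hh) hy, (hy'.left h).trans ?_⟩
      rw [Prod.fst_mul, act_mul]
      exact S.K_sec hpar hh (S.Un_act hy (S.Un_ev le_rfl S.lt0))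
  have hmem := S.gen hg
  rw [Subgroup.sup_eq_closure] at hmem
  clear hg
  induction hmem using Subgroup.closure_induction_left with
  | one =>
    refine ⟨one_mem _, ?_⟩
    rw [Prod.fst_one, act_one]
    exact (S.symm_one (S.perp_spec (ev F N k)).1 (S.perp_spec (ev F N k)).2.1).symm
  | mul_left h hh y _ ih => exact hstep h hh y ih
  | inv_mul_cancel h hh y _ ih =>
    refine hstep h⁻¹ ?_ y ih
    rcases hh with hh | hh
    · exact Or.inl (inv_mem (s := D.LS k) hh)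
    · exact Or.inr (inv_mem (s := D.Gam (k + 1)) hh)

/-- The induction step. -/
theorem state (hpar : D.Good k) : D.St k where
  trans _ hv h1 := S.trans_top hv h1
  onto _ hg := onto_of_trans S.lt0 S.S1 (fun _ hv h1 => S.trans_top hv h1) hg
  func z hz e := by
    have h := S.all_sec hpar hz
    rw [e, act_one] at h
    have h' : D.R k z 1 :=
      h.trans (S.symm_one (S.perp_spec (ev F N k)).1 (S.perp_spec (ev F N k)).2.1)
    exact S.S1.func z (by simpa using inv_mem h') e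

end Step

end Dat

end CfsgLib.Chev.CT.Phan
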