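/-
The completion of a unitary amalgam, and the field data over a finite field.
-/
import Cfsg.Agent.Lib.Chev.CT.Phan.Sections

set_option autoImplicit false

namespace CfsgLib.Chev.CT.Phan

open Matrix Cfsg

universe u v

variable {F : Type u} [Field F] {q N : ℕ} {G : Type v} [Group G]

namespace Dat

variable {U : UF F q} (D : Dat U N G)

/-- The data of the induction step, when the norm takes a third value. -/
theorem step_of_alpha (hα : ∃ α, U.nm α ≠ 0 ∧ U.nm α ≠ 1) {k : ℕ} (hk : k + 4 ≤ N) (S1 : D.St (k + 1))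
    (S2 : D.St (k + 2)) : D.Step k where
  hk := hk
  S1 := S1
  S2 := S2
  gen := D.Gam_le_sup hα k
  comm := fun _ hz _ hz' => D.LS_comm_Gam hα hz hz'
  diag := fun h0 l h J hJ => by
    set e := D.el h0 l 0 h with he
    suffices D.LV (k + 1) ≤ (D.Gam (k + 1)).comap (MulAut.conj e⁻¹).toMonoidHom by
      simpa [MulAut.conj_apply] using this hJ
    refine (D.LV_le_sup hα (k + 1)).trans (sup_le ?_ ?_)
    all_goals intro z hz
    all_goals simp only [Subgroup.mem_comap, MulEquiv.coe_toMonoidHom, MulAut.conj_apply, inv_inv]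
    · refine D.LS_le_Gam le_rfl (D.LV_fix (by omega)
        (mul_mem (mul_mem (inv_mem (D.LS_le_LV (by omega) (D.el_mem _ _ _ _)))
          (D.LS_succ_le_LV (by omega) hz)) (D.LS_le_LV (by omega) (D.el_mem _ _ _ _))) ?_)
      have e0 : act e.1 (ev F N k) = l • ev F N k := by rw [he, el_act0]; simp
      rw [Prod.fst_mul, act_mul, e0, Prod.fst_mul, act_mul, act_smul,
        FB_act_out (D.Gam_fb (D.LS_le_Gam le_rfl hz)) (by omega) (Or.inl (by omega)), ← e0, Prod.fst_inv,
        act_inv_act]
    · rw [mul_assoc, ← D.LS_comm le_rfl (D.el_mem _ _ _ _) hz, inv_mul_cancel_left]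
      exact D.LS_le_Gam (by omega) hz

theorem state_two {k : ℕ} (hk : k + 2 = N) : D.St k := by
  have hle : D.Gam k ≤ D.LS k := D.Gam_le_iff.2 fun i hi => by
    refine ⟨?_, by rw [D.LV_eq_bot (by omega)]; exact bot_le⟩
    by_cases hN : i + 2 ≤ N
    · rw [show i = k by omega]
    · rw [D.LS_eq_bot hN]; exact bot_le
  refine ⟨fun z hz e => ?_, fun g hg => ?_, fun v hv h1 => ?_⟩
  · obtain ⟨A, rfl⟩ := (D.mem_LS hk.le).1 (hle hz)
    have hA : A = 1 := embSU_injective k hk.le U (e.trans (map_one _).symm)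
    subst hA
    simp
  · obtain ⟨z, hz, e⟩ := D.LS_lift hk.le (FB_mono le_rfl hk.ge hg)
    exact ⟨z, D.LS_le_Gam le_rfl hz, e⟩
  · have h0 : k < N := by omega
    have h2 : k + 1 < N := by omega
    have e : v = v ⟨k, h0⟩ • ev F N k + v ⟨k + 1, h2⟩ • ev F N (k + 1) := by
      funext r
      by_cases e0 : (r : ℕ) = k
      · obtain rfl : r = ⟨k, h0⟩ := Fin.ext e0
        simp [ev]
      by_cases e1 : (r : ℕ) = k + 1
      · obtain rfl : r = ⟨k + 1, h2⟩ := Fin.ext e1
        simp [ev]
      · simp [ev, e0, e1, hv r (by omega)]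
    have hn : U.nm (v ⟨k, h0⟩) + U.nm (v ⟨k + 1, h2⟩) = 1 := by
      rw [← h1]
      conv_rhs => rw [e]
      rw [U.hf_comb, U.ev_self h0, U.ev_self h2, U.ev_ne h0 h2 (by omega), U.ev_ne h2 h0 (by omega)]
      simp only [UF.nm]; ring
    exact ⟨D.el hk.le _ _ hn, D.LS_le_Gam le_rfl (D.el_mem _ _ _ _), (D.el_act0 _ _ _ _).trans e.symm⟩

theorem state_three_of {k : ℕ} (hk : k + 3 = N)
    (ht : ∀ v : Fin N → F, Win k N v → hf q v v = 1 → ∃ z ∈ D.Gam k, act z.1 (ev F N k) = v) : D.St k := by
  have S1 := D.state_two (k := k + 1) (by omega)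
  have hle : D.Gam k ≤ D.LV k := D.Gam_le_iff.2 fun i hi => by
    constructor
    · by_cases hN : i + 2 ≤ N
      · obtain rfl | rfl : i = k ∨ i = k + 1 := by omega
        · exact D.LS_le_LV hk.le
        · exact D.LS_succ_le_LV hk.le
      · rw [D.LS_eq_bot hN]; exact bot_le
    · by_cases hN : i + 3 ≤ N
      · obtain rfl : i = k := by omega
        exact le_rfl
      · rw [D.LV_eq_bot hN]; exact bot_le
  exact ⟨fun z hz e => D.LV_func hk.le (hle hz) (one_mem _) e,
    fun g hg => onto_of_trans (by omega) S1 ht hg, ht⟩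

theorem state_three (hα : ∃ α, U.nm α ≠ 0 ∧ U.nm α ≠ 1) {k : ℕ} (hk : k + 3 = N) : D.St k :=
  D.state_three_of hk fun v hv h1 => by
    obtain ⟨z, hz, e⟩ := D.trans3 hα hk.le (hv.mono le_rfl hk.ge) h1
    exact ⟨z, sup_le (D.LS_le_Gam le_rfl) (D.LS_le_Gam (by omega)) hz, e⟩

theorem state_all (hpar : U.Params) : ∀ d k : ℕ, k + 2 + d = N → D.St k := by
  intro d
  induction d using Nat.strong_induction_on with
  | _ d ih =>
    intro k hk
    match d, ih, hk with
    | 0, _, hk => exact D.state_two (by omega)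
    | 1, _, hk => exact D.state_three hpar.exists_alpha (by omega)
    | d + 2, ih, hk =>
      have S : D.Step k := D.step_of_alpha hpar.exists_alpha (by omega)
        (ih (d + 1) (by omega) (k + 1) (by omega)) (ih d (by omega) (k + 2) (by omega))
      exact S.state (S.good_of_params hpar)

/-- The completion of the amalgam is an image of the special unitary group. -/
theorem exists_hom_of_St (S : D.St 0) :
    ∃ f : SU N F q →* G, (∀ l (h : l + 2 ≤ N) (A : SU 2 F q), f (embSU l h U A) = D.φ l A) ∧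
      ∀ l (h : l + 3 ≤ N) (A : SU 3 F q), f (embSU l h U A) = D.ψ l A := by
  have hall : ∀ g : SU N F q, ∃ z ∈ D.Gam 0, z.1 = g := fun g =>
    S.onto g fun i hi h => absurd h (by omega)
  choose z hz e using hall
  have key : ∀ {g : SU N F q} {w : SU N F q × G}, w ∈ D.Gam 0 → w.1 = g → z g = w :=
    fun {g w} hw hwe => S.eq (hz g) hw ((e g).trans hwe.symm)
  refine ⟨MonoidHom.mk' (fun g => (z g).2) fun g g' => by
    rw [key (mul_mem (hz g) (hz g')) (by rw [Prod.fst_mul, e, e])]; rfl, fun l h A => ?_, fun l h A => ?_⟩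
  · show (z (embSU l h U A)).2 = _
    rw [key (w := (embSU l h U A, D.φ l A)) (D.LS_le_Gam (Nat.zero_le l) ((D.mem_LS h).2 ⟨A, rfl⟩)) rfl]
  · show (z (embSU l h U A)).2 = _
    rw [key (w := (embSU l h U A, D.ψ l A)) (D.LV_le_Gam (Nat.zero_le l) ((D.mem_LV h).2 ⟨A, rfl⟩)) rfl]

/-- The completion, from the parameters. -/
theorem exists_hom (hpar : U.Params) (hN : 3 ≤ N) :
    ∃ f : SU N F q →* G, (∀ l (h : l + 2 ≤ N) (A : SU 2 F q), f (embSU l h U A) = D.φ l A) ∧
      ∀ l (h : l + 3 ≤ N) (A : SU 3 F q), f (embSU l h U A) = D.ψ l A :=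
  D.exists_hom_of_St (D.state_all hpar (N - 2) 0 (by omega))

end Dat

namespace UF

variable [Fintype F]

theorem of_card (hF : Fintype.card F = q ^ 2) : Nonempty (UF F q) := by
  classical
  obtain ⟨σ, hσ, hσσ, hne⟩ := Classical.exists_qPow hF
  have hq := Classical.two_le_q hF
  obtain ⟨x, hx⟩ : ∃ x, x + σ x ≠ 0 := by
    by_contra h
    push Not at h
    have h11 := h 1
    rw [map_one] at h11
    exact hne (RingHom.ext fun x => by rw [RingHom.id_apply]; linear_combination h x - x * h11)
  refine ⟨{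
    σ := σ, hσ := hσ, hσσ := hσσ
    exists_norm := fun c hc => ?_
    exists_trace := ⟨x / (x + σ x), ?_⟩
    exists_moved := not_forall.1 fun h => hne (RingHom.ext h)
    exists_rot := ?_ }⟩
  · obtain ⟨y, hy⟩ := Classical.exists_norm_eq hF (μ := c) (by rw [← hσ, hc])
    exact ⟨y, by rw [hσ, ← pow_succ', hy]⟩
  · rw [map_div₀, map_add, hσσ, add_comm (σ x) x, ← add_div, div_self hx]
  · by_contra h
    push Not at h
    have hsub : (Finset.univ.filter fun l : F => l ^ (q + 1) = 1) ⊆ {1, -1} := by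
      intro l hl
      have hl' := h l (by rw [hσ, ← pow_succ', (Finset.mem_filter.1 hl).2])
      rcases mul_self_eq_one_iff.1 hl' with rfl | rfl <;> simp
    have h1 : (Finset.univ.filter fun l : F => l ^ (q + 1) = 1).card = q + 1 := by
      rw [← Fintype.card_subtype, ← Nat.card_eq_fintype_card, Classical.card_norm_one hF]
    have h2 := Finset.card_le_card hsub
    have h3 : ({1, -1} : Finset F).card ≤ 2 := Finset.card_le_two
    omega

/-- There are at least `q - 1` nonzero norms. -/
theorem exists_norm_avoid (U : UF F q) (hF : Fintype.card F = q ^ 2) (s : Finset F)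
    (hs : s.card + 2 ≤ q) : ∃ α, α ≠ 0 ∧ U.nm α ∉ s := by
  classical
  by_contra h
  push Not at h
  have hsub : (Finset.univ.erase (0 : F)) ⊆
      s.biUnion fun t => Finset.univ.filter fun a => U.nm a = t := by
    intro a ha
    exact Finset.mem_biUnion.2 ⟨U.nm a, h a (Finset.ne_of_mem_erase ha), by simp⟩
  have hfib : ∀ t ∈ s, (Finset.univ.filter fun a : F => U.nm a = t).card ≤ q + 1 := fun t _ => by
    calc _ ≤ (Polynomial.nthRoots (q + 1) t).toFinset.card := Finset.card_le_card fun a ha => by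
          rw [Multiset.mem_toFinset, Polynomial.mem_nthRoots (by omega), ← (Finset.mem_filter.1 ha).2,
            UF.nm, U.hσ, pow_succ']
      _ ≤ _ := Multiset.toFinset_card_le _
      _ ≤ q + 1 := Polynomial.card_nthRoots _ _
  have h1 := Finset.card_le_card hsub
  have h2 := Finset.card_biUnion_le_card_mul s _ (q + 1) hfib
  rw [Finset.card_erase_of_mem (Finset.mem_univ 0), Finset.card_univ, hF] at h1
  nlinarith [Nat.sub_add_cancel (Nat.one_le_pow 2 q (by omega))]

theorem params (U : UF F q) (hF : Fintype.card F = q ^ 2) (hq : 3 < q) : U.Params := by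
  classical
  intro c
  set m := U.nm c
  by_cases hm : 5 ≤ q ∨ m = 0 ∨ m = 1
  · have hs : ∃ s : Finset F, s.card + 2 ≤ q ∧ (1 : F) ∈ s ∧
        ∀ t, t ∉ s → t ≠ 0 → t * m ≠ 1 ∧ t * m ≠ 1 - t := by
      rcases hm with h5 | h0 | h1
      · refine ⟨{1, 1 / m, 1 / (m + 1)}, ?_, by simp, fun t ht _ => ?_⟩
        · have := (Finset.card_le_three (a := (1 : F)) (b := 1 / m) (c := 1 / (m + 1)))
          omega
        · simp only [Finset.mem_insert, Finset.mem_singleton, not_or] at ht
          refine ⟨fun e => ht.2.1 ?_, fun e => ht.2.2 ?_⟩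
          · exact eq_one_div_of_mul_eq_one_left e
          · exact eq_one_div_of_mul_eq_one_left (by linear_combination e)
      · exact ⟨{1}, by simp; omega, by simp, fun t ht _ =>
          ⟨by simp [h0], fun e => ht (by simp [h0] at e; simp; linear_combination e)⟩⟩
      · by_cases h5 : 5 ≤ q
        · refine ⟨{1, 1 / m, 1 / (m + 1)}, ?_, by simp, fun t ht _ => ?_⟩
          · have := (Finset.card_le_three (a := (1 : F)) (b := 1 / m) (c := 1 / (m + 1)))
            omega
          · simp only [Finset.mem_insert, Finset.mem_singleton, not_or] at ht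
            exact ⟨fun e => ht.2.1 (eq_one_div_of_mul_eq_one_left e),
              fun e => ht.2.2 (eq_one_div_of_mul_eq_one_left (by linear_combination e))⟩
        · have h16 : Fintype.card F = 16 := by rw [hF, show q = 4 by omega]; norm_num
          have h2 : (2 : F) = 0 := by
            have := Nat.cast_card_eq_zero F
            rw [h16, show ((16 : ℕ) : F) = (2 : F) ^ 4 by norm_num] at this
            exact pow_eq_zero_iff (by norm_num) |>.1 this
          exact ⟨{1}, by simp; omega, by simp, fun t ht _ =>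
            ⟨fun e => ht (by simp [h1] at e; simp [e]),
              fun e => one_ne_zero (α := F) (by rw [h1] at e; linear_combination -e + t * h2)⟩⟩
    obtain ⟨s, hs, h1s, hts⟩ := hs
    obtain ⟨α, hα, hαs⟩ := U.exists_norm_avoid hF s hs
    have h0 : U.nm α ≠ 0 := fun e => hα (U.nm_eq_zero.1 e)
    have h1 : U.nm α ≠ 1 := fun e => hαs (e ▸ h1s)
    obtain ⟨a, b⟩ := hts _ hαs h0
    refine ⟨α, 0, h0, h1, by rw [U.nm_zero]; exact zero_ne_one,
      by rw [U.nm_zero]; exact fun e => h1 (by linear_combination e), ?_, ?_⟩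
    · rw [zero_add, U.nm_mul]; exact a
    · rw [zero_add, U.nm_mul]; exact b
  push Not at hm
  obtain ⟨h5, hm0, hm1⟩ := hm
  obtain rfl : q = 4 := by omega
  have h2 : (2 : F) = 0 := by
    have := Nat.cast_card_eq_zero F
    rw [hF, show ((4 ^ 2 : ℕ) : F) = (2 : F) ^ 4 by norm_num] at this
    exact pow_eq_zero_iff (by norm_num) |>.1 this
  have hfix : ∀ x : F, U.σ x = x → x ≠ 0 → x ≠ 1 → x ^ 2 + x + 1 = 0 := fun x hx h0 h1 => by
    rw [U.hσ] at hx
    have : (x * (x - 1)) * (x ^ 2 + x + 1) = 0 := by linear_combination hx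
    exact (mul_eq_zero.1 this).resolve_left (mul_ne_zero h0 (sub_ne_zero.2 h1))
  have hmm : m ^ 2 + m + 1 = 0 := hfix m (U.nm_fix c) hm0 hm1
  obtain ⟨z, hz⟩ := U.exists_trace
  obtain ⟨w, hw, hwn⟩ : ∃ w, w + U.σ w = 1 ∧ U.nm w = m + 1 := by
    set u := U.nm z with hu
    have hu' : u = z * (1 - z) := by rw [hu, UF.nm, ← hz]; ring
    have hu0 : u ≠ 0 := fun e => by
      rw [e] at hu'
      rcases mul_eq_zero.1 hu'.symm with h | h
      · rw [h, map_zero, add_zero] at hz; exact zero_ne_one hz
      · rw [show z = 1 by linear_combination -h, map_one] at hz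
        exact one_ne_zero (α := F) (by linear_combination -hz + h2)
    have hu1 : u ≠ 1 := fun e => by
      rw [e] at hu'
      have h4 : z ^ 4 = z := by linear_combination (z ^ 2 + z) * hu' - (z ^ 2 + z) * h2 + z * h2 * z
      rw [U.hσ, h4] at hz
      exact one_ne_zero (α := F) (by linear_combination -hz + z * h2)
    have huu := hfix u (U.nm_fix z) hu0 hu1
    have : (u - m) * (u - (m + 1)) = 0 := by linear_combination huu + hmm - (m * u + 1 + u) * h2
    rcases mul_eq_zero.1 this with h | h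
    · have hσm : U.σ m = m := U.nm_fix c
      refine ⟨z + m, by rw [map_add, hσm]; linear_combination hz + m * h2, ?_⟩
      rw [U.nm_add, hσm, map_mul, hσm, ← hu, sub_eq_zero.1 h, show U.nm m = m * m by rw [UF.nm, hσm]]
      linear_combination m * hz + hmm + (-1) * h2
    · exact ⟨z, hz, sub_eq_zero.1 h⟩
  obtain ⟨α, hαn⟩ := U.exists_sqrt (c := m) (U.nm_fix c)
  have hne : m ≠ 1 - m := fun e => one_ne_zero (α := F) (by linear_combination -e + m * h2)
  have hd : U.nm (α * c) = m ^ 2 := by rw [U.nm_mul, hαn]; ring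
  have hγ : U.nm (α * c * w) = m := by
    rw [U.nm_mul, hd, hwn]; linear_combination m * hmm - m * h2
  have hγd : U.nm (α * c * w + α * c) = m := by
    rw [show α * c * w + α * c = α * c * (w + 1) by ring, U.nm_mul, hd, U.nm_add, hwn, U.nm_one, map_one,
      mul_one]
    linear_combination m ^ 2 * hw + m * hmm - m * h2 + m ^ 2 * h2
  exact ⟨α, α * c * w, by rw [hαn]; exact hm0, by rw [hαn]; exact hm1, by rw [hγ]; exact hm1,
    by rw [hγ, hαn]; exact hne, by rw [hγd]; exact hm1, by rw [hγd, hαn]; exact hne⟩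

end UF

end CfsgLib.Chev.CT.Phan
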