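/-
Automorphisms of the two-dimensional special unitary group preserving the diagonal torus.
-/
import Cfsg.Agent.Lib.Chev.CT.Phan.Main
import Cfsg.Agent.Lib.KnownSimple.PSLAut.Classification
import Cfsg.Agent.Lib.Classical.SmallIso.PSL2

set_option autoImplicit false

namespace CfsgLib.Chev.CT.Phan

open Matrix Cfsg
open scoped MatrixGroups

universe u

variable {F : Type u} [Field F] {q : ℕ}

namespace UF

variable (U : UF F q)

/-- The fixed field. -/
abbrev fixF : Subfield F := RingHom.eqLocusField U.σ (RingHom.id F)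

theorem mem_fixF {x : F} : x ∈ U.fixF ↔ U.σ x = x := Iff.rfl

/-- Coordinates in which the form is alternating with fixed coefficients. -/
theorem exists_alt : ∃ (P : Matrix (Fin 2) (Fin 2) F) (γ : F), γ ≠ 0 ∧ IsUnit P.det ∧
    ∀ u v : Fin 2 → F, hermForm 2 F q (P *ᵥ u) (P *ᵥ v) = γ * (u 0 * U.σ (v 1) - u 1 * U.σ (v 0)) := by
  obtain ⟨ω, hω⟩ := U.exists_norm (-1) (by simp)
  obtain ⟨x, hx⟩ := U.exists_moved
  obtain ⟨z, hz⟩ := U.exists_trace
  set γ := U.σ x - x with hγd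
  have hγ0 : γ ≠ 0 := sub_ne_zero.2 hx
  have hγ : U.σ γ = -γ := by rw [hγd, map_sub, U.hσσ]; ring
  set t := -z with htd
  have hσt : U.σ t = -1 - t := by rw [htd, map_neg]; linear_combination -hz
  set P : Matrix (Fin 2) (Fin 2) F := !![1, -γ * (1 + t); ω, -γ * (t * ω)] with hP
  refine ⟨P, γ, hγ0, ?_, fun u v => ?_⟩
  · rw [isUnit_iff_ne_zero, hP, Matrix.det_fin_two]
    simp only [Matrix.of_apply, Matrix.cons_val', Matrix.cons_val_zero, Matrix.cons_val_one,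
      Matrix.empty_val', Matrix.cons_val_fin_one]
    rw [show (1 : F) * (-γ * (t * ω)) - -γ * (1 + t) * ω = γ * ω by ring]
    exact mul_ne_zero hγ0 (left_ne_zero_of_mul_eq_one (a := ω) (b := -U.σ ω) (by linear_combination -hω))
  · simp only [hermForm, ← U.hσ, Fin.sum_univ_two]
    simp only [hP, Matrix.mulVec, dotProduct, Fin.sum_univ_two, Matrix.of_apply, Matrix.cons_val',
      Matrix.cons_val_zero, Matrix.cons_val_one, Matrix.empty_val', Matrix.cons_val_fin_one, map_add,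
      map_mul, map_neg, map_one, hγ, hσt]
    linear_combination ((u 0 - γ * t * u 1) * (U.σ (v 0) - γ * (1 + t) * U.σ (v 1))) * hω

/-- The special unitary group in two variables is a special linear group over the fixed field. -/
theorem exists_equiv_SL : ∃ (P : GL (Fin 2) F) (e : SpecialLinearGroup (Fin 2) U.fixF ≃* SU 2 F q),
    ∀ M, (e M).1.1 = (P : Matrix (Fin 2) (Fin 2) F) * M.1.map U.fixF.subtype *
      ((P⁻¹ : GL (Fin 2) F) : Matrix (Fin 2) (Fin 2) F) := by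
  obtain ⟨P₀, γ, hγ0, hP₀, hB⟩ := U.exists_alt
  set P : GL (Fin 2) F := GeneralLinearGroup.mk'' P₀ hP₀
  have hPc : (P : Matrix (Fin 2) (Fin 2) F) = P₀ := rfl
  set Q : Matrix (Fin 2) (Fin 2) F := ((P⁻¹ : GL (Fin 2) F) : Matrix (Fin 2) (Fin 2) F) with hQ
  have hPQ : P₀ * Q = 1 := P.mul_inv
  have hQP : Q * P₀ = 1 := P.inv_mul
  let ι : U.fixF →+* F := U.fixF.subtype
  have hι : ∀ x, U.σ (ι x) = ι x := fun x => x.2
  let g : SpecialLinearGroup (Fin 2) U.fixF → SU 2 F q := fun M =>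
    ⟨⟨P₀ * M.1.map ι * Q, by
      rw [Matrix.det_mul, Matrix.det_mul, mul_right_comm, ← Matrix.det_mul, hPQ, Matrix.det_one, one_mul,
        ← RingHom.mapMatrix_apply, ← RingHom.map_det, M.2, map_one]⟩, fun u v => by
      show hermForm 2 F q ((P₀ * M.1.map ι * Q) *ᵥ u) ((P₀ * M.1.map ι * Q) *ᵥ v) = hermForm 2 F q u v
      have hd : ι (M.1 0 0) * ι (M.1 1 1) - ι (M.1 0 1) * ι (M.1 1 0) = 1 := by
        rw [← map_mul, ← map_mul, ← map_sub, ← Matrix.det_fin_two, M.2, map_one]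
      rw [← mulVec_mulVec, ← mulVec_mulVec, ← mulVec_mulVec, ← mulVec_mulVec, hB]
      conv_rhs => rw [show u = P₀ *ᵥ (Q *ᵥ u) by rw [mulVec_mulVec, hPQ, one_mulVec],
        show v = P₀ *ᵥ (Q *ᵥ v) by rw [mulVec_mulVec, hPQ, one_mulVec], hB]
      generalize Q *ᵥ u = a
      generalize Q *ᵥ v = b
      simp only [Matrix.mulVec, dotProduct, Fin.sum_univ_two, Matrix.map_apply, map_add, map_mul, hι]
      linear_combination (γ * (a 0 * U.σ (b 1) - a 1 * U.σ (b 0))) * hd⟩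
  have hg : ∀ M, (g M).1.1 = P₀ * M.1.map ι * Q := fun _ => rfl
  let e₀ : SpecialLinearGroup (Fin 2) U.fixF →* SU 2 F q := MonoidHom.mk' g fun M M' => by
    refine Subtype.ext (Subtype.ext ?_)
    show P₀ * (M.1 * M'.1).map ι * Q = P₀ * M.1.map ι * Q * (P₀ * M'.1.map ι * Q)
    rw [Matrix.map_mul]
    simp only [Matrix.mul_assoc]
    rw [← Matrix.mul_assoc Q P₀, hQP, Matrix.one_mul]
  have hinj : Function.Injective e₀ := by
    intro M M' h
    have h' : P₀ * M.1.map ι * Q = P₀ * M'.1.map ι * Q := congrArg (fun x : SU 2 F q => x.1.1) h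
    have h'' := congrArg (fun X => Q * X * P₀) h'
    simp only [Matrix.mul_assoc, hQP, Matrix.mul_one] at h''
    simp only [← Matrix.mul_assoc, hQP, Matrix.one_mul] at h''
    exact Subtype.ext (Matrix.map_injective ι.injective h'')
  have hsurj : Function.Surjective e₀ := by
    intro A
    obtain ⟨M, hM⟩ : ∃ M : Matrix (Fin 2) (Fin 2) F, M = Q * A.1.1 * P₀ := ⟨_, rfl⟩
    have hdet : M.det = 1 := by
      rw [hM, Matrix.det_mul, Matrix.det_mul, mul_right_comm, ← Matrix.det_mul, hQP, Matrix.det_one,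
        one_mul]
      exact A.1.2
    have hform : ∀ u v : Fin 2 → F, γ * ((M *ᵥ u) 0 * U.σ ((M *ᵥ v) 1) - (M *ᵥ u) 1 * U.σ ((M *ᵥ v) 0)) =
        γ * (u 0 * U.σ (v 1) - u 1 * U.σ (v 0)) := fun u v => by
      rw [← hB, ← hB, hM]
      have : ∀ w, P₀ *ᵥ ((Q * A.1.1 * P₀) *ᵥ w) = A.1.1 *ᵥ (P₀ *ᵥ w) := fun w => by
        rw [mulVec_mulVec, mulVec_mulVec, ← Matrix.mul_assoc, ← Matrix.mul_assoc, hPQ, Matrix.one_mul]
      rw [this, this]
      exact A.2 _ _
    rw [Matrix.det_fin_two] at hdet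
    have e00 := mul_left_cancel₀ hγ0 (hform (Pi.single 0 1) (Pi.single 0 1))
    have e01 := mul_left_cancel₀ hγ0 (hform (Pi.single 0 1) (Pi.single 1 1))
    have e10 := mul_left_cancel₀ hγ0 (hform (Pi.single 1 1) (Pi.single 0 1))
    have e11 := mul_left_cancel₀ hγ0 (hform (Pi.single 1 1) (Pi.single 1 1))
    simp [mulVec_single_one] at e00 e01 e10 e11
    have hfix : ∀ i j, M i j ∈ U.fixF := by
      have a00 : U.σ (M 0 0) = M 0 0 := by
        linear_combination -(U.σ (M 0 0)) * hdet + M 0 1 * e00 - M 0 0 * e10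
      have a10 : U.σ (M 1 0) = M 1 0 := by
        linear_combination -(U.σ (M 1 0)) * hdet + M 1 1 * e00 - M 1 0 * e10
      have a01 : U.σ (M 0 1) = M 0 1 := by
        linear_combination -(U.σ (M 0 1)) * hdet - M 0 0 * e11 + M 0 1 * e01
      have a11 : U.σ (M 1 1) = M 1 1 := by
        linear_combination -(U.σ (M 1 1)) * hdet - M 1 0 * e11 + M 1 1 * e01
      intro i j; rw [mem_fixF]
      fin_cases i <;> fin_cases j <;> assumption
    obtain ⟨M', hM'⟩ : ∃ M' : Matrix (Fin 2) (Fin 2) U.fixF, M'.map ι = M :=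
      ⟨Matrix.of fun i j => ⟨M i j, hfix i j⟩, Matrix.ext fun i j => rfl⟩
    have hdet' : M'.det = 1 := ι.injective (by
      rw [RingHom.map_det, RingHom.mapMatrix_apply, hM', map_one, Matrix.det_fin_two]; exact hdet)
    refine ⟨⟨M', hdet'⟩, Subtype.ext (Subtype.ext ((hg _).trans ?_))⟩
    show P₀ * M'.map ι * Q = A.1.1
    rw [hM', hM, ← Matrix.mul_assoc, ← Matrix.mul_assoc, hPQ, Matrix.one_mul, Matrix.mul_assoc, hPQ,
      Matrix.mul_one]
  exact ⟨P, MulEquiv.ofBijective e₀ ⟨hinj, hsurj⟩, fun M => hg M⟩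

end UF

/-- Automorphisms of a perfect group agreeing modulo the centre are equal. -/
theorem aut_eq_of_descend {H : Type*} [Group H] (hp : commutator H = ⊤) {a b : MulAut H}
    (h : ∀ x, (a x)⁻¹ * b x ∈ Subgroup.center H) : a = b := by
  refine MulEquiv.ext fun x => ?_
  have hmem : x ∈ commutator H := hp ▸ Subgroup.mem_top x
  rw [commutator_eq_closure] at hmem
  induction hmem using Subgroup.closure_induction with
  | mem y hy =>
    obtain ⟨g₁, g₂, rfl⟩ := hy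
    obtain ⟨z₁, hz₁, e₁⟩ : ∃ z ∈ Subgroup.center H, b g₁ = a g₁ * z := ⟨_, h g₁, (mul_inv_cancel_left _ _).symm⟩
    obtain ⟨z₂, hz₂, e₂⟩ : ∃ z ∈ Subgroup.center H, b g₂ = a g₂ * z := ⟨_, h g₂, (mul_inv_cancel_left _ _).symm⟩
    rw [map_commutatorElement, map_commutatorElement, e₁, e₂]
    simp only [commutatorElement_def, _root_.mul_inv_rev]
    have c₁ := Subgroup.mem_center_iff.1 hz₁
    have c₂ := Subgroup.mem_center_iff.1 hz₂
    symm
    calc a g₁ * z₁ * (a g₂ * z₂) * (z₁⁻¹ * (a g₁)⁻¹) * (z₂⁻¹ * (a g₂)⁻¹)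
        = a g₁ * (z₁ * (a g₂ * z₂) * z₁⁻¹) * (a g₁)⁻¹ * z₂⁻¹ * (a g₂)⁻¹ := by group
      _ = a g₁ * (a g₂ * z₂) * (a g₁)⁻¹ * z₂⁻¹ * (a g₂)⁻¹ := by
        rw [← c₁ (a g₂ * z₂), mul_inv_cancel_right]
      _ = a g₁ * a g₂ * (z₂ * (a g₁)⁻¹ * z₂⁻¹) * (a g₂)⁻¹ := by group
      _ = a g₁ * a g₂ * (a g₁)⁻¹ * (a g₂)⁻¹ := by rw [← c₂ (a g₁)⁻¹, mul_inv_cancel_right]
  | one => simp
  | mul y z _ _ hy hz => rw [map_mul, map_mul, hy, hz]
  | inv y _ hy => rw [map_inv, map_inv, hy]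

/-- Every automorphism of a finite field extends to a larger one. -/
theorem exists_extend [Fintype F] (K : Subfield F) (τ₀ : K ≃+* K) :
    ∃ τ : F ≃+* F, ∀ x : K, τ x = τ₀ x := by
  classical
  obtain ⟨p, _⟩ := CharP.exists F
  have hp : Fact p.Prime := ⟨CharP.char_is_prime F p⟩
  haveI : CharP K p := (RingHom.charP_iff_charP K.subtype p).2 ‹_›
  letI : Algebra (ZMod p) K := ZMod.algebra K p
  haveI : Finite K := Subtype.finite
  let a : K ≃ₐ[ZMod p] K := AlgEquiv.ofRingEquiv (f := τ₀) fun x => by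
    exact RingHom.congr_fun (Subsingleton.elim
      ((τ₀ : K →+* K).comp (algebraMap (ZMod p) K)) (algebraMap (ZMod p) K)) x
  obtain ⟨j, hj⟩ := (FiniteField.bijective_frobeniusAlgEquivOfAlgebraic_pow (ZMod p) K).2 a
  refine ⟨iterateFrobeniusEquiv F p j, fun x => ?_⟩
  have hx : τ₀ x = x ^ p ^ (j : ℕ) := by
    have := DFunLike.congr_fun hj x
    simp only [AlgEquiv.coe_pow, FiniteField.coe_frobeniusAlgEquivOfAlgebraic_iterate, ZMod.card] at this
    exact this.symm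
  rw [iterateFrobeniusEquiv_def, hx, SubmonoidClass.coe_pow]

namespace UF

variable (U : UF F q)
include U

theorem card_fixF [Fintype F] [Fintype U.fixF] (hF : Fintype.card F = q ^ 2) (hq : 3 < q) :
    4 ≤ Fintype.card U.fixF := by
  classical
  by_contra h
  set s := (Finset.univ.erase (0 : U.fixF)).image U.fixF.subtype
  have hs : s.card ≤ Fintype.card U.fixF - 1 := by
    refine Finset.card_image_le.trans ?_
    rw [Finset.card_erase_of_mem (Finset.mem_univ _), Finset.card_univ]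
  obtain ⟨α, hα, hαs⟩ := U.exists_norm_avoid hF s (by have := Fintype.card_pos (α := U.fixF); omega)
  refine hαs (Finset.mem_image.2 ⟨⟨U.nm α, U.nm_fix α⟩, ?_, rfl⟩)
  refine Finset.mem_erase.2 ⟨fun e => hα (U.nm_eq_zero.1 ?_), Finset.mem_univ _⟩
  exact congrArg Subtype.val e

theorem exists_semilinear [Fintype F] (hF : Fintype.card F = q ^ 2) (hq : 3 < q)
    (β : SU 2 F q ≃* SU 2 F q) : ∃ (X : GL (Fin 2) F) (τ : F ≃+* F), ∀ A : SU 2 F q,
      (β A).1.1 * (X : Matrix (Fin 2) (Fin 2) F) = (X : Matrix (Fin 2) (Fin 2) F) * A.1.1.map τ := by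
  classical
  obtain ⟨P, e, he⟩ := U.exists_equiv_SL
  haveI : Fintype U.fixF := Fintype.ofFinite _
  let β' : MulAut (SpecialLinearGroup (Fin 2) U.fixF) := (e.trans β).trans e.symm
  obtain ⟨g, τ₀, h | ⟨h3, -⟩⟩ := PSLAut.aut_classification (F := U.fixF) (n := 2) le_rfl (PSLAut.descend _ β')
  swap
  · omega
  have hβ : PSLAut.conjSL g * PSLAut.fieldSL τ₀ = β' := by
    refine aut_eq_of_descend (CfsgLib.Classical.SmallIso.commutator_sl_two (U.card_fixF hF hq)) fun x => ?_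
    have hx := DFunLike.congr_fun h (QuotientGroup.mk x)
    rw [PSLAut.descend_mk, MulAut.mul_apply, PSLAut.fieldAut_mk, PSLAut.conjAut_mk] at hx
    exact QuotientGroup.eq.1 hx.symm
  obtain ⟨τ, hτ⟩ := exists_extend U.fixF τ₀
  let gF : GL (Fin 2) F := GeneralLinearGroup.map U.fixF.subtype g
  let PT : GL (Fin 2) F := GeneralLinearGroup.map τ.toRingHom P
  refine ⟨P * gF * PT⁻¹, τ, fun A => ?_⟩
  obtain ⟨M, rfl⟩ := e.surjective A
  have hM : β (e M) = e (β' M) := by simp [β']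
  rw [hM, he, he, ← hβ, MulAut.mul_apply, PSLAut.conjSL_coe, PSLAut.fieldSL_coe]
  have h1 : (M.1.map τ₀).map U.fixF.subtype = (M.1.map U.fixF.subtype).map τ := by
    ext i j; exact (hτ (M.1 i j)).symm
  have h2 : ∀ X : GL (Fin 2) F, (X : Matrix (Fin 2) (Fin 2) F).map τ =
      ((GeneralLinearGroup.map τ.toRingHom X : GL (Fin 2) F) : Matrix (Fin 2) (Fin 2) F) := fun _ => rfl
  have h3 : ∀ X : GL (Fin 2) U.fixF, (X : Matrix (Fin 2) (Fin 2) U.fixF).map U.fixF.subtype =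
      ((GeneralLinearGroup.map U.fixF.subtype X : GL (Fin 2) F) : Matrix (Fin 2) (Fin 2) F) := fun _ => rfl
  rw [Matrix.map_mul, Matrix.map_mul, h1, h3, h3, Matrix.map_mul, Matrix.map_mul, h2, h2, map_inv, map_inv]
  show _ = _ * ((PT : Matrix (Fin 2) (Fin 2) F) * _ * ((PT⁻¹ : GL (Fin 2) F) : Matrix (Fin 2) (Fin 2) F))
  simp only [Units.val_mul, Matrix.mul_assoc]
  simp only [← Matrix.mul_assoc ((P⁻¹ : GL (Fin 2) F) : Matrix (Fin 2) (Fin 2) F) (P : Matrix (Fin 2) (Fin 2) F),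
    Units.inv_mul, Matrix.one_mul, ← Matrix.mul_assoc ((PT⁻¹ : GL (Fin 2) F) : Matrix (Fin 2) (Fin 2) F)
      (PT : Matrix (Fin 2) (Fin 2) F), gF]
  rw [← Matrix.mul_assoc (((GeneralLinearGroup.map U.fixF.subtype g)⁻¹ : GL (Fin 2) F) :
      Matrix (Fin 2) (Fin 2) F), Units.inv_mul, Matrix.one_mul]

/-- An automorphism preserving the diagonal torus is diagonal times a field automorphism. -/
theorem aut_torus [Fintype F] (hF : Fintype.card F = q ^ 2) (hq : 3 < q) (β : SU 2 F q ≃* SU 2 F q)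
    (hT : ∀ A : SU 2 F q, A.1.1 1 0 = 0 → (β A).1.1 1 0 = 0) :
    ∃ (τ : F ≃+* F) (ν : F), U.nm ν = 1 ∧ ∀ A : SU 2 F q,
      (β A).1.1 0 0 = τ (A.1.1 0 0) ∧ (β A).1.1 1 0 = ν * τ (A.1.1 1 0) := by
  obtain ⟨X, τ, hX⟩ := U.exists_semilinear hF hq β
  set Y : Matrix (Fin 2) (Fin 2) F := (X : Matrix (Fin 2) (Fin 2) F) with hY
  have hdet : Y 0 0 * Y 1 1 - Y 0 1 * Y 1 0 ≠ 0 := by
    rw [← Matrix.det_fin_two, hY]; exact (Matrix.GeneralLinearGroup.det X).ne_zero
  have hστ : ∀ x, U.σ (τ x) = τ (U.σ x) := fun x => by rw [U.hσ, U.hσ, map_pow]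
  have ent : ∀ A : SU 2 F q,
      ∃ a b a' b' : F, A.1.1 0 0 = a ∧ A.1.1 1 0 = b ∧ (β A).1.1 0 0 = a' ∧ (β A).1.1 1 0 = b' ∧
        U.nm a + U.nm b = 1 ∧
        a' * Y 0 0 + -U.σ b' * Y 1 0 = Y 0 0 * τ a + Y 0 1 * τ b ∧
        a' * Y 0 1 + -U.σ b' * Y 1 1 = Y 0 0 * -τ (U.σ b) + Y 0 1 * τ (U.σ a) ∧
        b' * Y 0 0 + U.σ a' * Y 1 0 = Y 1 0 * τ a + Y 1 1 * τ b ∧
        b' * Y 0 1 + U.σ a' * Y 1 1 = Y 1 0 * -τ (U.σ b) + Y 1 1 * τ (U.σ a) := by
    intro A
    have h := hX A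
    obtain ⟨a', b', hab', e'⟩ := U.su2_surj (β A)
    obtain ⟨a, b, hab, e⟩ := U.su2_surj A
    rw [e'] at h
    subst e
    have i00 := congrFun (congrFun h 0) 0
    have i01 := congrFun (congrFun h 0) 1
    have i10 := congrFun (congrFun h 1) 0
    have i11 := congrFun (congrFun h 1) 1
    simp [su2_coe, Matrix.mul_apply, Fin.sum_univ_two] at i00 i01 i10 i11
    refine ⟨a, b, a', b', by simp [su2_coe], by simp [su2_coe], by rw [e']; simp [su2_coe],
      by rw [e']; simp [su2_coe], hab, ?_, ?_, ?_, ?_⟩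
    · linear_combination i00
    · linear_combination i01
    · linear_combination i10
    · linear_combination i11
  obtain ⟨l, hl, hl2⟩ := U.exists_rot
  have hl0 : U.nm l + U.nm 0 = 1 := by rw [U.nm_zero, add_zero]; exact hl
  obtain ⟨a, b, a', b', ea, eb, ea', eb', -, e00, e01, e10, e11⟩ := ent (U.su2 l 0 hl0)
  rw [su2_coe] at ea eb
  simp at ea eb
  subst ea; subst eb
  have hb' : b' = 0 := by rw [← eb']; exact hT _ (by simp [su2_coe])
  subst hb'
  simp only [map_zero, neg_zero, mul_zero, zero_mul, add_zero, zero_add] at e00 e01 e10 e11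
  have hne : τ l - τ (U.σ l) ≠ 0 := sub_ne_zero.2 fun e => hl2 (by
    have := τ.injective e
    rw [← this] at hl; exact hl)
  have h0 : Y 0 0 * Y 0 1 = 0 :=
    (mul_eq_zero.1 (show Y 0 0 * Y 0 1 * (τ l - τ (U.σ l)) = 0 by
      linear_combination -(Y 0 1) * e00 + Y 0 0 * e01)).resolve_right hne
  have h1 : Y 1 0 * Y 1 1 = 0 :=
    (mul_eq_zero.1 (show Y 1 0 * Y 1 1 * (τ l - τ (U.σ l)) = 0 by
      linear_combination -(Y 1 1) * e10 + Y 1 0 * e11)).resolve_right hne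
  obtain ⟨c, hc0, hc1⟩ := (U.params hF hq).exists_alpha
  obtain ⟨d, hd⟩ := U.exists_sqrt (c := 1 - U.nm c) (by rw [map_sub, map_one, U.nm_fix])
  have hcd : U.nm c + U.nm d = 1 := by rw [hd]; ring
  have hd0 : d ≠ 0 := fun e => hc1 (by rw [e, U.nm_zero] at hd; linear_combination hd)
  by_cases hY0 : Y 0 0 = 0
  · have hY01 : Y 0 1 ≠ 0 := fun e => hdet (by rw [hY0, e]; ring)
    have hY10 : Y 1 0 ≠ 0 := fun e => hdet (by rw [hY0, e]; ring)
    have hY11 : Y 1 1 = 0 := (mul_eq_zero.1 h1).resolve_left hY10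
    have key : ∀ A : SU 2 F q, (β A).1.1 0 0 = τ (U.σ (A.1.1 0 0)) ∧
        (β A).1.1 1 0 = -(Y 1 0 / Y 0 1) * τ (U.σ (A.1.1 1 0)) := by
      intro A
      obtain ⟨a, b, a', b', ea, eb, ea', eb', -, e00, e01, e10, e11⟩ := ent A
      rw [ea, eb, ea', eb']
      simp only [hY0, hY11, mul_zero, zero_mul, add_zero, zero_add] at e00 e01 e10 e11
      refine ⟨mul_right_cancel₀ hY01 (by linear_combination e01), ?_⟩
      field_simp
      linear_combination e11
    refine ⟨(RingEquiv.ofBijective U.σ ⟨U.σ.injective, fun x => ⟨U.σ x, U.hσσ x⟩⟩).trans τ,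
      -(Y 1 0 / Y 0 1), ?_, fun A => key A⟩
    obtain ⟨k0, k1⟩ := key (U.su2 c d hcd)
    obtain ⟨p, r, hpr, ep⟩ := U.su2_surj (β (U.su2 c d hcd))
    rw [ep] at k0 k1
    simp [su2_coe] at k0 k1
    have hn : U.nm p + U.nm (-(Y 1 0 / Y 0 1)) * U.nm (τ (U.σ d)) = 1 := by
      rw [← U.nm_mul, ← hpr, k1, neg_mul]
    have hτn : ∀ x, U.nm (τ (U.σ x)) = τ (U.nm x) := fun x => by
      simp only [UF.nm, hστ, ← map_mul, U.hσσ, mul_comm]
    rw [k0, hτn, hτn, hd, map_sub, map_one] at hn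
    have : (U.nm (-(Y 1 0 / Y 0 1)) - 1) * (1 - τ (U.nm c)) = 0 := by linear_combination hn
    refine sub_eq_zero.1 ((mul_eq_zero.1 this).resolve_right fun e => hc1 ?_)
    exact τ.injective (by rw [map_one]; linear_combination -e)
  · have hY01 : Y 0 1 = 0 := (mul_eq_zero.1 h0).resolve_left hY0
    have hY11 : Y 1 1 ≠ 0 := fun e => hdet (by rw [hY01, e]; ring)
    have hY10 : Y 1 0 = 0 := (mul_eq_zero.1 h1).resolve_right hY11
    have key : ∀ A : SU 2 F q, (β A).1.1 0 0 = τ (A.1.1 0 0) ∧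
        (β A).1.1 1 0 = (Y 1 1 / Y 0 0) * τ (A.1.1 1 0) := by
      intro A
      obtain ⟨a, b, a', b', ea, eb, ea', eb', -, e00, e01, e10, e11⟩ := ent A
      rw [ea, eb, ea', eb']
      simp only [hY10, hY01, mul_zero, zero_mul, add_zero, zero_add] at e00 e01 e10 e11
      refine ⟨mul_right_cancel₀ hY0 (by linear_combination e00), ?_⟩
      field_simp
      linear_combination e10
    refine ⟨τ, Y 1 1 / Y 0 0, ?_, key⟩
    obtain ⟨k0, k1⟩ := key (U.su2 c d hcd)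
    obtain ⟨p, r, hpr, ep⟩ := U.su2_surj (β (U.su2 c d hcd))
    rw [ep] at k0 k1
    simp [su2_coe] at k0 k1
    have hn : U.nm p + U.nm (Y 1 1 / Y 0 0) * U.nm (τ d) = 1 := by rw [← U.nm_mul, ← hpr, k1]
    have hτn : ∀ x, U.nm (τ x) = τ (U.nm x) := fun x => by simp only [UF.nm, hστ, ← map_mul]
    rw [k0, hτn, hτn, hd, map_sub, map_one] at hn
    have : (U.nm (Y 1 1 / Y 0 0) - 1) * (1 - τ (U.nm c)) = 0 := by linear_combination hn
    refine sub_eq_zero.1 ((mul_eq_zero.1 this).resolve_right fun e => hc1 ?_)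
    exact τ.injective (by rw [map_one]; linear_combination -e)

end UF

end CfsgLib.Chev.CT.Phan
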