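/-
Charts of standard pairs and the twists of the special unitary group by field automorphisms.
-/
import Cfsg.Agent.Lib.Chev.CT.Phan.AutSU2

set_option autoImplicit false

namespace CfsgLib.Chev.CT.Phan

open Matrix Cfsg

universe u v

variable {F : Type u} [Field F] {q N : ℕ} {G : Type v} [Group G]

/-- A parametrisation of a standard pair. -/
structure IsChart (χ : SU 3 F q →* G) (A B V : Subgroup G) : Prop where
  range : χ.range = V
  ker : χ.ker ≤ Subgroup.center (SU 3 F q)
  left : (FB F q 3 0 2).map χ = A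
  right : (FB F q 3 1 3).map χ = B

theorem UF.suBlock_eq (U : UF F q) {N : ℕ} (o : ℕ) {s : Set (Fin N)} (ho : o + 2 ≤ N)
    (hs : ∀ k : Fin N, k ∈ s ↔ o ≤ (k : ℕ) ∧ (k : ℕ) < o + 2) :
    suBlock N F q s = FB F q N o (o + 2) := by
  refine le_antisymm ((Subgroup.closure_le _).2 fun A hA => ?_) fun A hA => Subgroup.subset_closure ?_
  · intro k hk hk'
    have h := hA ⟨k, hk⟩ (fun e => by have := (hs _).1 e; simp at this; omega)
    funext r
    by_cases hr : (r : ℕ) = k
    · obtain rfl : r = ⟨k, hk⟩ := Fin.ext hr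
      have he : ev F N k = Pi.single (⟨k, hk⟩ : Fin N) 1 := ev_fin (F := F) ⟨k, hk⟩
      rw [he]
      simpa [act] using h.1
    · have := (h.2 r (fun e => hr (congrArg Fin.val e))).2
      have he : ev F N k = Pi.single (⟨k, hk⟩ : Fin N) 1 := ev_fin (F := F) ⟨k, hk⟩
      rw [he]
      simp [act, this, Fin.ext_iff, hr]
  · intro k hk
    have hk' : (k : ℕ) < o ∨ o + 2 ≤ (k : ℕ) := by
      by_contra h
      exact hk ((hs k).2 ⟨by omega, by omega⟩)
    have hcol : ∀ r : Fin N, A.1.1 r k = if r = k then 1 else 0 := fun r => by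
      have := congrFun (hA k k.isLt hk') r
      simpa [act, ev_fin, Pi.single_apply] using this
    refine ⟨by simpa using hcol k, fun l hl => ⟨?_, by rw [hcol l, if_neg hl]⟩⟩
    by_cases hlw : (l : ℕ) < o ∨ o + 2 ≤ (l : ℕ)
    · have := congrFun (hA l l.isLt hlw) k
      simpa [act, ev_fin, Pi.single_apply, Ne.symm hl] using this
    · have := U.Win_act hA (Win_ev (i := o) (j := o + 2) (k := (l : ℕ)) (by omega) (by omega)) k hk'
      simpa [act, ev_fin] using this

theorem UF.exists_chart (U : UF F q) {V A B : Subgroup G} (h : IsStandardUnitaryPair V A B F q) :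
    ∃ χ : SU 3 F q →* G, IsChart χ A B V := by
  have h01 : suBlock 3 F q ({0, 1} : Set (Fin 3)) = FB F q 3 0 2 :=
    U.suBlock_eq 0 (by norm_num) fun k => by fin_cases k <;> simp
  have h12 : suBlock 3 F q ({1, 2} : Set (Fin 3)) = FB F q 3 1 3 :=
    U.suBlock_eq 1 (by norm_num) fun k => by fin_cases k <;> simp
  rw [IsStandardUnitaryPair, h01, h12] at h
  rcases h with ⟨ψ, hA, hB⟩ | ⟨ψ, hA, hB⟩
  · refine ⟨V.subtype.comp ψ.toMonoidHom, ⟨?_, ?_, hA, hB⟩⟩
    · rw [MonoidHom.range_comp, MonoidHom.range_eq_top.2 ψ.surjective, ← MonoidHom.range_eq_map,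
        Subgroup.range_subtype]
    · intro x hx
      have : ψ x = 1 := Subtype.ext hx
      rw [show x = 1 from ψ.injective (this.trans (map_one ψ).symm)]
      exact one_mem _
  · refine ⟨V.subtype.comp (ψ.toMonoidHom.comp (QuotientGroup.mk' _)), ⟨?_, ?_, hA, hB⟩⟩
    · rw [MonoidHom.range_comp, MonoidHom.range_eq_top.2 ?_, ← MonoidHom.range_eq_map,
        Subgroup.range_subtype]
      exact ψ.surjective.comp (QuotientGroup.mk'_surjective _)
    · intro x hx
      have h1 : ψ (QuotientGroup.mk' (Subgroup.center (SU 3 F q)) x) = 1 := Subtype.ext hx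
      have h2 : QuotientGroup.mk' (Subgroup.center (SU 3 F q)) x = 1 :=
        ψ.injective (h1.trans (map_one ψ).symm)
      exact (QuotientGroup.eq_one_iff x).1 h2

theorem UF.central_eq_one (U : UF F q) {x : SU 3 F q} (hx : x ∈ Subgroup.center (SU 3 F q)) {i : ℕ}
    (hi : i < 3) (hfix : act x (ev F 3 i) = ev F 3 i) : x = 1 := by
  have hcomm : ∀ (g : SU 3 F q) (v : Fin 3 → F), act x v = v → act x (act g v) = act g v := fun g v hv => by
    rw [← act_mul, ← Subgroup.mem_center_iff.1 hx g, act_mul, hv]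
  have h01 : U.nm (0 : F) + U.nm 1 = 1 := by rw [U.nm_zero, U.nm_one, zero_add]
  have up : ∀ j, j + 2 ≤ 3 → act x (ev F 3 j) = ev F 3 j → act x (ev F 3 (j + 1)) = ev F 3 (j + 1) := by
    intro j hj h
    have := hcomm (embSU j hj U (U.su2 0 1 h01)) _ h
    rw [U.su2_act_ev0] at this
    simpa using this
  have down : ∀ j, j + 2 ≤ 3 → act x (ev F 3 (j + 1)) = ev F 3 (j + 1) → act x (ev F 3 j) = ev F 3 j := by
    intro j hj h
    have e : act (embSU j hj U (U.su2 0 1 h01))⁻¹ (ev F 3 (j + 1)) = ev F 3 j :=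
      act_inv_eq (by rw [U.su2_act_ev0]; simp)
    have := hcomm (embSU j hj U (U.su2 0 1 h01))⁻¹ _ h
    rwa [e] at this
  have h0 : act x (ev F 3 0) = ev F 3 0 := by
    interval_cases i
    · exact hfix
    · exact down 0 (by norm_num) hfix
    · exact down 0 (by norm_num) (down 1 (by norm_num) hfix)
  refine su_ext fun k hk => ?_
  rw [act_one]
  interval_cases k
  · exact h0
  · exact up 0 (by norm_num) h0
  · exact up 1 (by norm_num) (up 0 (by norm_num) h0)

namespace IsChart

variable {χ : SU 3 F q →* G} {A B V : Subgroup G} (C : IsChart χ A B V)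
include C

theorem emb_injective (U : UF F q) {o : ℕ} (ho : o + 2 ≤ 3) :
    Function.Injective (χ.comp (embSU o ho U)) := by
  rw [injective_iff_map_eq_one]
  intro a ha
  have hc : embSU o ho U a ∈ Subgroup.center (SU 3 F q) := C.ker (MonoidHom.mem_ker.2 ha)
  have h1 : embSU o ho U a = 1 := by
    by_cases h0 : o = 0
    · exact U.central_eq_one hc (i := 2) (by norm_num) (embSU_mem o ho U a 2 (by norm_num) (by omega))
    · exact U.central_eq_one hc (i := 0) (by norm_num) (embSU_mem o ho U a 0 (by norm_num) (by omega))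
  exact embSU_injective o ho U (h1.trans (map_one _).symm)

theorem range_left (U : UF F q) : (χ.comp (embSU 0 (by norm_num) U : SU 2 F q →* SU 3 F q)).range = A := by
  rw [MonoidHom.range_comp, range_embSU]; exact C.left

theorem range_right (U : UF F q) : (χ.comp (embSU 1 (by norm_num) U : SU 2 F q →* SU 3 F q)).range = B := by
  rw [MonoidHom.range_comp, range_embSU]; exact C.right

theorem left_le : A ≤ V := by
  rw [← C.left, ← C.range]; exact Subgroup.map_le_range _ _

theorem right_le : B ≤ V := by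
  rw [← C.right, ← C.range]; exact Subgroup.map_le_range _ _

end IsChart

/-- Entrywise field automorphism followed by a diagonal isometry. -/
def twistMat (τ : F ≃+* F) (d : Fin N → F) (M : Matrix (Fin N) (Fin N) F) : Matrix (Fin N) (Fin N) F :=
  diagonal d * M.map τ * diagonal (fun i => (d i)⁻¹)

/-- The twist as an endomorphism of the special unitary group. -/
def twist (U : UF F q) (τ : F ≃+* F) (d : Fin N → F) (hd : ∀ i, U.nm (d i) = 1) : SU N F q →* SU N F q :=
  have hd0 : ∀ i, d i ≠ 0 := fun i e => by simpa [e, UF.nm] using hd i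
  have hinv : diagonal (fun i => (d i)⁻¹) * diagonal d = 1 := by
    rw [diagonal_mul_diagonal, ← diagonal_one]; congr 1; funext i; exact inv_mul_cancel₀ (hd0 i)
  MonoidHom.mk' (fun g => ⟨⟨twistMat τ d g.1.1, by
      rw [twistMat, det_mul, det_mul, det_diagonal, det_diagonal, Finset.prod_inv_distrib,
        ← RingEquiv.coe_toRingHom, ← RingHom.mapMatrix_apply, ← RingHom.map_det, g.1.2, map_one, mul_one]
      exact mul_inv_cancel₀ (Finset.prod_ne_zero_iff.2 fun i _ => hd0 i)⟩, by
    intro u v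
    show hermForm N F q (twistMat τ d g.1.1 *ᵥ u) (twistMat τ d g.1.1 *ᵥ v) = hermForm N F q u v
    let u' : Fin N → F := fun i => τ.symm ((d i)⁻¹ * u i)
    let v' : Fin N → F := fun i => τ.symm ((d i)⁻¹ * v i)
    have hw : ∀ w : Fin N → F, twistMat τ d g.1.1 *ᵥ w =
        fun i => d i * τ ((g.1.1 *ᵥ fun j => τ.symm ((d j)⁻¹ * w j)) i) := fun w => by
      funext i
      simp only [twistMat, mulVec, dotProduct, diagonal_mul, mul_diagonal, Matrix.map_apply, map_sum,
        map_mul, RingEquiv.apply_symm_apply, Finset.mul_sum]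
      exact Finset.sum_congr rfl fun j _ => by ring
    have hform : ∀ x y : Fin N → F, hermForm N F q (fun i => d i * τ (x i)) (fun i => d i * τ (y i)) =
        τ (hermForm N F q x y) := fun x y => by
      simp only [hermForm, map_sum, map_mul, map_pow, mul_pow]
      refine Finset.sum_congr rfl fun i _ => ?_
      have := hd i
      rw [UF.nm, U.hσ] at this
      linear_combination (τ (x i) * τ (y i) ^ q) * this
    have hback : ∀ w : Fin N → F, (fun i => d i * τ (τ.symm ((d i)⁻¹ * w i))) = w := fun w => by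
      funext i; rw [RingEquiv.apply_symm_apply, mul_inv_cancel_left₀ (hd0 i)]
    rw [hw, hw, hform]
    conv_rhs => rw [← hback u, ← hback v, hform]
    exact congrArg τ (g.2 _ _)⟩) fun g g' => Subtype.ext (Subtype.ext (by
      show twistMat τ d (g.1.1 * g'.1.1) = twistMat τ d g.1.1 * twistMat τ d g'.1.1
      simp only [twistMat, Matrix.map_mul, Matrix.mul_assoc]
      rw [← Matrix.mul_assoc (diagonal fun i => (d i)⁻¹) (diagonal d), hinv, Matrix.one_mul]))

theorem twist_coe (U : UF F q) (τ : F ≃+* F) (d : Fin N → F) (hd : ∀ i, U.nm (d i) = 1) (g : SU N F q)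
    (i j : Fin N) : (twist U τ d hd g).1.1 i j = d i * τ (g.1.1 i j) * (d j)⁻¹ := by
  show twistMat τ d g.1.1 i j = _
  simp [twistMat, diagonal_mul, mul_diagonal]

theorem twist_injective (U : UF F q) (τ : F ≃+* F) (d : Fin N → F) (hd : ∀ i, U.nm (d i) = 1) :
    Function.Injective (twist U τ d hd) := by
  have hd0 : ∀ i, d i ≠ 0 := fun i e => by simpa [e, UF.nm] using hd i
  intro g g' h
  refine Subtype.ext (Subtype.ext (Matrix.ext fun i j => τ.injective ?_))
  have := congrArg (fun x : SU N F q => x.1.1 i j) h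
  simp only [twist_coe] at this
  exact mul_left_cancel₀ (hd0 i) (mul_right_cancel₀ (inv_ne_zero (hd0 j)) this)

theorem twist_mem (U : UF F q) (τ : F ≃+* F) (d : Fin N → F) (hd : ∀ i, U.nm (d i) = 1) {i j : ℕ}
    {g : SU N F q} (hg : g ∈ FB F q N i j) : twist U τ d hd g ∈ FB F q N i j := by
  intro k hk hk'
  have hd0 : d ⟨k, hk⟩ ≠ 0 := fun e => by simpa [e, UF.nm] using hd ⟨k, hk⟩
  funext r
  have h := congrFun (hg k hk hk') r
  have he : ev F N k = Pi.single (⟨k, hk⟩ : Fin N) 1 := ev_fin (F := F) ⟨k, hk⟩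
  rw [he] at h ⊢
  simp [act, Pi.single_apply] at h
  simp [act, Pi.single_apply, twist_coe, h]
  split_ifs with e
  · subst e; simp [hd0]
  · simp

theorem twist_emb (U : UF F q) (τ : F ≃+* F) (d : Fin 3 → F) (hd : ∀ i, U.nm (d i) = 1) (a b : F)
    (h : U.nm a + U.nm b = 1) (h' : U.nm (τ a) + U.nm (d 1 / d 0 * τ b) = 1) :
    twist U τ d hd (embSU 0 (by norm_num) U (U.su2 a b h)) =
      embSU 0 (by norm_num) U (U.su2 (τ a) (d 1 / d 0 * τ b) h') := by
  have hd0 : ∀ i, d i ≠ 0 := fun i e => by simpa [e, UF.nm] using hd i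
  have hστ : ∀ x, U.σ (τ x) = τ (U.σ x) := fun x => by rw [U.hσ, U.hσ, map_pow]
  have hσd : ∀ i, U.σ (d i) = (d i)⁻¹ := fun i => eq_inv_of_mul_eq_one_right (hd i)
  refine Subtype.ext (Subtype.ext (Matrix.ext fun i j => ?_))
  rw [twist_coe]
  show d i * τ (embMat 0 (by norm_num) (U.su2 a b h).1.1 i j) * (d j)⁻¹ =
    embMat 0 (by norm_num) (U.su2 (τ a) (d 1 / d 0 * τ b) h').1.1 i j
  obtain ⟨s, rfl⟩ := (winEquiv (m := 2) 0 (by norm_num : 0 + 2 ≤ 3)).surjective i
  obtain ⟨t, rfl⟩ := (winEquiv (m := 2) 0 (by norm_num : 0 + 2 ≤ 3)).surjective j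
  simp only [embMat, submatrix_apply, Equiv.symm_apply_apply, UF.su2_coe]
  rcases s with s | s <;> rcases t with t | t
  · fin_cases s <;> fin_cases t <;>
      simp [winEquiv, hστ, map_mul, map_div₀, map_inv₀, hσd] <;>
      (have := hd0 0; have := hd0 1; field_simp)
  · simp
  · simp
  · by_cases e : s = t
    · subst e; simp [hd0]
    · simp [Matrix.one_apply_ne e]

end CfsgLib.Chev.CT.Phan
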