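/-
Making the parametrisations of consecutive standard pairs agree.
-/
import Cfsg.Agent.Lib.Chev.CT.Phan.Charts

set_option autoImplicit false

namespace CfsgLib.Chev.CT.Phan

open Matrix Cfsg

universe u v

variable {F : Type u} [Field F] {q : ℕ} {G : Type v} [Group G]

theorem UF.su2_inj (U : UF F q) {a b a' b' : F} {h : U.nm a + U.nm b = 1} {h' : U.nm a' + U.nm b' = 1}
    (e : U.su2 a b h = U.su2 a' b' h') : a = a' ∧ b = b' := by
  constructor
  · simpa [UF.su2_coe] using congrArg (fun A : SU 2 F q => A.1.1 0 0) e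
  · simpa [UF.su2_coe] using congrArg (fun A : SU 2 F q => A.1.1 1 0) e

theorem UF.rot_rel (U : UF F q) {l a b : F} (hl : U.nm l + U.nm 0 = 1) (h : U.nm a + U.nm b = 1)
    (h' : U.nm a + U.nm (l * b) = 1) :
    embSU (N := 3) 0 (by norm_num) U (U.su2 l 0 hl) * embSU 1 (by norm_num) U (U.su2 a b h) =
      embSU 1 (by norm_num) U (U.su2 a (l * b) h') * embSU 0 (by norm_num) U (U.su2 l 0 hl) := by
  have hl1 : l * U.σ l = 1 := by rw [U.nm_zero, add_zero] at hl; exact hl
  have f0 : ∀ (x y : F) (hxy : U.nm x + U.nm y = 1),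
      act (embSU (N := 3) 1 (by norm_num) U (U.su2 x y hxy)) (ev F 3 0) = ev F 3 0 := fun x y hxy =>
    embSU_mem 1 (by norm_num) U _ 0 (by norm_num) (by omega)
  have f2 : act (embSU (N := 3) 0 (by norm_num) U (U.su2 l 0 hl)) (ev F 3 2) = ev F 3 2 :=
    embSU_mem 0 (by norm_num) U _ 2 (by norm_num) (by omega)
  have a0 : act (embSU (N := 3) 0 (by norm_num) U (U.su2 l 0 hl)) (ev F 3 0) = l • ev F 3 0 := by
    rw [U.su2_act_ev0]; simp
  have a1 : act (embSU (N := 3) 0 (by norm_num) U (U.su2 l 0 hl)) (ev F 3 1) = U.σ l • ev F 3 1 := by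
    rw [show ev F 3 1 = ev F 3 (0 + 1) from rfl, U.su2_act_ev1]; simp
  have b1 : ∀ (x y : F) (hxy : U.nm x + U.nm y = 1),
      act (embSU (N := 3) 1 (by norm_num) U (U.su2 x y hxy)) (ev F 3 1) = x • ev F 3 1 + y • ev F 3 2 :=
    fun x y hxy => U.su2_act_ev0 (l := 1) (by norm_num) x y hxy
  have b2 : ∀ (x y : F) (hxy : U.nm x + U.nm y = 1),
      act (embSU (N := 3) 1 (by norm_num) U (U.su2 x y hxy)) (ev F 3 2) =
        (-U.σ y) • ev F 3 1 + U.σ x • ev F 3 2 :=
    fun x y hxy => U.su2_act_ev1 (l := 1) (by norm_num) x y hxy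
  refine su_ext fun k hk => ?_
  interval_cases k
  · rw [act_mul, act_mul, f0, a0, act_smul, f0]
  · rw [act_mul, act_mul, b1, a1, act_smul, b1, act_add, act_smul, act_smul, a1, f2, smul_add,
      smul_smul, smul_smul, smul_smul, mul_comm (U.σ l) a,
      show U.σ l * (l * b) = b by linear_combination b * hl1]
  · rw [act_mul, act_mul, b2, f2, b2, act_add, act_smul, act_smul, a1, f2, smul_smul, map_mul]
    rw [show -(U.σ l * U.σ b) = -U.σ b * U.σ l by ring]

namespace IsChart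

variable {χ : SU 3 F q →* G} {A B V : Subgroup G} (C : IsChart χ A B V)
include C

/-- The diagonal part of the first group normalises the second. -/
theorem conj_right (U : UF F q) {l : F} (hl : U.nm l + U.nm 0 = 1) {y : G} (hy : y ∈ B) :
    χ (embSU 0 (by norm_num) U (U.su2 l 0 hl)) * y * (χ (embSU 0 (by norm_num) U (U.su2 l 0 hl)))⁻¹ ∈ B := by
  rw [← C.right] at hy ⊢
  obtain ⟨b, hb, rfl⟩ := Subgroup.mem_map.1 hy
  refine Subgroup.mem_map.2 ⟨embSU 0 (by norm_num) U (U.su2 l 0 hl) * b *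
    (embSU 0 (by norm_num) U (U.su2 l 0 hl))⁻¹, ?_, by simp⟩
  intro k hk hk'
  obtain rfl : k = 0 := by omega
  have a0 : act (embSU (N := 3) 0 (by norm_num) U (U.su2 l 0 hl)) (ev F 3 0) = l • ev F 3 0 := by
    rw [U.su2_act_ev0]; simp
  have hl1 : l * U.σ l = 1 := by rw [U.nm_zero, add_zero] at hl; exact hl
  have a0' : act (embSU (N := 3) 0 (by norm_num) U (U.su2 l 0 hl))⁻¹ (ev F 3 0) = U.σ l • ev F 3 0 :=
    act_inv_eq (by rw [act_smul, a0, smul_smul, mul_comm, hl1, one_smul])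
  rw [act_mul, act_mul, a0', act_smul, FB_act_out hb hk (Or.inl (by norm_num)), act_smul, a0, smul_smul,
    mul_comm, hl1, one_smul]

/-- An element of the first group normalising the second is diagonal. -/
theorem diag_of_normalize (U : UF F q) {a b : F} (h : U.nm a + U.nm b = 1)
    (hn : ∀ y ∈ B, χ (embSU 0 (by norm_num) U (U.su2 a b h)) * y *
      (χ (embSU 0 (by norm_num) U (U.su2 a b h)))⁻¹ ∈ B) : b = 0 := by
  set x : SU 3 F q := embSU 0 (by norm_num) U (U.su2 a b h) with hx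
  have h01 : U.nm (0 : F) + U.nm 1 = 1 := by rw [U.nm_zero, U.nm_one, zero_add]
  set w : SU 3 F q := embSU 1 (by norm_num) U (U.su2 0 1 h01) with hw
  have hwB : χ w ∈ B := by
    rw [← C.right]; exact Subgroup.mem_map_of_mem χ (embSU_mem (N := 3) (m := 2) 1 (by norm_num) U _)
  have := hn _ hwB
  rw [← C.right] at this
  obtain ⟨w', hw', e⟩ := Subgroup.mem_map.1 this
  have hker : w'⁻¹ * (x * w * x⁻¹) ∈ χ.ker := by
    rw [MonoidHom.mem_ker, map_mul, map_inv, map_mul, map_mul, map_inv, ← e, inv_mul_cancel]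
  set z := w'⁻¹ * (x * w * x⁻¹) with hz
  have hzc : z ∈ Subgroup.center (SU 3 F q) := C.ker hker
  obtain ⟨l, hl, hl2⟩ := U.exists_rot
  have hl0 : U.nm l + U.nm 0 = 1 := by rw [U.nm_zero, add_zero]; exact hl
  set t : SU 3 F q := embSU 1 (by norm_num) U (U.su2 l 0 hl0) with ht
  have t0 : act t (ev F 3 0) = ev F 3 0 := embSU_mem 1 (by norm_num) U _ 0 (by norm_num) (by omega)
  set v := act z (ev F 3 0) with hv
  have tv : act t v = v := by
    rw [hv, ← act_mul, Subgroup.mem_center_iff.1 hzc t, act_mul, t0]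
  have t1 : act t (ev F 3 1) = l • ev F 3 1 := by
    rw [ht, U.su2_act_ev0]; simp
  have t2 : act t (ev F 3 2) = U.σ l • ev F 3 2 := by
    rw [ht, show ev F 3 2 = ev F 3 (1 + 1) from rfl, U.su2_act_ev1]; simp
  have hlne : l ≠ 1 := fun e => hl2 (by rw [e, mul_one])
  have hl0' : l ≠ 0 := fun e => by simp [e] at hl
  have hv1 : hf q v (ev F 3 1) = 0 := by
    have := hf_act t v (ev F 3 1)
    rw [tv, t1, U.smul_r] at this
    have h2 : (U.σ l - 1) * hf q v (ev F 3 1) = 0 := by linear_combination this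
    exact (mul_eq_zero.1 h2).resolve_left (sub_ne_zero.2 fun e => hlne (by rw [← U.hσσ l, e, map_one]))
  have hv2 : hf q v (ev F 3 2) = 0 := by
    have := hf_act t v (ev F 3 2)
    rw [tv, t2, U.smul_r, U.hσσ] at this
    have h2 : (l - 1) * hf q v (ev F 3 2) = 0 := by linear_combination this
    exact (mul_eq_zero.1 h2).resolve_left (sub_ne_zero.2 hlne)
  -- `x * w * x⁻¹` moves `e₀` to a multiple of itself
  have e0 : act (x * w * x⁻¹) (ev F 3 0) = act w' v := by
    rw [hv, ← act_mul, hz, mul_inv_cancel_left]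
  have w'0 : act w' (ev F 3 0) = ev F 3 0 := hw' 0 (by norm_num) (by omega)
  have hexp : v = hf q v (ev F 3 0) • ev F 3 0 := by
    funext r
    fin_cases r
    · rw [U.ev_r v (by norm_num : 0 < 3)]; simp [ev]
    · rw [U.ev_r v (by norm_num : 1 < 3)] at hv1
      simpa [ev] using hv1
    · rw [U.ev_r v (by norm_num : 2 < 3)] at hv2
      simpa [ev] using hv2
  set c := hf q v (ev F 3 0)
  have e1 : act w (act x⁻¹ (ev F 3 0)) = c • act x⁻¹ (ev F 3 0) := by
    have : act x (act w (act x⁻¹ (ev F 3 0))) = c • ev F 3 0 := by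
      rw [← act_mul, ← act_mul, e0, hexp, act_smul, w'0]
    calc act w (act x⁻¹ (ev F 3 0)) = act x⁻¹ (act x (act w (act x⁻¹ (ev F 3 0)))) := (act_inv_act _ _).symm
      _ = _ := by rw [this, act_smul]
  set p := act x⁻¹ (ev F 3 0)
  have p2 : hf q p (ev F 3 2) = 0 := by
    have hx2 : act x (ev F 3 2) = ev F 3 2 := embSU_mem 0 (by norm_num) U _ 2 (by norm_num) (by omega)
    rw [← hf_act x, act_act_inv, hx2, U.ev_ne (by norm_num) (by norm_num) (by norm_num)]
  have p1 : hf q p (ev F 3 1) = -b := by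
    rw [← hf_act x, act_act_inv, hx, show ev F 3 1 = ev F 3 (0 + 1) from rfl, U.su2_act_ev1, U.add_r,
      U.smul_r, U.smul_r, U.ev_self (by norm_num), U.ev_ne (by norm_num) (by norm_num) (by norm_num),
      map_neg, U.hσσ]
    ring
  have w1 : act w (ev F 3 1) = ev F 3 2 := by rw [hw, U.su2_act_ev0]; simp
  have h2 := congrArg (fun u => hf q u (ev F 3 2)) e1
  simp only [U.smul_l, p2, mul_zero] at h2
  rw [← w1, hf_act, p1] at h2
  linear_combination -h2

end IsChart

/-- The image of an injective endomorphism of a finite group on a stable subgroup. -/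
theorem map_eq_of_stable {H : Type*} [Group H] [Finite H] (f : H →* H) (hf : Function.Injective f)
    (S : Subgroup H) (h : ∀ x ∈ S, f x ∈ S) : S.map f = S :=
  Subgroup.eq_of_le_of_card_ge (by rintro _ ⟨x, hx, rfl⟩; exact h x hx)
    (Nat.card_congr (S.equivMapOfInjective f hf).toEquiv).le

/-- Two consecutive charts can be made to agree. -/
theorem align_step_of [Fintype F] (U : UF F q)
    (hAT : ∀ β : SU 2 F q ≃* SU 2 F q, (∀ A : SU 2 F q, A.1.1 1 0 = 0 → (β A).1.1 1 0 = 0) →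
      ∃ (τ : F ≃+* F) (ν : F), U.nm ν = 1 ∧ ∀ A : SU 2 F q,
        (β A).1.1 0 0 = τ (A.1.1 0 0) ∧ (β A).1.1 1 0 = ν * τ (A.1.1 1 0))
    {ψ χ : SU 3 F q →* G} {A B C V V' : Subgroup G} (P : IsChart ψ A B V) (Q : IsChart χ B C V')
    (hAC : ∀ x ∈ A, ∀ y ∈ C, x * y = y * x) :
    ∃ χ' : SU 3 F q →* G, IsChart χ' B C V' ∧
      ∀ a : SU 2 F q, χ' (embSU 0 (by norm_num) U a) = ψ (embSU 1 (by norm_num) U a) := by
  classical
  set L : SU 2 F q →* G := χ.comp (embSU 0 (by norm_num) U) with hL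
  set R : SU 2 F q →* G := ψ.comp (embSU 1 (by norm_num) U) with hR
  have hLi : Function.Injective L := Q.emb_injective U _
  have hRi : Function.Injective R := P.emb_injective U _
  have hLr : L.range = B := Q.range_left U
  have hRr : R.range = B := P.range_right U
  have key : ∀ (l : F) (hl : U.nm l + U.nm 0 = 1),
      ∃ (l' : F) (hl' : U.nm l' + U.nm 0 = 1), L (U.su2 l 0 hl) = R (U.su2 l' 0 hl') := by
    intro l hl
    have hxB : L (U.su2 l 0 hl) ∈ R.range := by rw [hRr, ← hLr]; exact ⟨_, rfl⟩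
    obtain ⟨y, hy⟩ := hxB
    obtain ⟨a, b, hab, rfl⟩ := U.su2_surj y
    suffices b = 0 by subst this; exact ⟨a, hab, hy.symm⟩
    obtain ⟨m, hm, hm2⟩ := U.exists_rot
    have hm0 : U.nm m + U.nm 0 = 1 := by rw [U.nm_zero, add_zero]; exact hm
    have hab' : U.nm a + U.nm (m * b) = 1 := by rw [U.nm_mul, show U.nm m = 1 from hm, one_mul]; exact hab
    set d := ψ (embSU 0 (by norm_num) U (U.su2 m 0 hm0)) with hd
    have hdA : d ∈ A := by rw [← P.left]; exact Subgroup.mem_map_of_mem ψ (embSU_mem (N := 3) (m := 2) 0 (by norm_num) U _)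
    have hconj : d * R (U.su2 a b hab) = R (U.su2 a (m * b) hab') * d := by
      simp only [hd, hR, MonoidHom.comp_apply, ← map_mul, U.rot_rel hm0 hab hab']
    have hnorm : ∀ z ∈ C, R (U.su2 a (m * b) hab') * z * (R (U.su2 a (m * b) hab'))⁻¹ ∈ C := by
      intro z hz
      have h1 := Q.conj_right U hl hz
      change L (U.su2 l 0 hl) * z * (L (U.su2 l 0 hl))⁻¹ ∈ C at h1
      rw [← hy] at h1
      have hdz := hAC d hdA z hz
      have e : R (U.su2 a (m * b) hab') = d * R (U.su2 a b hab) * d⁻¹ := by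
        rw [hconj, mul_inv_cancel_right]
      have e' : R (U.su2 a (m * b) hab') * z * (R (U.su2 a (m * b) hab'))⁻¹ =
          d * (R (U.su2 a b hab) * z * (R (U.su2 a b hab))⁻¹) * d⁻¹ := by
        have hdz' : d⁻¹ * z * d = z := by rw [mul_assoc, ← hdz, inv_mul_cancel_left]
        rw [e]
        calc _ = d * (R (U.su2 a b hab) * (d⁻¹ * z * d) * (R (U.su2 a b hab))⁻¹) * d⁻¹ := by group
          _ = _ := by rw [hdz']
      rw [e', hAC d hdA _ h1, mul_inv_cancel_right]
      exact h1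
    have hxB' : R (U.su2 a (m * b) hab') ∈ L.range := by rw [hLr, ← hRr]; exact ⟨_, rfl⟩
    obtain ⟨y', hy'⟩ := hxB'
    obtain ⟨a', b', hab'', rfl⟩ := U.su2_surj y'
    rw [← hy'] at hnorm
    have hb' : b' = 0 := Q.diag_of_normalize U hab'' hnorm
    subst hb'
    have hc : U.su2 l 0 hl * U.su2 a' 0 hab'' = U.su2 a' 0 hab'' * U.su2 l 0 hl := by
      refine Subtype.ext (Subtype.ext ?_)
      show (U.su2 l 0 hl).1.1 * (U.su2 a' 0 hab'').1.1 = (U.su2 a' 0 hab'').1.1 * (U.su2 l 0 hl).1.1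
      simp [UF.su2_coe, mul_comm]
    have hc' := congrArg L hc
    rw [map_mul, map_mul, hy', ← hy, ← map_mul, ← map_mul] at hc'
    have h00 := congrArg (fun X : SU 2 F q => X.1.1 0 0) (hRi hc')
    change ((U.su2 a b hab).1.1 * (U.su2 a (m * b) hab').1.1) 0 0 =
      ((U.su2 a (m * b) hab').1.1 * (U.su2 a b hab).1.1) 0 0 at h00
    simp [UF.su2_coe, Matrix.mul_apply, Fin.sum_univ_two] at h00
    by_contra hb
    have h2 : U.σ b * b * (m - U.σ m) = 0 := by linear_combination h00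
    have hσb : U.σ b ≠ 0 := (map_ne_zero U.σ).2 hb
    have h3 : m = U.σ m := sub_eq_zero.1 ((mul_eq_zero.1 h2).resolve_left (mul_ne_zero hσb hb))
    exact hm2 (by rw [← h3] at hm; exact hm)
  let T := {l : F // U.nm l = 1}
  have hT : ∀ l : T, U.nm l.1 + U.nm 0 = 1 := fun l => by rw [U.nm_zero, add_zero]; exact l.2
  have htot : ∀ l : T, ∃ l' : T, L (U.su2 l.1 0 (hT l)) = R (U.su2 l'.1 0 (hT l')) := fun l => by
    obtain ⟨l', hl', e⟩ := key l.1 (hT l)
    exact ⟨⟨l', by rwa [U.nm_zero, add_zero] at hl'⟩, e⟩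
  choose f hf using htot
  have hfi : Function.Injective f := fun x y e => Subtype.ext (U.su2_inj (hLi (by
    rw [hf x, hf y]; simp [e]))).1
  have hfs : Function.Surjective f := Finite.surjective_of_injective hfi
  let β : SU 2 F q ≃* SU 2 F q := (MonoidHom.ofInjective hRi).trans
    ((MulEquiv.subgroupCongr (hRr.trans hLr.symm)).trans (MonoidHom.ofInjective hLi).symm)
  have hβ : ∀ a, L (β a) = R a := fun a => by
    show ((MonoidHom.ofInjective hLi) (β a) : G) = R a
    simp only [β, MulEquiv.trans_apply, MulEquiv.apply_symm_apply]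
    rfl
  have hβT : ∀ a : SU 2 F q, a.1.1 1 0 = 0 → (β a).1.1 1 0 = 0 := by
    intro a ha
    obtain ⟨p, r, hpr, rfl⟩ := U.su2_surj a
    have hr : r = 0 := by simpa [UF.su2_coe] using ha
    subst hr
    obtain ⟨l, hl⟩ := hfs ⟨p, by rw [U.nm_zero, add_zero] at hpr; exact hpr⟩
    have e : β (U.su2 p 0 hpr) = U.su2 l.1 0 (hT l) := hLi (by rw [hβ, hf l]; simp [hl])
    rw [e]; simp [UF.su2_coe]
  obtain ⟨τ, ν, hν, hent⟩ := hAT β hβT
  let d : Fin 3 → F := ![U.σ ν, 1, 1]
  have hd : ∀ i, U.nm (d i) = 1 := fun i => by fin_cases i <;> simp [d, U.nm_sigma, hν, U.nm_one]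
  have hΦ := twist_injective U τ d hd
  refine ⟨χ.comp (twist U τ d hd), ⟨?_, ?_, ?_, ?_⟩, fun a => ?_⟩
  · rw [MonoidHom.range_comp, MonoidHom.range_eq_top.2 (Finite.surjective_of_injective hΦ),
      ← MonoidHom.range_eq_map]
    exact Q.range
  · intro x hx
    have hc := Subgroup.mem_center_iff.1 (Q.ker (MonoidHom.mem_ker.2 hx : twist U τ d hd x ∈ χ.ker))
    exact Subgroup.mem_center_iff.2 fun g => hΦ (by rw [map_mul, map_mul]; exact hc _)
  · rw [← Subgroup.map_map, map_eq_of_stable _ hΦ _ fun x hx => twist_mem U τ d hd hx]; exact Q.left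
  · rw [← Subgroup.map_map, map_eq_of_stable _ hΦ _ fun x hx => twist_mem U τ d hd hx]; exact Q.right
  · obtain ⟨p, r, hpr, rfl⟩ := U.su2_surj a
    have hd01 : d 1 / d 0 = ν := by
      have h0 : U.σ ν * ν = 1 := by rw [mul_comm]; exact hν
      simp [d, inv_eq_of_mul_eq_one_right h0]
    have hστ : ∀ x, U.σ (τ x) = τ (U.σ x) := fun x => by rw [U.hσ, U.hσ, map_pow]
    have hnτ : ∀ x, U.nm (τ x) = τ (U.nm x) := fun x => by simp only [UF.nm, hστ, ← map_mul]
    have h' : U.nm (τ p) + U.nm (d 1 / d 0 * τ r) = 1 := by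
      rw [hd01, U.nm_mul, hν, one_mul, hnτ, hnτ, ← map_add, hpr, map_one]
    rw [MonoidHom.comp_apply, twist_emb U τ d hd p r hpr h']
    show L _ = R _
    rw [← hβ]
    obtain ⟨p', r', hpr', e⟩ := U.su2_surj (β (U.su2 p r hpr))
    obtain ⟨h1, h2⟩ := hent (U.su2 p r hpr)
    rw [e] at h1 h2 ⊢
    simp [UF.su2_coe] at h1 h2
    simp only [hd01, h1, h2]

/-- Two consecutive charts can be made to agree, for large fields. -/
theorem align_step [Fintype F] (U : UF F q) (hF : Fintype.card F = q ^ 2) (hq : 3 < q)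
    {ψ χ : SU 3 F q →* G} {A B C V V' : Subgroup G} (P : IsChart ψ A B V) (Q : IsChart χ B C V')
    (hAC : ∀ x ∈ A, ∀ y ∈ C, x * y = y * x) :
    ∃ χ' : SU 3 F q →* G, IsChart χ' B C V' ∧
      ∀ a : SU 2 F q, χ' (embSU 0 (by norm_num) U a) = ψ (embSU 1 (by norm_num) U a) :=
  align_step_of U (U.aut_torus hF hq) P Q hAC

end CfsgLib.Chev.CT.Phan
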