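/-
Weak Phan systems of rank at least three.
-/
import Cfsg.Agent.Lib.Chev.CT.Phan.Align

set_option autoImplicit false

namespace CfsgLib.Chev.CT.Phan

open Matrix Cfsg

universe u v

variable {F : Type u} [Field F] {q : ℕ} {G : Type v} [Group G]

/-- A sequence of agreeing charts. -/
theorem exists_charts_of [Fintype F] (U : UF F q)
    (hAT : ∀ β : SU 2 F q ≃* SU 2 F q, (∀ A : SU 2 F q, A.1.1 1 0 = 0 → (β A).1.1 1 0 = 0) →
      ∃ (τ : F ≃+* F) (ν : F), U.nm ν = 1 ∧ ∀ A : SU 2 F q,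
        (β A).1.1 0 0 = τ (A.1.1 0 0) ∧ (β A).1.1 1 0 = ν * τ (A.1.1 1 0)) {N : ℕ}
    (A : ℕ → Subgroup G) (V : ℕ → Subgroup G)
    (hV : ∀ i, i + 3 ≤ N → ∃ χ : SU 3 F q →* G, IsChart χ (A i) (A (i + 1)) (V i))
    (hcomm : ∀ i, i + 4 ≤ N → ∀ x ∈ A i, ∀ y ∈ A (i + 2), x * y = y * x) :
    ∀ j : ℕ, ∃ c : ℕ → (SU 3 F q →* G), (∀ i, i ≤ j → i + 3 ≤ N → IsChart (c i) (A i) (A (i + 1)) (V i)) ∧
      ∀ i, i < j → i + 4 ≤ N → ∀ a : SU 2 F q,
        c (i + 1) (embSU 0 (by norm_num) U a) = c i (embSU 1 (by norm_num) U a) := by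
  intro j
  induction j with
  | zero =>
    by_cases h : 0 + 3 ≤ N
    · obtain ⟨χ, hχ⟩ := hV 0 h
      exact ⟨fun _ => χ, fun i hi _ => by obtain rfl : i = 0 := by omega
                                          exact hχ,
        fun i hi => absurd hi (by omega)⟩
    · exact ⟨fun _ => 1, fun i hi hN => absurd hN (by omega), fun i hi => absurd hi (by omega)⟩
  | succ j ih =>
    obtain ⟨c, h1, h2⟩ := ih
    by_cases h : j + 4 ≤ N
    · obtain ⟨χ, hχ⟩ := hV (j + 1) (by omega)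
      obtain ⟨χ', hχ', hagree⟩ := align_step_of U hAT (h1 j le_rfl (by omega)) hχ (hcomm j h)
      refine ⟨fun i => if i = j + 1 then χ' else c i, fun i hi hN => ?_, fun i hi hN a => ?_⟩
      · dsimp only
        by_cases e : i = j + 1
        · subst e; rw [if_pos rfl]; exact hχ'
        · rw [if_neg e]; exact h1 i (by omega) hN
      · dsimp only
        by_cases e : i = j
        · subst e; rw [if_pos rfl, if_neg (by omega)]; exact hagree a
        · rw [if_neg (by omega), if_neg (by omega)]; exact h2 i (by omega) hN a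
    · exact ⟨c, fun i hi hN => h1 i (by omega) hN, fun i hi hN => h2 i (by omega) hN⟩

/-- The completion theorem, with indices in the natural numbers. -/
theorem weak_phan [Fintype F] (hF : Fintype.card F = q ^ 2) (hq : 3 < q) {N : ℕ} (hN : 4 ≤ N)
    (A : ℕ → Subgroup G) (V : ℕ → Subgroup G)
    (hV : ∀ i, i + 3 ≤ N → IsStandardUnitaryPair (V i) (A i) (A (i + 1)) F q)
    (hcomm : ∀ i j, i + 2 ≤ j → j + 2 ≤ N → ∀ x ∈ A i, ∀ y ∈ A j, x * y = y * x) :
    ∃ f : SU N F q →* G, (∀ i, i + 2 ≤ N → A i ≤ f.range) ∧ ∀ i, i + 3 ≤ N → V i ≤ f.range := by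
  obtain ⟨U⟩ := UF.of_card (F := F) hF
  obtain ⟨c, h1, h2⟩ := exists_charts_of U (U.aut_torus hF hq) A V (N := N) (fun i hi => U.exists_chart (hV i hi))
    (fun i hi => hcomm i (i + 2) le_rfl (by omega)) N
  have hc : ∀ i, i + 3 ≤ N → IsChart (c i) (A i) (A (i + 1)) (V i) := fun i hi => h1 i (by omega) hi
  let φ : ℕ → (SU 2 F q →* G) := fun l =>
    if l + 3 ≤ N then (c l).comp (embSU 0 (by norm_num) U) else (c (l - 1)).comp (embSU 1 (by norm_num) U)
  have hφ : ∀ l, l + 2 ≤ N → (φ l).range = A l := by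
    intro l hl
    by_cases h : l + 3 ≤ N
    · simp only [φ, if_pos h]; exact (hc l h).range_left U
    · simp only [φ, if_neg h]
      have := (hc (l - 1) (by omega)).range_right U
      rwa [show l - 1 + 1 = l by omega] at this
  let D : Dat U N G :=
    { φ := φ
      ψ := c
      h0 := fun l h a => by simp [φ, h]
      h1 := fun l h a => by
        by_cases h4 : l + 1 + 3 ≤ N
        · simp only [φ, if_pos h4, MonoidHom.comp_apply]; exact (h2 l (by omega) (by omega) a).symm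
        · simp [φ, h4]
      hcomm := fun i j hij hj a b => hcomm i j hij hj _ (by rw [← hφ i (by omega)]; exact ⟨a, rfl⟩) _
        (by rw [← hφ j hj]; exact ⟨b, rfl⟩) }
  obtain ⟨f, hf, hf'⟩ := D.exists_hom (U.params hF hq) (by omega)
  refine ⟨f, fun i hi => ?_, fun i hi => ?_⟩
  · rw [← hφ i hi]
    rintro _ ⟨a, rfl⟩
    exact ⟨_, hf i hi a⟩
  · rw [← (hc i hi).range]
    rintro _ ⟨a, rfl⟩
    exact ⟨_, hf' i hi a⟩

/-- Weak Phan systems, indexed as in the recognition statements. -/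
theorem weak_phan_fin [Fintype F] (hF : Fintype.card F = q ^ 2) (hq : 3 < q) {n : ℕ} (hn : 3 ≤ n)
    (U : Fin n → Subgroup G) (V : Fin n → Fin n → Subgroup G)
    (h1 : ∀ i j : Fin n, (i : ℕ) + 2 ≤ j → ∀ x ∈ U i, ∀ y ∈ U j, x * y = y * x)
    (h2 : ∀ i j : Fin n, (i : ℕ) + 1 = j → Cfsg.IsStandardUnitaryPair (V i j) (U i) (U j) F q)
    (hgen : (⨆ i, U i) ⊔ (⨆ (i : Fin n) (j : Fin n) (_ : (i : ℕ) + 1 = j), V i j) = ⊤) :
    ∃ f : ↥(Cfsg.SU (n + 1) F q) →* G, Function.Surjective f := by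
  let A : ℕ → Subgroup G := fun l => if h : l < n then U ⟨l, h⟩ else ⊥
  let W : ℕ → Subgroup G := fun l => if h : l + 1 < n then V ⟨l, by omega⟩ ⟨l + 1, h⟩ else ⊥
  obtain ⟨f, hA, hW⟩ := weak_phan (G := G) hF hq (N := n + 1) (by omega) A W
    (fun i hi => by
      simp only [A, W, dif_pos (show i < n by omega), dif_pos (show i + 1 < n by omega)]
      exact h2 _ _ rfl)
    (fun i j hij hj => by
      simp only [A, dif_pos (show i < n by omega), dif_pos (show j < n by omega)]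
      exact h1 _ _ hij)
  refine ⟨f, MonoidHom.range_eq_top.1 (top_le_iff.1 (hgen.ge.trans (sup_le (iSup_le fun i => ?_)
    (iSup_le fun i => iSup_le fun j => iSup_le fun h => ?_))))⟩
  · have := hA i (by omega)
    simpa [A, i.isLt] using this
  · have hlt : (i : ℕ) + 1 < n := h ▸ j.isLt
    have := hW i (by omega)
    simp only [W, dif_pos hlt] at this
    have hj : (⟨(i : ℕ) + 1, hlt⟩ : Fin n) = j := Fin.ext h
    rwa [hj] at this

end CfsgLib.Chev.CT.Phan
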