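/-
Subgroups of `SU 3` isomorphic to `SU 2` are stabilisers of unit vectors.
-/
import Cfsg.Agent.Lib.Chev.CT.Phan.Weak

set_option autoImplicit false

namespace CfsgLib.Chev.CT.Phan

open Matrix Cfsg
open scoped MatrixGroups

universe u v

variable {F : Type u} [Field F] {q N : ℕ}

/-- The stabiliser of a vector. -/
def Fx (F : Type u) [Field F] (q N : ℕ) (x : Fin N → F) : Subgroup (SU N F q) where
  carrier := {g | act g x = x}
  one_mem' := act_one _
  mul_mem' := fun {g h} (hg : act g x = x) (hh : act h x = x) => show act (g * h) x = x by rw [act_mul, hh, hg]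
  inv_mem' := fun {_} (hg : act _ x = x) => act_inv_eq hg

theorem mem_Fx {x : Fin N → F} {g : SU N F q} : g ∈ Fx F q N x ↔ act g x = x := Iff.rfl

theorem FB02_eq : FB F q 3 0 2 = Fx F q 3 (ev F 3 2) := by
  ext g
  constructor
  · exact fun h => h 2 (by norm_num) (Or.inr le_rfl)
  · intro h k hk hk'
    obtain rfl : k = 2 := by omega
    exact h

theorem FB13_eq : FB F q 3 1 3 = Fx F q 3 (ev F 3 0) := by
  ext g
  constructor
  · exact fun h => h 0 (by norm_num) (Or.inl (by norm_num))
  · intro h k hk hk'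
    obtain rfl : k = 0 := by omega
    exact h

theorem mem_Fx_conj {x : Fin N → F} {g y : SU N F q} :
    y ∈ Fx F q N (act g x) ↔ g⁻¹ * y * g ∈ Fx F q N x := by
  simp only [mem_Fx, act_mul]
  constructor
  · intro h; rw [h, act_inv_act]
  · intro h
    have := congrArg (act g) h
    rwa [act_act_inv] at this

theorem map_conj_Fx {x : Fin N → F} (g : SU N F q) :
    (Fx F q N x).map (MulAut.conj g).toMonoidHom = Fx F q N (act g x) := by
  ext y
  rw [mem_Fx_conj, Subgroup.mem_map]
  constructor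
  · rintro ⟨z, hz, rfl⟩
    simpa [MulAut.conj_apply, mul_assoc] using hz
  · exact fun h => ⟨_, h, by simp [MulAut.conj_apply, mul_assoc]⟩

namespace UF

variable (U : UF F q)
include U

/-- Transitivity on unit vectors in three variables. -/
theorem exists_move (hα : ∃ α, U.nm α ≠ 0 ∧ U.nm α ≠ 1) {x : Fin 3 → F} (hx : hf q x x = 1) :
    ∃ g : SU 3 F q, act g (ev F 3 2) = x := by
  let D : Dat U 3 PUnit.{1} :=
    { φ := fun _ => 1, ψ := fun _ => 1
      h0 := fun _ _ _ => rfl
      h1 := fun _ _ _ => rfl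
      hcomm := fun _ _ _ _ _ _ => rfl }
  obtain ⟨z, -, hz⟩ := D.trans3 hα (l := 0) le_rfl (v := x) (fun k hk => by have := k.isLt; omega) hx
  have h01 : U.nm (0 : F) + U.nm 1 = 1 := by rw [U.nm_zero, U.nm_one, zero_add]
  have e0 : act (embSU (N := 3) 0 (by norm_num) U (U.su2 0 1 h01)) (ev F 3 0) = ev F 3 1 := by
    rw [U.su2_act_ev0]; simp
  have e1 : act (embSU (N := 3) 1 (by norm_num) U (U.su2 0 1 h01)) (ev F 3 1) = ev F 3 2 := by
    rw [U.su2_act_ev0]; simp
  exact ⟨z.1 * (embSU (N := 3) 1 (by norm_num) U (U.su2 0 1 h01) *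
    embSU (N := 3) 0 (by norm_num) U (U.su2 0 1 h01))⁻¹, by
      rw [act_mul, act_inv_eq (show act _ (ev F 3 0) = ev F 3 2 by rw [act_mul, e0, e1]), hz]⟩

/-- Two orthogonal unit vectors can be moved to basis vectors. -/
theorem exists_move_pair (hα : ∃ α, U.nm α ≠ 0 ∧ U.nm α ≠ 1) {x y : Fin 3 → F} (hx : hf q x x = 1)
    (hy : hf q y y = 1) (hxy : hf q y x = 0) :
    ∃ g : SU 3 F q, act g (ev F 3 2) = x ∧ act g (ev F 3 0) = y := by
  obtain ⟨g, hg⟩ := U.exists_move hα hx
  set y' := act g⁻¹ y with hy'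
  have h2 : y' ⟨2, by norm_num⟩ = 0 := by
    rw [← U.ev_r y' (by norm_num : 2 < 3), hy', ← hf_act g, act_act_inv, hg]; exact hxy
  have e : y' = y' ⟨0, by norm_num⟩ • ev F 3 0 + y' ⟨1, by norm_num⟩ • ev F 3 (0 + 1) := by
    funext r
    fin_cases r
    · simp [ev]
    · simp [ev]
    · simpa [ev] using h2
  have hn : U.nm (y' ⟨0, by norm_num⟩) + U.nm (y' ⟨1, by norm_num⟩) = 1 := by
    have h1 : hf q y' y' = 1 := by rw [hy', hf_act]; exact hy
    rw [← h1]
    conv_rhs => rw [e]
    rw [U.hf_comb, U.ev_self (by norm_num), U.ev_self (by norm_num),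
      U.ev_ne (by norm_num) (by norm_num) (by norm_num), U.ev_ne (by norm_num) (by norm_num) (by norm_num)]
    simp only [UF.nm]; ring
  refine ⟨g * embSU (N := 3) 0 (by norm_num) U (U.su2 _ _ hn), ?_, ?_⟩
  · rw [act_mul, embSU_mem (N := 3) (m := 2) 0 (by norm_num) U _ 2 (by norm_num) (by omega), hg]
  · rw [act_mul, U.su2_act_ev0, ← e, hy', act_act_inv]

/-- Isotropic orthogonal vectors in three variables are proportional. -/
theorem iso_orth {a b : Fin 3 → F} (ha : a ≠ 0) (haa : hf q a a = 0) (hbb : hf q b b = 0)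
    (hba : hf q b a = 0) : ∃ c : F, b = c • a := by
  obtain ⟨j, hj⟩ : ∃ j, a j ≠ 0 := Function.ne_iff.1 ha
  refine ⟨b j / a j, sub_eq_zero.1 ?_⟩
  set d := b - (b j / a j) • a with hd
  have hdj : d j = 0 := by simp [hd, hj]
  have hab : hf q a b = 0 := U.swap_eq_zero hba
  have hdd : hf q d d = 0 := by
    simp only [hd, U.sub_l, U.sub_r, U.smul_l, U.smul_r, haa, hbb, hba, hab]; ring
  have hda : hf q d a = 0 := by
    simp only [hd, U.sub_l, U.smul_l, haa, hba]; ring
  simp only [U.hf_eq, Fin.sum_univ_three] at haa hdd hda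
  have key : ∀ y z p r : F, U.nm y + U.nm z = 0 → y * U.σ p + z * U.σ r = 0 → U.nm p + U.nm r ≠ 0 →
      y = 0 ∧ z = 0 := by
    intro y z p r h1 h2 h3
    have hy : y = 0 := by
      by_contra hy
      apply h3
      have : U.nm (y * U.σ p) = U.nm (z * U.σ r) := by
        rw [eq_neg_of_add_eq_zero_left h2, U.nm_neg]
      rw [U.nm_mul, U.nm_mul, U.nm_sigma, U.nm_sigma] at this
      have hny : U.nm y ≠ 0 := fun e => hy (U.nm_eq_zero.1 e)
      exact (mul_eq_zero.1 (show U.nm y * (U.nm p + U.nm r) = 0 by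
        linear_combination this + (U.nm r) * h1)).resolve_left hny
    exact ⟨hy, U.nm_eq_zero.1 (by rw [hy, U.nm_zero, zero_add] at h1; exact h1)⟩
  have hnj : U.nm (a j) ≠ 0 := fun e => hj (U.nm_eq_zero.1 e)
  funext i
  fin_cases j
  all_goals simp at hdj hnj
  all_goals simp only [hdj, zero_mul, zero_add, add_zero] at hdd hda
  · obtain ⟨h1, h2⟩ := key (d 1) (d 2) (a 1) (a 2) hdd hda
      (fun e => hnj (by simp only [UF.nm] at e ⊢; linear_combination haa - e))
    fin_cases i <;> simp [hdj, h1, h2]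
  · obtain ⟨h1, h2⟩ := key (d 0) (d 2) (a 0) (a 2) hdd hda
      (fun e => hnj (by simp only [UF.nm] at e ⊢; linear_combination haa - e))
    fin_cases i <;> simp [hdj, h1, h2]
  · obtain ⟨h1, h2⟩ := key (d 0) (d 1) (a 0) (a 1) hdd hda
      (fun e => hnj (by simp only [UF.nm] at e ⊢; linear_combination haa - e))
    fin_cases i <;> simp [hdj, h1, h2]

/-- A unit vector orthogonal to a hyperbolic pair. -/
theorem exists_unit_perp {a b : Fin 3 → F} (haa : hf q a a = 0) (hab : hf q a b ≠ 0) :
    ∃ x, hf q x x = 1 ∧ hf q x a = 0 ∧ hf q x b = 0 := by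
  set w : Fin 3 → F := ![U.σ (a 1 * b 2 - a 2 * b 1), U.σ (a 2 * b 0 - a 0 * b 2),
    U.σ (a 0 * b 1 - a 1 * b 0)] with hw
  have hwa : hf q w a = 0 := by
    simp [hw, U.hf_eq, Fin.sum_univ_three]; ring
  have hwb : hf q w b = 0 := by
    simp [hw, U.hf_eq, Fin.sum_univ_three]; ring
  have ha : a ≠ 0 := fun e => hab (by rw [e, U.zero_l])
  suffices hf q w w ≠ 0 by
    obtain ⟨c, -, hc⟩ := U.exists_unit_smul this
    exact ⟨c • w, hc, by rw [U.smul_l, hwa, mul_zero], by rw [U.smul_l, hwb, mul_zero]⟩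
  intro hww
  obtain ⟨c, hc⟩ := U.iso_orth ha haa hww hwa
  have hc0 : c = 0 := by
    rw [hc, U.smul_l] at hwb
    exact (mul_eq_zero.1 hwb).resolve_right hab
  rw [hc0, zero_smul] at hc
  have h0 := congrFun hc 0
  have h1 := congrFun hc 1
  have h2 := congrFun hc 2
  simp [hw, sub_eq_zero] at h0 h1 h2
  have h0' : a 1 * b 2 = a 2 * b 1 := U.σ.injective (by rw [map_mul, map_mul]; exact h0)
  have h1' : a 2 * b 0 = a 0 * b 2 := U.σ.injective (by rw [map_mul, map_mul]; exact h1)
  have h2' : a 0 * b 1 = a 1 * b 0 := U.σ.injective (by rw [map_mul, map_mul]; exact h2)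
  obtain ⟨j, hj⟩ : ∃ j, a j ≠ 0 := Function.ne_iff.1 ha
  have cr : ∀ i k : Fin 3, a i * b k = a k * b i := by
    intro i k
    fin_cases i <;> fin_cases k <;> first
      | rfl
      | exact h0'
      | exact h0'.symm
      | exact h1'
      | exact h1'.symm
      | exact h2'
      | exact h2'.symm
  have hb : b = (b j / a j) • a := by
    funext i
    rw [Pi.smul_apply, smul_eq_mul, div_mul_eq_mul_div, eq_div_iff hj]
    linear_combination cr j i
  apply hab
  rw [hb, U.smul_r, haa, mul_zero]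

/-- An involution in even characteristic is a transvection. -/
theorem exists_centre (h2 : (2 : F) = 0) {x : SU 3 F q} (hx : x * x = 1) (hx1 : x ≠ 1) :
    ∃ a : Fin 3 → F, a ≠ 0 ∧ hf q a a = 0 ∧ (∀ v, ∃ c : F, act x v = v + c • a) ∧
      ∀ v, hf q v a = 0 → act x v = v := by
  set T : (Fin 3 → F) → (Fin 3 → F) := fun v => act x v - v with hT
  have hxx : ∀ v, act x (act x v) = v := fun v => by rw [← act_mul, hx, act_one]
  have orth : ∀ v w, hf q (T v) (T w) = 0 := fun v w => by
    have e : hf q v (act x w) = hf q (act x v) w := by rw [← hf_act x, hxx]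
    simp only [hT, U.sub_l, U.sub_r, hf_act, e]
    linear_combination (hf q v w - hf q (act x v) w) * h2
  obtain ⟨v₀, hv₀⟩ : ∃ v, T v ≠ 0 := by
    by_contra h
    push Not at h
    exact hx1 (su_ext fun k _ => by rw [act_one]; exact sub_eq_zero.1 (h _))
  have hprop : ∀ v, ∃ c : F, T v = c • T v₀ := fun v => U.iso_orth hv₀ (orth _ _) (orth _ _) (orth _ _)
  refine ⟨T v₀, hv₀, orth _ _, fun v => ?_, fun v hv => ?_⟩
  · obtain ⟨c, hc⟩ := hprop v
    exact ⟨c, by rw [← hc]; simp [hT]⟩
  · apply sub_eq_zero.1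
    funext k
    have e : hf q (T v) (ev F 3 (k : ℕ)) = hf q v (T (ev F 3 (k : ℕ))) := by
      simp only [hT, U.sub_l, U.sub_r]
      congr 1
      rw [← hf_act x, hxx]
    obtain ⟨c, hc⟩ := hprop (ev F 3 (k : ℕ))
    rw [hc, U.smul_r, hv, mul_zero, U.ev_r _ k.isLt] at e
    simpa [hT] using e

/-- Commuting transvections have the same centre. -/
theorem centre_unique (h2 : (2 : F) = 0) {x y : SU 3 F q} (hx : x * x = 1) (hx1 : x ≠ 1)
    (hy : y * y = 1) (hxy : x * y = y * x) {a : Fin 3 → F} (ha : a ≠ 0) (haa : hf q a a = 0)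
    (hxa : ∀ v, ∃ c : F, act x v = v + c • a) :
    ∀ v, hf q v a = 0 → act y v = v := by
  by_cases hy1 : y = 1
  · intro v _; rw [hy1, act_one]
  obtain ⟨b, hb, hbb, hyb, hyfix⟩ := U.exists_centre h2 hy hy1
  suffices ∃ c : F, c ≠ 0 ∧ b = c • a by
    obtain ⟨c, -, rfl⟩ := this
    intro v hv
    exact hyfix v (by rw [U.smul_r, hv, mul_zero])
  suffices ∃ c : F, b = c • a by
    obtain ⟨c, hc⟩ := this
    exact ⟨c, fun e => hb (by rw [hc, e, zero_smul]), hc⟩
  obtain ⟨a', ha', -, hxa', hxfix⟩ := U.exists_centre h2 hx hx1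
  obtain ⟨v₀, hv₀⟩ : ∃ v, act y v ≠ v := by
    by_contra h
    push Not at h
    exact hy1 (su_ext fun k _ => by rw [act_one]; exact h _)
  obtain ⟨c, hc⟩ := hyb v₀
  have hc0 : c ≠ 0 := fun e => hv₀ (by rw [hc, e, zero_smul, add_zero])
  obtain ⟨d, hd⟩ := hxa b
  by_cases hd0 : d = 0
  · rw [hd0, zero_smul, add_zero] at hd
    refine U.iso_orth ha haa hbb ?_
    obtain ⟨w, hw⟩ : ∃ v, act x v ≠ v := by
      by_contra h
      push Not at h
      exact hx1 (su_ext fun k _ => by rw [act_one]; exact h _)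
    obtain ⟨e, he⟩ := hxa w
    have he0 : e ≠ 0 := fun e0 => hw (by rw [he, e0, zero_smul, add_zero])
    have h := hf_act x w b
    rw [he, hd, U.add_l, U.smul_l] at h
    exact U.swap_eq_zero ((mul_eq_zero.1 (by linear_combination h)).resolve_left he0)
  · obtain ⟨e, he⟩ := hyb (act x v₀)
    have h := congrArg (fun g => act g v₀) hxy
    simp only [act_mul] at h
    rw [hc, act_add, act_smul, hd, he] at h
    refine ⟨c * d / (e - c), ?_⟩
    have h' : (e - c) • b = (c * d) • a := by linear_combination (norm := module) -h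
    by_cases hec : e - c = 0
    · rw [hec, zero_smul] at h'
      exact absurd ((smul_eq_zero.1 h'.symm).resolve_right ha) (mul_ne_zero hc0 hd0)
    · rw [div_eq_inv_mul, mul_smul, ← h', smul_smul, inv_mul_cancel₀ hec, one_smul]

end UF

namespace UF

variable (U : UF F q) [Fintype F]
include U

theorem hom_SU2_comm_eq_one (hF : Fintype.card F = q ^ 2) (hq : 3 < q) {M : Type*} [CommGroup M]
    (f : SU 2 F q →* M) (a : SU 2 F q) : f a = 1 := by
  classical
  obtain ⟨P, e, -⟩ := U.exists_equiv_SL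
  haveI : Fintype U.fixF := Fintype.ofFinite _
  obtain ⟨s, rfl⟩ := e.surjective a
  have h := Abelianization.commutator_subset_ker (f.comp e.toMonoidHom)
  have hs : s ∈ commutator (SpecialLinearGroup (Fin 2) U.fixF) := by
    rw [CfsgLib.Classical.SmallIso.commutator_sl_two (U.card_fixF hF hq)]; exact Subgroup.mem_top s
  exact h hs

/-- A copy of `SU 2` in `SU 3` fixes a unit vector, odd characteristic. -/
theorem fixes_odd (hF : Fintype.card F = q ^ 2) (hq : 3 < q) (h2 : (2 : F) ≠ 0)
    (ι : SU 2 F q →* SU 3 F q) (hι : Function.Injective ι) :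
    ∃ x, hf q x x = 1 ∧ ∀ a, act (ι a) x = x := by
  classical
  have hm : U.nm (-1 : F) + U.nm 0 = 1 := by rw [U.nm_neg, U.nm_one, U.nm_zero, add_zero]
  set n : SU 2 F q := U.su2 (-1) 0 hm with hn
  have hnmat : n.1.1 = -(1 : Matrix (Fin 2) (Fin 2) F) := by
    ext i j; fin_cases i <;> fin_cases j <;> simp [hn, su2_coe]
  have hnc : ∀ a, n * a = a * n := fun a => Subtype.ext (Subtype.ext (by
    show n.1.1 * a.1.1 = a.1.1 * n.1.1
    rw [hnmat]; simp))
  have hnn : n * n = 1 := Subtype.ext (Subtype.ext (by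
    show n.1.1 * n.1.1 = 1
    rw [hnmat]; simp))
  have hn1 : n ≠ 1 := fun e => h2 (by
    have := congrArg (fun A : SU 2 F q => A.1.1 0 0) e
    simp [hn, su2_coe] at this
    linear_combination -this)
  set z := ι n with hz
  have hzz : ∀ v, act z (act z v) = v := fun v => by rw [← act_mul, hz, ← map_mul, hnn, map_one, act_one]
  obtain ⟨v, hv⟩ : ∃ v, hf q (v + act z v) (v + act z v) ≠ 0 := by
    by_contra h
    push Not at h
    have pol : ∀ v w, hf q (v + act z v) (w + act z w) = 0 := by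
      intro v w
      obtain ⟨l, hl⟩ := U.exists_moved
      have key : ∀ t : F, U.σ t * hf q (v + act z v) (w + act z w) +
          t * hf q (w + act z w) (v + act z v) = 0 := fun t => by
        have := h (v + t • w)
        rw [act_add, act_smul, show v + t • w + (act z v + t • act z w) =
          (v + act z v) + t • (w + act z w) by module] at this
        simp only [U.add_l (v + act z v), U.add_r _ (v + act z v), U.smul_l t, U.smul_r t, h v, h w] at this
        linear_combination this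
      have k1 := key 1
      have k2 := key l
      rw [map_one, one_mul, one_mul] at k1
      exact (mul_eq_zero.1 (show (U.σ l - l) * hf q (v + act z v) (w + act z w) = 0 by
        linear_combination k2 - l * k1)).resolve_left (sub_ne_zero.2 hl)
    have hneg : ∀ v, act z v = -v := fun v => by
      refine eq_neg_of_add_eq_zero_right (funext fun k => ?_)
      have hh := pol v (ev F 3 (k : ℕ))
      have e : hf q (v + act z v) (act z (ev F 3 (k : ℕ))) = hf q (v + act z v) (ev F 3 (k : ℕ)) := by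
        rw [← hf_act z, hzz, act_add, hzz, add_comm]
      rw [U.add_r, e, U.ev_r _ k.isLt] at hh
      exact (mul_eq_zero.1 (show (2 : F) * (v + act z v) k = 0 by linear_combination hh)).resolve_left h2
    have hmat : z.1.1 = -(1 : Matrix (Fin 3) (Fin 3) F) := by
      refine Matrix.ext_of_mulVec_single fun k => ?_
      show act z (Pi.single k 1) = _
      rw [hneg, neg_mulVec, one_mulVec]
    have hd : z.1.1.det = 1 := z.1.2
    rw [hmat, Matrix.det_neg, Matrix.det_one, Fintype.card_fin] at hd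
    exact h2 (by linear_combination -hd)
  obtain ⟨c, -, hc⟩ := U.exists_unit_smul hv
  set x := c • (v + act z v) with hx
  have hzx : act z x = x := by rw [hx, act_smul, act_add, hzz, add_comm]
  refine ⟨x, hc, fun a => ?_⟩
  obtain ⟨g, hg⟩ := U.exists_move (U.params hF hq).exists_alpha hc
  have hz' : g⁻¹ * z * g ∈ FB F q 3 0 2 := by
    rw [FB02_eq, ← mem_Fx_conj, hg]; exact hzx
  obtain ⟨A, hA⟩ := mem_range_embSU (N := 3) (m := 2) 0 (by norm_num) U hz'
  obtain ⟨p, r, hpr, rfl⟩ := U.su2_surj A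
  have hz2 : z * z = 1 := by rw [hz, ← map_mul, hnn, map_one]
  have hAA : U.su2 p r hpr * U.su2 p r hpr = 1 := embSU_injective (N := 3) 0 (by norm_num) U (by
    rw [map_mul, hA, map_one, show g⁻¹ * z * g * (g⁻¹ * z * g) = g⁻¹ * (z * z) * g by group, hz2]
    group)
  have hA1 : U.su2 p r hpr ≠ 1 := fun e => hn1 (hι (by
    rw [e, map_one] at hA
    rw [map_one]
    calc ι n = g * (g⁻¹ * z * g) * g⁻¹ := by rw [hz]; group
      _ = 1 := by rw [← hA]; group))
  have hpr' : p = -1 ∧ r = 0 := by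
    have hinv := eq_inv_of_mul_eq_one_left hAA
    have e0 := congrArg (fun A : SU 2 F q => A.1.1 0 0) hinv
    have e1 := congrArg (fun A : SU 2 F q => A.1.1 1 0) hinv
    rw [show ((U.su2 p r hpr)⁻¹ : SU 2 F q).1.1 = (U.su2 p r hpr).1.1.adjugate from
      Matrix.SpecialLinearGroup.coe_inv _] at e0 e1
    simp [su2_coe, Matrix.adjugate_fin_two] at e0 e1
    have hr : r = 0 := (mul_eq_zero.1 (show (2 : F) * r = 0 by linear_combination e1)).resolve_left h2
    subst hr
    rw [U.nm_zero, add_zero, UF.nm, ← e0] at hpr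
    rcases mul_self_eq_one_iff.1 hpr with hp | hp
    · exact absurd (Subtype.ext (Subtype.ext (by
        ext i j; fin_cases i <;> fin_cases j <;> simp [su2_coe, hp]))) hA1
    · exact ⟨hp, rfl⟩
  obtain ⟨rfl, rfl⟩ := hpr'
  set z' := g⁻¹ * z * g
  set y : SU 2 F q → SU 3 F q := fun a => g⁻¹ * ι a * g with hy
  have hline : ∀ a, ∃ c : F, act (y a) (ev F 3 2) = c • ev F 3 2 := by
    intro a
    set w := act (y a) (ev F 3 2) with hw
    have hcomm : z' * y a = y a * z' := by
      simp only [z', hy]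
      calc g⁻¹ * z * g * (g⁻¹ * ι a * g) = g⁻¹ * (z * ι a) * g := by group
        _ = g⁻¹ * (ι a * z) * g := by rw [hz, ← map_mul, hnc, map_mul]
        _ = _ := by group
    have hfix : act z' (ev F 3 2) = ev F 3 2 := hz' 2 (by norm_num) (by omega)
    have hwfix : act z' w = w := by rw [hw, ← act_mul, hcomm, act_mul, hfix]
    refine ⟨w ⟨2, by norm_num⟩, ?_⟩
    have h0 := hf_act z' w (ev F 3 0)
    have h1 := hf_act z' w (ev F 3 1)
    rw [hwfix, ← hA, U.su2_act_ev0] at h0
    rw [hwfix, ← hA, show ev F 3 1 = ev F 3 (0 + 1) from rfl, U.su2_act_ev1] at h1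
    simp only [map_neg, map_zero, map_one, neg_zero, zero_smul, add_zero, zero_add, U.smul_r,
      neg_mul, one_mul, U.ev_r w (show 0 < 3 by norm_num), U.ev_r w (show 0 + 1 < 3 by norm_num)] at h0 h1
    have w0 := (mul_eq_zero.1 (show (2 : F) * w ⟨0, by norm_num⟩ = 0 by linear_combination -h0)).resolve_left h2
    have w1 := (mul_eq_zero.1 (show (2 : F) * w ⟨1, by norm_num⟩ = 0 by linear_combination -h1)).resolve_left h2
    funext r
    fin_cases r
    · simpa [ev] using w0
    · simpa [ev] using w1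
    · simp [ev]
  choose χ hχ using hline
  have hev : ev F 3 2 ≠ (0 : Fin 3 → F) := fun e => by
    simpa [ev] using congrFun e ⟨2, by norm_num⟩
  have hne : ∀ a, χ a ≠ 0 := fun a e => hev (by
    have := hχ a
    rw [e, zero_smul] at this
    rw [← act_inv_eq this, act_zero])
  let f : SU 2 F q →* Fˣ := MonoidHom.mk' (fun a => Units.mk0 (χ a) (hne a)) fun a b => Units.ext (by
    show χ (a * b) = χ a * χ b
    have : χ (a * b) • ev F 3 2 = (χ a * χ b) • ev F 3 2 := by
      rw [← hχ, show y (a * b) = y a * y b by simp [hy, map_mul, mul_assoc], act_mul, hχ, act_smul, hχ,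
        smul_smul, mul_comm]
    exact (smul_left_injective F hev) this)
  have h1 : χ a = 1 := congrArg Units.val (U.hom_SU2_comm_eq_one hF hq f a)
  have := hχ a
  rw [h1, one_smul] at this
  rw [← hg]
  exact mem_Fx_conj.2 this

/-- A copy of `SU 2` in `SU 3` fixes a unit vector, even characteristic. -/
theorem fixes_even (hF : Fintype.card F = q ^ 2) (hq : 3 < q) (h2 : (2 : F) = 0)
    (ι : SU 2 F q →* SU 3 F q) (hι : Function.Injective ι) :
    ∃ x, hf q x x = 1 ∧ ∀ a, act (ι a) x = x := by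
  classical
  obtain ⟨P, e, -⟩ := U.exists_equiv_SL
  haveI : Fintype U.fixF := Fintype.ofFinite _
  have h2K : (2 : U.fixF) = 0 := U.fixF.subtype.injective (by rw [map_ofNat, map_zero]; exact h2)
  set j : SL(2, U.fixF) →* SU 3 F q := ι.comp e.toMonoidHom with hj
  have hji : Function.Injective j := hι.comp e.injective
  let T : ∀ (a b : Fin 2), a ≠ b → U.fixF → SU 3 F q := fun a b h c =>
    j (SpecialLinearGroup.transvection h c)
  have Tmul : ∀ (a b : Fin 2) (h : a ≠ b) (c d : U.fixF),
      (SpecialLinearGroup.transvection h c : SL(2, U.fixF)) * SpecialLinearGroup.transvection h d =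
        SpecialLinearGroup.transvection h (c + d) := fun a b h c d => by
    refine Subtype.ext ?_
    show (SpecialLinearGroup.transvection h c : SL(2, U.fixF)).1 *
      (SpecialLinearGroup.transvection h d : SL(2, U.fixF)).1 = _
    simp only [SpecialLinearGroup.transvection_coe]
    exact Matrix.transvection_mul_transvection_same (i := a) (j := b) h c d
  have T0 : ∀ (a b : Fin 2) (h : a ≠ b), (SpecialLinearGroup.transvection h (0 : U.fixF) : SL(2, U.fixF)) = 1 :=
    fun a b h => Subtype.ext (by rw [SpecialLinearGroup.transvection_coe]; simp)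
  have Tsq : ∀ (a b : Fin 2) (h : a ≠ b) (c : U.fixF), T a b h c * T a b h c = 1 := fun a b h c => by
    simp only [T, ← map_mul, Tmul]
    rw [show c + c = 0 by linear_combination c * h2K, T0, map_one]
  have Tcomm : ∀ (a b : Fin 2) (h : a ≠ b) (c d : U.fixF), T a b h c * T a b h d = T a b h d * T a b h c :=
    fun a b h c d => by simp only [T, ← map_mul, Tmul, add_comm]
  have Tne : ∀ (a b : Fin 2) (h : a ≠ b), T a b h 1 ≠ 1 := fun a b h e1 => by
    have := congrArg (fun M : SL(2, U.fixF) => M.1 a b) (hji (e1.trans (map_one j).symm))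
    rw [SpecialLinearGroup.transvection_coe] at this
    simp [h] at this
  have h01 : (0 : Fin 2) ≠ 1 := by decide
  have h10 : (1 : Fin 2) ≠ 0 := by decide
  obtain ⟨a, ha, haa, hac, hafix⟩ := U.exists_centre h2 (Tsq 0 1 h01 1) (Tne 0 1 h01)
  obtain ⟨b, hb, hbb, hbc, hbfix⟩ := U.exists_centre h2 (Tsq 1 0 h10 1) (Tne 1 0 h10)
  have hab : hf q a b ≠ 0 := by
    intro hab
    obtain ⟨c, rfl⟩ := U.iso_orth ha haa hbb (U.swap_eq_zero hab)
    have hc : c ≠ 0 := fun e => hb (by rw [e, zero_smul])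
    have hxy : ∀ v, act (T 0 1 h01 1) (act (T 1 0 h10 1) v) = act (T 1 0 h10 1) (act (T 0 1 h01 1) v) := by
      intro v
      obtain ⟨c₁, e₁⟩ := hac v
      obtain ⟨c₂, e₂⟩ := hbc v
      have a1 : act (T 0 1 h01 1) a = a := hafix a haa
      have a2 : act (T 1 0 h10 1) a = a := hbfix a (by rw [U.smul_r, haa, mul_zero])
      rw [e₁, e₂, act_add, act_smul, act_smul, a1, act_add, act_smul, a2, e₁, e₂]
      abel
    have := hji (a₁ := SpecialLinearGroup.transvection h01 1 * SpecialLinearGroup.transvection h10 1)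
      (a₂ := SpecialLinearGroup.transvection h10 1 * SpecialLinearGroup.transvection h01 1)
      (su_ext fun k _ => by rw [map_mul, map_mul, act_mul, act_mul]; exact hxy _)
    have h00 := congrArg (fun M : SL(2, U.fixF) => M.1 0 0) this
    simp [SpecialLinearGroup.transvection_coe, Matrix.transvection, Matrix.mul_apply, Fin.sum_univ_two] at h00
  obtain ⟨x, hx, hxa, hxb⟩ := U.exists_unit_perp haa hab
  refine ⟨x, hx, fun s => ?_⟩
  obtain ⟨M, rfl⟩ := e.surjective s
  have key : (Fx F q 3 x).comap j = ⊤ := CfsgLib.Classical.SL_le_of_transvections _ fun i k hik c => by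
    show act (T i k hik c) x = x
    fin_cases i <;> fin_cases k
    · exact absurd rfl hik
    · exact U.centre_unique h2 (Tsq 0 1 h01 1) (Tne 0 1 h01) (Tsq 0 1 h01 c) (Tcomm _ _ _ _ _) ha haa hac x hxa
    · exact U.centre_unique h2 (Tsq 1 0 h10 1) (Tne 1 0 h10) (Tsq 1 0 h10 c) (Tcomm _ _ _ _ _) hb hbb hbc x hxb
    · exact absurd rfl hik
  exact show M ∈ (Fx F q 3 x).comap j from key ▸ Subgroup.mem_top M

/-- A copy of `SU 2` in `SU 3` is the stabiliser of a unit vector. -/
theorem exists_Fx (hF : Fintype.card F = q ^ 2) (hq : 3 < q)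
    (ι : SU 2 F q →* SU 3 F q) (hι : Function.Injective ι) :
    ∃ x, hf q x x = 1 ∧ ι.range = Fx F q 3 x := by
  obtain ⟨x, hx, hfix⟩ : ∃ x, hf q x x = 1 ∧ ∀ a, act (ι a) x = x := by
    by_cases h2 : (2 : F) = 0
    · exact U.fixes_even hF hq h2 ι hι
    · exact U.fixes_odd hF hq h2 ι hι
  refine ⟨x, hx, Subgroup.eq_of_le_of_card_ge (by rintro _ ⟨a, rfl⟩; exact hfix a) ?_⟩
  obtain ⟨g, hg⟩ := U.exists_move (U.params hF hq).exists_alpha hx
  rw [← hg, ← map_conj_Fx, ← FB02_eq, ← range_embSU (N := 3) (m := 2) 0 (by norm_num) U,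
    ← Nat.card_congr (((embSU (N := 3) 0 (by norm_num) U).range).equivMapOfInjective _
      (MulAut.conj g).injective).toEquiv,
    ← Nat.card_congr (MonoidHom.ofInjective (embSU_injective (F := F) (q := q) (N := 3) (m := 2) 0
      (by norm_num) U)).toEquiv,
    ← Nat.card_congr (MonoidHom.ofInjective hι).toEquiv]

/-- An element of order prime to the characteristic fixes only one line. -/
theorem fixed_line (hF : Fintype.card F = q ^ 2) {x : Fin 3 → F} {d : SU 3 F q}
    (hα : ∃ α, U.nm α ≠ 0 ∧ U.nm α ≠ 1) (hx : hf q x x = 1) (hd : act d x = x) (hord : orderOf d = q + 1)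
    {v : Fin 3 → F} (hv : act d v = v) : ∃ c : F, v = c • x := by
  classical
  obtain ⟨g, hg⟩ := U.exists_move hα hx
  have hd' : g⁻¹ * d * g ∈ FB F q 3 0 2 := by rw [FB02_eq, ← mem_Fx_conj, hg]; exact hd
  obtain ⟨A, hA⟩ := mem_range_embSU (N := 3) (m := 2) 0 (by norm_num) U hd'
  set v' := act g⁻¹ v with hv'
  have hfix : act (embSU (N := 3) 0 (by norm_num) U A) v' = v' := by
    rw [hA, hv', act_mul, act_mul, act_act_inv, hv]
  by_cases hz : v' ⟨0, by norm_num⟩ = 0 ∧ v' ⟨1, by norm_num⟩ = 0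
  · refine ⟨v' ⟨2, by norm_num⟩, ?_⟩
    rw [← hg, ← act_smul, show v' ⟨2, by norm_num⟩ • ev F 3 2 = v' by
      funext r
      fin_cases r
      · simpa [ev] using hz.1.symm
      · simpa [ev] using hz.2.symm
      · simp [ev], hv', act_act_inv]
  exfalso
  obtain ⟨p, _⟩ := CharP.exists F
  have hp : p.Prime := CharP.char_is_prime F p
  set M := A.1.1 with hM
  set w : Fin 2 → F := ![v' ⟨0, by norm_num⟩, v' ⟨1, by norm_num⟩] with hw
  have hww : (fun i : Fin 2 => v' (winEquiv (N := 3) 0 (by norm_num) (Sum.inl i))) = w := by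
    funext i; fin_cases i <;> simp [hw, winEquiv]
  have hMw : M *ᵥ w = w := by
    funext i
    have := congrFun hfix (winEquiv (N := 3) 0 (by norm_num) (Sum.inl i))
    rw [embSU_inl, hww] at this
    exact this.trans (congrFun hww i)
  have hw0 : w ≠ 0 := fun e => hz ⟨by simpa [hw] using congrFun e 0, by simpa [hw] using congrFun e 1⟩
  have hdet : M.det = 1 := A.1.2
  have hdet1 : (M - 1).det = 0 := Matrix.exists_mulVec_eq_zero_iff.1
    ⟨w, hw0, by rw [sub_mulVec, hMw, one_mulVec, sub_self]⟩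
  rw [Matrix.det_fin_two] at hdet hdet1
  simp at hdet1
  have hsq : (M - 1) * (M - 1) = 0 := by
    ext i j
    fin_cases i <;> fin_cases j <;> simp [Matrix.mul_apply, Fin.sum_univ_two]
    · linear_combination -(M 0 0) * hdet1 + (M 0 0 - 1) * hdet
    · linear_combination M 0 1 * (hdet - hdet1)
    · linear_combination M 1 0 * (hdet - hdet1)
    · linear_combination -(M 1 1) * hdet1 + (M 1 1 - 1) * hdet
  have hpow : ∀ k : ℕ, M ^ k = 1 + (k : F) • (M - 1) := by
    intro k
    induction k with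
    | zero => simp
    | succ k ih =>
      rw [pow_succ, ih, add_mul, one_mul, Matrix.smul_mul, Nat.cast_succ, add_smul, one_smul,
        show (M - 1) * M = (M - 1) by
          calc (M - 1) * M = (M - 1) * (M - 1) + (M - 1) := by noncomm_ring
            _ = M - 1 := by rw [hsq, zero_add]]
      abel
  have hpw : ∀ k : ℕ, (A ^ k).1.1 = M ^ k := by
    intro k
    induction k with
    | zero => rfl
    | succ k ih => rw [pow_succ, pow_succ, ← ih]; rfl
  have hAp : A ^ p = 1 := Subtype.ext (Subtype.ext (by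
    rw [hpw, hpow, CharP.cast_eq_zero F p, zero_smul, add_zero]
    rfl))
  have hdp : d ^ p = 1 := by
    have e : embSU (N := 3) 0 (by norm_num) U (A ^ p) = 1 := by rw [hAp, map_one]
    rw [map_pow, hA, show g⁻¹ * d * g = MulAut.conj g⁻¹ d by simp [MulAut.conj_apply], ← map_pow] at e
    exact (MulAut.conj g⁻¹).injective (e.trans (map_one _).symm)
  have hdvd : q + 1 ∣ p := hord ▸ orderOf_dvd_of_pow_eq_one hdp
  have hpq : p ∣ q := by
    obtain ⟨n, -, hn⟩ := FiniteField.card F p
    rw [hF] at hn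
    exact hp.dvd_of_dvd_pow (n := 2) (hn ▸ dvd_pow_self p n.pos.ne')
  have h1 := Nat.le_of_dvd hp.pos hdvd
  have h2 : p ≤ q := Nat.le_of_dvd (by
    rcases Nat.eq_zero_or_pos q with h | h
    · subst h; simp at hF
    · exact h) hpq
  omega

end UF

end CfsgLib.Chev.CT.Phan
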