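/-
Phan systems give weak Phan systems.
-/
import Cfsg.Agent.Lib.Chev.CT.Phan.Blocks

set_option autoImplicit false

namespace CfsgLib.Chev.CT.Phan

open Matrix Cfsg

universe u v

variable {F : Type u} [Field F] [Fintype F] {q : ℕ} {G : Type v} [Group G]

/-- Two copies of `SU 2` with commuting tori generating a copy of `SU 3` form a standard pair. -/
theorem standard_of_phan (hF : Fintype.card F = q ^ 2) (hq : 3 < q) {A B : Subgroup G}
    (eA : SU 2 F q ≃* A) (eB : SU 2 F q ≃* B) (ee : ↥(A ⊔ B) ≃* SU 3 F q)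
    {DA DB : Subgroup G} (hA : DA ≤ A ∧ IsCyclic DA ∧ Nat.card DA = q + 1)
    (hB : DB ≤ B ∧ IsCyclic DB ∧ Nat.card DB = q + 1) (hD : ∀ x ∈ DA, ∀ y ∈ DB, x * y = y * x) :
    IsStandardUnitaryPair (A ⊔ B) A B F q := by
  obtain ⟨U⟩ := UF.of_card (F := F) hF
  have hα := (U.params hF hq).exists_alpha
  set W := A ⊔ B with hW
  have hAW : A ≤ W := le_sup_left
  have hBW : B ≤ W := le_sup_right
  set ιA : SU 2 F q →* SU 3 F q := ee.toMonoidHom.comp ((Subgroup.inclusion hAW).comp eA.toMonoidHom)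
  set ιB : SU 2 F q →* SU 3 F q := ee.toMonoidHom.comp ((Subgroup.inclusion hBW).comp eB.toMonoidHom)
  have hiA : Function.Injective ιA := ee.injective.comp ((Subgroup.inclusion_injective hAW).comp eA.injective)
  have hiB : Function.Injective ιB := ee.injective.comp ((Subgroup.inclusion_injective hBW).comp eB.injective)
  obtain ⟨xA, hxA, hrA⟩ := U.exists_Fx hF hq ιA hiA
  obtain ⟨xB, hxB, hrB⟩ := U.exists_Fx hF hq ιB hiB
  have memA : ∀ z : W, ee z ∈ ιA.range ↔ (z : G) ∈ A := fun z => by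
    constructor
    · rintro ⟨a, ha⟩
      rw [← ee.injective ha]; exact (eA a).2
    · exact fun hz => ⟨eA.symm ⟨_, hz⟩, congrArg ee (Subtype.ext (by simp))⟩
  have memB : ∀ z : W, ee z ∈ ιB.range ↔ (z : G) ∈ B := fun z => by
    constructor
    · rintro ⟨a, ha⟩
      rw [← ee.injective ha]; exact (eB a).2
    · exact fun hz => ⟨eB.symm ⟨_, hz⟩, congrArg ee (Subtype.ext (by simp))⟩
  have hind : ∀ c : F, xB ≠ c • xA := by
    intro c hc
    have hc0 : c ≠ 0 := fun e => by rw [hc, e, zero_smul, U.zero_l] at hxB; exact zero_ne_one hxB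
    have hFx : Fx F q 3 xB = Fx F q 3 xA := by
      ext g; simp only [mem_Fx, hc, act_smul]
      exact ⟨fun h => smul_right_injective _ hc0 h, fun h => by rw [h]⟩
    have hAB : A = B := by
      ext a
      constructor
      · exact fun ha => (memB ⟨a, hAW ha⟩).1 (by rw [hrB, hFx, ← hrA]; exact (memA _).2 ha)
      · exact fun ha => (memA ⟨a, hBW ha⟩).1 (by rw [hrA, ← hFx, ← hrB]; exact (memB _).2 ha)
    have hall : ∀ g : SU 3 F q, act g xA = xA := fun g => by
      obtain ⟨z, rfl⟩ := ee.surjective g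
      have hz : (z : G) ∈ A := by
        have : W ≤ A := sup_le le_rfl hAB.ge
        exact this z.2
      rw [← mem_Fx, ← hrA]; exact (memA z).2 hz
    obtain ⟨g, hg⟩ := U.exists_move hα hxA
    have h01 : U.nm (0 : F) + U.nm 1 = 1 := by rw [U.nm_zero, U.nm_one, zero_add]
    set h := embSU (N := 3) 1 (by norm_num) U (U.su2 0 1 h01)
    have := hall (g * h * g⁻¹)
    rw [← hg, act_mul, act_inv_act, act_mul] at this
    have h2 : act h (ev F 3 2) = ev F 3 2 := by
      have := congrArg (act g⁻¹) this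
      rwa [act_inv_act, act_inv_act] at this
    rw [show ev F 3 2 = ev F 3 (1 + 1) from rfl, U.su2_act_ev1] at h2
    have := congrFun h2 ⟨2, by norm_num⟩
    simp [ev] at this
  obtain ⟨hA1, hA2, hA3⟩ := hA
  obtain ⟨hB1, hB2, hB3⟩ := hB
  obtain ⟨⟨dA, hdA⟩, hgA⟩ := IsCyclic.exists_ofOrder_eq_natCard (α := DA)
  obtain ⟨⟨dB, hdB⟩, hgB⟩ := IsCyclic.exists_ofOrder_eq_natCard (α := DB)
  rw [Subgroup.orderOf_mk, hA3] at hgA
  rw [Subgroup.orderOf_mk, hB3] at hgB
  set a' := ee ⟨dA, hAW (hA1 hdA)⟩ with ha'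
  set b' := ee ⟨dB, hBW (hB1 hdB)⟩ with hb'
  have hao : orderOf a' = q + 1 := by rw [ha', ee.orderOf_eq, Subgroup.orderOf_mk, hgA]
  have hbo : orderOf b' = q + 1 := by rw [hb', ee.orderOf_eq, Subgroup.orderOf_mk, hgB]
  have hafix : act a' xA = xA := by rw [← mem_Fx, ← hrA]; exact (memA _).2 (hA1 hdA)
  have hbfix : act b' xB = xB := by rw [← mem_Fx, ← hrB]; exact (memB _).2 (hB1 hdB)
  have hcomm : a' * b' = b' * a' := by
    rw [ha', hb', ← map_mul, ← map_mul]; exact congrArg ee (Subtype.ext (hD _ hdA _ hdB))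
  have horth : hf q xB xA = 0 := by
    by_contra hne
    obtain ⟨c, hc⟩ := U.fixed_line hF hα hxB hbfix hbo (v := act a' xB)
      (by rw [← act_mul, ← hcomm, act_mul, hbfix])
    have h := hf_act a' xB xA
    rw [hc, hafix, U.smul_l] at h
    have hc1 : c = 1 := (mul_eq_right₀ hne).1 h
    rw [hc1, one_smul] at hc
    obtain ⟨c', hc'⟩ := U.fixed_line hF hα hxA hafix hao hc
    exact hind c' hc'
  obtain ⟨g, hg2, hg0⟩ := U.exists_move_pair hα hxA hxB horth
  refine Or.inl ⟨(MulAut.conj g).trans ee.symm, ?_, ?_⟩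
  · rw [U.suBlock_eq 0 (by norm_num) (fun k => by fin_cases k <;> simp), FB02_eq]
    ext y
    rw [Subgroup.mem_map]
    constructor
    · rintro ⟨z, hz, rfl⟩
      refine (memA (ee.symm (MulAut.conj g z))).1 ?_
      rw [MulEquiv.apply_symm_apply, hrA, ← hg2, ← map_conj_Fx]
      exact Subgroup.mem_map_of_mem _ hz
    · intro hy
      have h := (memA ⟨y, hAW hy⟩).2 hy
      rw [hrA, ← hg2, ← map_conj_Fx, Subgroup.mem_map] at h
      obtain ⟨z, hz, e⟩ := h
      refine ⟨z, hz, ?_⟩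
      show ((ee.symm (MulAut.conj g z) : W) : G) = y
      rw [show MulAut.conj g z = ee ⟨y, hAW hy⟩ from e, MulEquiv.symm_apply_apply]
  · rw [U.suBlock_eq 1 (by norm_num) (fun k => by fin_cases k <;> simp), FB13_eq]
    ext y
    rw [Subgroup.mem_map]
    constructor
    · rintro ⟨z, hz, rfl⟩
      refine (memB (ee.symm (MulAut.conj g z))).1 ?_
      rw [MulEquiv.apply_symm_apply, hrB, ← hg0, ← map_conj_Fx]
      exact Subgroup.mem_map_of_mem _ hz
    · intro hy
      have h := (memB ⟨y, hBW hy⟩).2 hy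
      rw [hrB, ← hg0, ← map_conj_Fx, Subgroup.mem_map] at h
      obtain ⟨z, hz, e⟩ := h
      refine ⟨z, hz, ?_⟩
      show ((ee.symm (MulAut.conj g z) : W) : G) = y
      rw [show MulAut.conj g z = ee ⟨y, hBW hy⟩ from e, MulEquiv.symm_apply_apply]

/-- Phan's theorem. -/
theorem phan_fin {n : ℕ} (hn : 2 ≤ n) (hq : 3 < q) (hF : Fintype.card F = q ^ 2)
    (U : Fin n → Subgroup G) (e : ∀ i, ↥(Cfsg.SU 2 F q) ≃* ↥(U i)) (hgen : ⨆ i, U i = ⊤)
    (D : Fin n → Subgroup G) (hD : ∀ i, D i ≤ U i ∧ IsCyclic ↥(D i) ∧ Nat.card ↥(D i) = q + 1)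
    (h1 : ∀ i j : Fin n, (i : ℕ) + 2 ≤ j → ∀ x ∈ U i, ∀ y ∈ U j, x * y = y * x)
    (h2 : ∀ i j : Fin n, (i : ℕ) + 1 = j → Nonempty (↥(U i ⊔ U j) ≃* ↥(Cfsg.SU 3 F q)))
    (h3 : ∀ i j : Fin n, i ≠ j → ∀ x ∈ D i, ∀ y ∈ D j, x * y = y * x) :
    ∃ f : ↥(Cfsg.SU (n + 1) F q) →* G, Function.Surjective f := by
  rcases Nat.lt_or_ge n 3 with h | h
  · obtain rfl : n = 2 := by omega
    obtain ⟨ee⟩ := h2 0 1 rfl
    refine ⟨(U 0 ⊔ U 1).subtype.comp ee.symm.toMonoidHom, ?_⟩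
    have htop : U 0 ⊔ U 1 = ⊤ := top_le_iff.1 (hgen.ge.trans (iSup_le fun i => by
      fin_cases i
      · exact le_sup_left
      · exact le_sup_right))
    intro y
    obtain ⟨z, hz⟩ := ee.symm.surjective ⟨y, htop ▸ Subgroup.mem_top y⟩
    exact ⟨z, congrArg Subtype.val hz⟩
  · refine weak_phan_fin hF hq h U (fun i j => U i ⊔ U j) h1 (fun i j hij => ?_) ?_
    · obtain ⟨ee⟩ := h2 i j hij
      exact standard_of_phan hF hq (e i) (e j) ee (hD i) (hD j)
        (h3 i j fun e0 => by subst e0; omega)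
    · rw [hgen, top_sup_eq]

end CfsgLib.Chev.CT.Phan
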